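import Cfsg.Agent.Lib.Small.Phan.Induct
import Cfsg.Agent.Lib.Small.PSL2
import Cfsg.Agent.S0281
import Cfsg.Agent.Lib.Small.UCover.Step

/-!
Automorphisms of the plane group preserving the diagonal torus, and alignment of a chain of three-dimensional
groups.
-/

set_option autoImplicit false
set_option linter.unusedSectionVars false
set_option linter.style.haveILetI false

namespace Cfsg.Agent.Small.Phan

open Matrix Cfsg.Agent.Small.Unitary Cfsg.Agent.Small.UCover Cfsg.Agent.Small.SUPres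

universe u

variable {F : Type u} [Field F] [Fintype F] [StarRing F] {q : ℕ} (hstar : ∀ x : F, star x = x ^ q)

theorem eq_of_mat {n : ℕ} {g h : Cfsg.SU n F q} (e : g.1.1 = h.1.1) : g = h := Subtype.ext (Subtype.ext e)

theorem eq_of_vec {g h : Cfsg.SU 3 F q} (e : ∀ x y z : F, act g ![x, y, z] = act h ![x, y, z]) : g = h :=
  eq_of_single fun i => by
    have : (Pi.single i (1 : F) : Fin 3 → F) =
        ![Pi.single (M := fun _ : Fin 3 => F) i 1 0, Pi.single (M := fun _ : Fin 3 => F) i 1 1,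
          Pi.single (M := fun _ : Fin 3 => F) i 1 2] := by funext j; fin_cases j <;> rfl
    rw [this]; exact e _ _ _

/-- The entries of an element of the plane group. -/
theorem entries (hst : ∀ x : F, star x = x ^ q) (x : Cfsg.SU 2 F q) :
    x.1.1 1 1 = star (x.1.1 0 0) ∧ x.1.1 1 0 = -star (x.1.1 0 1) ∧
      star (x.1.1 0 0) * x.1.1 0 0 + star (x.1.1 0 1) * x.1.1 0 1 = 1 := by
  have h := conjTranspose_mul_self hst x
  have hd := x.1.2
  rw [Matrix.det_fin_two] at hd
  have hm : ∀ i j, (x.1.1ᴴ * x.1.1) i j = (1 : Matrix (Fin 2) (Fin 2) F) i j := fun i j => by rw [h]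
  have e00 := hm 0 0
  have e01 := hm 0 1
  have e11 := hm 1 1
  simp [Matrix.mul_apply, Fin.sum_univ_two] at e00 e01 e11
  have a : x.1.1 1 1 = star (x.1.1 0 0) := by
    linear_combination (star (x.1.1 0 0)) * hd - (x.1.1 1 1) * e00 + (x.1.1 1 0) * e01
  have e10 : star (x.1.1 0 1) * x.1.1 0 0 + star (x.1.1 1 1) * x.1.1 1 0 = 0 := by
    have := congrArg star e01
    simp only [star_add, star_mul', star_star, star_zero] at this
    linear_combination this
  have b : x.1.1 1 0 = -star (x.1.1 0 1) := by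
    linear_combination -(star (x.1.1 0 1)) * hd - (x.1.1 1 0) * e11 + (x.1.1 1 1) * e10
  refine ⟨a, b, ?_⟩
  refine Eq.trans ?_ e00
  rw [b, star_neg, star_star]; ring

/-- A diagonal element of the plane group. -/
noncomputable def dia (c : F) (hc : star c * c = 1) : Cfsg.SU 2 F q :=
  mkSU hstar !![c, 0; 0, star c]
    (by
      ext i j
      fin_cases i <;> fin_cases j <;> simp [Matrix.mul_apply, Fin.sum_univ_two, hc, mul_comm c (star c)])
    (by rw [Matrix.det_fin_two_of]; linear_combination hc)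

theorem dia_val (c : F) (hc : star c * c = 1) : (dia (q := q) hstar c hc).1.1 = !![c, 0; 0, star c] := rfl

/-- Diagonal. -/
def IsDia (x : Cfsg.SU 2 F q) : Prop := x.1.1 0 1 = 0

include hstar in
theorem IsDia.low {x : Cfsg.SU 2 F q} (h : IsDia x) : x.1.1 1 0 = 0 := by
  rw [(entries hstar x).2.1, h, star_zero, neg_zero]

include hstar in
theorem exists_zeta (hF : Fintype.card F = q ^ 2) (hq : 3 ≤ q) :
    ∃ ζ : F, star ζ * ζ = 1 ∧ ζ ^ 2 ≠ 1 := by
  obtain ⟨z, hz⟩ := IsCyclic.exists_ofOrder_eq_natCard (α := Fˣ)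
  rw [Nat.card_units, Nat.card_eq_fintype_card, hF] at hz
  obtain ⟨m, rfl⟩ : ∃ m, q = m + 1 := ⟨q - 1, by omega⟩
  rw [show (m + 1) ^ 2 - 1 = (m + 2) * m by rw [show (m + 1) ^ 2 = (m + 2) * m + 1 by ring]; omega] at hz
  refine ⟨(z : F) ^ m, ?_, fun h => ?_⟩
  · rw [hstar, ← pow_succ, ← pow_mul, ← Units.val_pow_eq_pow_val,
      show m * (m + 1 + 1) = (m + 2) * m by ring, ← hz, pow_orderOf_eq_one, Units.val_one]
  · rw [← pow_mul, ← Units.val_pow_eq_pow_val, Units.val_eq_one] at h
    have := Nat.le_of_dvd (by omega) (orderOf_dvd_of_pow_eq_one h)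
    rw [hz] at this
    nlinarith

/-! ### The plane group is a special linear group -/

section Model

variable (hF : Fintype.card F = q ^ 2)
include hstar hF

theorem exists_frame : ∃ (θ : F) (P : Matrix (Fin 2) (Fin 2) F), P.det ≠ 0 ∧ θ ≠ 0 ∧ star θ = -θ ∧
    Pᴴ * P = θ • !![0, 1; -1, 0] := by
  obtain ⟨θ, hθ0, hθ⟩ := exists_skew hstar hF
  obtain ⟨e, he⟩ := exists_neg_norm hstar hF (r := -1) (by rw [star_neg, star_one])
  obtain ⟨ζ, hζ1, hζ⟩ := exists_norm_one_ne hstar hF
  have he0 : e ≠ 0 := fun h => by rw [h, mul_zero] at he; exact one_ne_zero (neg_eq_zero.1 he.symm)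
  have hm : star ζ * e * star e + 1 = 1 - star ζ := by linear_combination star ζ * he
  have hne : 1 + star e * (e * ζ) ≠ 0 := fun h => hζ1 (by linear_combination -h + ζ * he)
  set l := θ / (1 + star e * (e * ζ)) with hl
  have hls : l * (1 + star e * (e * ζ)) = θ := div_mul_cancel₀ _ hne
  have hls' := congrArg star hls
  rw [star_mul', star_add, star_one, star_mul', star_mul', star_star, hθ] at hls'
  refine ⟨θ, !![1, l; e, l * (e * ζ)], ?_, hθ0, hθ, ?_⟩
  · rw [Matrix.det_fin_two_of]
    intro h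
    have hl0 : l ≠ 0 := fun h0 => hθ0 (by rw [← hls, h0, zero_mul])
    have : l * e * (ζ - 1) = 0 := by linear_combination h
    rcases mul_eq_zero.1 this with h' | h'
    · exact (mul_ne_zero hl0 he0) h'
    · exact hζ1 (sub_eq_zero.1 h')
  · ext i j
    fin_cases i <;> fin_cases j <;> simp [Matrix.mul_apply, Fin.sum_univ_two]
    · linear_combination he
    · linear_combination hls
    · linear_combination hls'
    · linear_combination (star l * l * star ζ * ζ) * he - (star l * l) * hζ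

/-- The plane group as a special linear group over the fixed field. -/
theorem exists_model : ∃ (L : Subfield F) (P : Matrix (Fin 2) (Fin 2) F)
    (e : Matrix.SpecialLinearGroup (Fin 2) L ≃* Cfsg.SU 2 F q), Nat.card L = q ∧ P.det ≠ 0 ∧
      ∀ A, (e A).1.1 * P = P * A.1.map (L.subtype) := by
  classical
  obtain ⟨θ, P, hP, hθ0, hθ, hPP⟩ := exists_frame hstar hF
  let L : Subfield F := (starRingEnd F).eqLocusField (RingHom.id F)
  have hL : Nat.card L = q := by
    rw [← card_skew hstar hF]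
    refine Nat.card_congr ⟨fun a => ⟨a.1 * θ, ?_⟩, fun s => ⟨s.1 / θ, ?_⟩, fun a => ?_, fun s => ?_⟩
    · rw [star_mul', show star a.1 = a.1 from a.2, hθ, mul_neg]
    · show star (s.1 / θ) = s.1 / θ
      rw [star_div₀, s.2, hθ, neg_div_neg_eq]
    · exact Subtype.ext (mul_div_cancel_right₀ a.1 hθ0)
    · exact Subtype.ext (div_mul_cancel₀ s.1 hθ0)
  haveI : Fintype L := Fintype.ofFinite L
  have hPu : IsUnit P.det := isUnit_iff_ne_zero.2 hP
  have hdA : ∀ A : Matrix.SpecialLinearGroup (Fin 2) L, (A.1.map L.subtype).det = 1 := fun A => by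
    rw [show A.1.map L.subtype = (L.subtype).mapMatrix A.1 from rfl, ← RingHom.map_det, A.2, map_one]
  have hJ : ∀ A : Matrix.SpecialLinearGroup (Fin 2) L,
      (A.1.map L.subtype)ᴴ * (!![0, 1; -1, 0] : Matrix (Fin 2) (Fin 2) F) * A.1.map L.subtype = !![0, 1; -1, 0] := by
    intro A
    have hd := hdA A
    rw [Matrix.det_fin_two] at hd
    have hs : ∀ i j, star ((A.1.map L.subtype) i j) = (A.1.map L.subtype) i j := fun i j => (A.1 i j).2
    ext i j
    fin_cases i <;> fin_cases j <;>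
      simp only [Matrix.mul_apply, Fin.sum_univ_two, Matrix.conjTranspose_apply, hs] <;> simp <;>
      simp at hd <;> first | linear_combination hd | linear_combination -hd | ring1
  let f : Matrix.SpecialLinearGroup (Fin 2) L →* Cfsg.SU 2 F q :=
    { toFun := fun A => mkSU hstar (P * A.1.map L.subtype * P⁻¹)
        (by
          have e1 : (P⁻¹)ᴴ * (Pᴴ * P) * P⁻¹ = 1 := by
            rw [show (P⁻¹)ᴴ * (Pᴴ * P) * P⁻¹ = (P * P⁻¹)ᴴ * (P * P⁻¹) by
              simp only [Matrix.conjTranspose_mul, Matrix.mul_assoc], Matrix.mul_nonsing_inv P hPu]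
            simp
          rw [show (P * A.1.map L.subtype * P⁻¹)ᴴ * (P * A.1.map L.subtype * P⁻¹) =
            (P⁻¹)ᴴ * ((A.1.map L.subtype)ᴴ * (Pᴴ * P) * A.1.map L.subtype) * P⁻¹ by
            simp only [Matrix.conjTranspose_mul, Matrix.mul_assoc], hPP, Matrix.mul_smul, Matrix.smul_mul, hJ A,
            ← hPP]
          exact e1)
        (by rw [Matrix.det_conj ((Matrix.isUnit_iff_isUnit_det _).2 hPu)]; exact hdA A)
      map_one' := eq_of_mat (by
        show P * (1 : Matrix (Fin 2) (Fin 2) L).map L.subtype * P⁻¹ = 1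
        rw [Matrix.map_one L.subtype (map_zero _) (map_one _), Matrix.mul_one, Matrix.mul_nonsing_inv P hPu])
      map_mul' := fun A B => eq_of_mat (by
        show P * (A.1 * B.1).map L.subtype * P⁻¹ =
          (P * A.1.map L.subtype * P⁻¹) * (P * B.1.map L.subtype * P⁻¹)
        rw [Matrix.map_mul]
        simp only [Matrix.mul_assoc]
        rw [← Matrix.mul_assoc P⁻¹ P, Matrix.nonsing_inv_mul P hPu, Matrix.one_mul]) }
  have hfv : ∀ A, (f A).1.1 * P = P * A.1.map L.subtype := fun A => by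
    show P * A.1.map L.subtype * P⁻¹ * P = _
    rw [Matrix.mul_assoc, Matrix.nonsing_inv_mul P hPu, Matrix.mul_one]
  have hinj : Function.Injective f := fun A B h => by
    have h' := (hfv A).symm.trans ((congrArg (fun g : Cfsg.SU 2 F q => g.1.1 * P) h).trans (hfv B))
    have h'' := congrArg (fun X => P⁻¹ * X) h'
    simp only [← Matrix.mul_assoc, Matrix.nonsing_inv_mul P hPu, Matrix.one_mul] at h''
    exact Subtype.ext (Matrix.map_injective L.subtype.injective h'')
  have hsurj : Function.Surjective f := by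
    haveI : Finite (Cfsg.SU 2 F q) := Subtype.finite
    rw [Nat.card_eq_fintype_card] at hL
    obtain ⟨e0⟩ := Cfsg.Agent.S0281.result hF hL
    exact ((Nat.bijective_iff_injective_and_card f).2 ⟨hinj, (Nat.card_congr e0.toEquiv).symm⟩).2
  exact ⟨L, P, MulEquiv.ofBijective f ⟨hinj, hsurj⟩, hL, hP, hfv⟩

/-- The plane group is perfect. -/
theorem perfect_two (hq : 4 ≤ q) : commutator (Cfsg.SU 2 F q) = ⊤ := by
  classical
  obtain ⟨L, P, e, hL, -, -⟩ := exists_model hstar hF
  haveI : Fintype L := Fintype.ofFinite L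
  rw [Nat.card_eq_fintype_card] at hL
  obtain ⟨a, ha0, ha⟩ : ∃ a : L, a ≠ 0 ∧ a ^ 2 ≠ 1 := by
    by_contra hno
    push Not at hno
    have hsub : (Finset.univ : Finset L) ⊆ {0, 1, -1} := fun z _ => by
      by_cases hz : z = 0
      · simp [hz]
      · rcases sq_eq_one_iff.1 (hno z hz) with h | h <;> simp [h]
    have := (Finset.card_le_card hsub).trans Finset.card_le_three
    rw [Finset.card_univ] at this
    omega
  rw [eq_top_iff]
  intro x _
  have hx : e.symm x ∈ commutator (Matrix.SpecialLinearGroup (Fin 2) L) := by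
    rw [Matrix.SL2.commutator_eq_top ha0 ha]; exact Subgroup.mem_top _
  have := Subgroup.mem_map_of_mem e.toMonoidHom hx
  rw [commutator_def, Subgroup.map_commutator, ← MonoidHom.range_eq_map, MonoidHom.range_eq_top.2 e.surjective] at this
  simpa [commutator_def] using this

end Model

/-! ### Automorphisms -/

include hstar in
/-- An automorphism of a field with a model group is semilinear. -/
theorem exists_semilinear (hF : Fintype.card F = q ^ 2) (hq : 4 ≤ q) {p : ℕ} [Fact p.Prime] [CharP F p]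
    (α : MulAut (Cfsg.SU 2 F q)) :
    ∃ (M : Matrix (Fin 2) (Fin 2) F) (i : ℕ), M.det ≠ 0 ∧
      ∀ x, (α x).1.1 * M = M * x.1.1.map (iterateFrobenius F p i) := by
  classical
  obtain ⟨L, P, e, hL, hP, he⟩ := exists_model hstar hF
  haveI : Fintype L := Fintype.ofFinite L
  haveI : CharP L p := inferInstance
  rw [Nat.card_eq_fintype_card] at hL
  let β : MulAut (Matrix.SpecialLinearGroup (Fin 2) L) := (e.trans α).trans e.symm
  obtain ⟨f, hf⟩ : ∃ f : ℕ, Fintype.card L = p ^ f := by
    obtain ⟨k, -, hk⟩ := FiniteField.card L p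
    exact ⟨k, hk⟩
  obtain ⟨g, σ, hg⟩ := PSL2.aut_eq hf (PSL2.descend β)
  have hperf : commutator (Matrix.SpecialLinearGroup (Fin 2) L) = ⊤ := by
    have h := perfect_two hstar hF hq
    rw [eq_top_iff]
    intro x _
    have hx : e x ∈ commutator (Cfsg.SU 2 F q) := by rw [h]; exact Subgroup.mem_top _
    have := Subgroup.mem_map_of_mem e.symm.toMonoidHom hx
    rw [commutator_def, Subgroup.map_commutator, ← MonoidHom.range_eq_map,
      MonoidHom.range_eq_top.2 e.symm.surjective] at this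
    simpa [commutator_def] using this
  set γ : MulAut (Matrix.SpecialLinearGroup (Fin 2) L) := PSL2.conjSL g * PSL2.fieldSL σ with hγ
  have hc : ∀ A, γ.symm (β A) * A⁻¹ ∈ Subgroup.center (Matrix.SpecialLinearGroup (Fin 2) L) := fun A => by
    rw [← QuotientGroup.eq_one_iff, QuotientGroup.mk_mul, QuotientGroup.mk_inv, mul_inv_eq_one]
    have h1 : PSL2.descend γ⁻¹ * PSL2.descend β = 1 := by
      rw [hg, map_inv, hγ, map_mul]; exact inv_mul_cancel _
    rw [← map_mul] at h1
    exact DFunLike.congr_fun h1 (QuotientGroup.mk A)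
  have hid : ∀ A, γ.symm (β A) = A := by
    let z : Matrix.SpecialLinearGroup (Fin 2) L →* ↥(Subgroup.center (Matrix.SpecialLinearGroup (Fin 2) L)) :=
      { toFun := fun A => ⟨_, hc A⟩
        map_one' := Subtype.ext (by simp)
        map_mul' := fun A B => Subtype.ext (by
          show γ.symm (β (A * B)) * (A * B)⁻¹ = γ.symm (β A) * A⁻¹ * (γ.symm (β B) * B⁻¹)
          rw [map_mul, map_mul, _root_.mul_inv_rev, mul_assoc (γ.symm (β A)), ← mul_assoc (γ.symm (β B)),
            ← Subgroup.mem_center_iff.1 (hc B) A⁻¹, ← mul_assoc]) }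
    have hker : z.ker = ⊤ := by
      rw [eq_top_iff, ← hperf, commutator_def, Subgroup.commutator_le]
      intro a _ b _
      rw [MonoidHom.mem_ker, map_commutatorElement, commutatorElement_eq_one_iff_mul_comm]
      exact Subtype.ext (Subgroup.mem_center_iff.1 (z b).2 (z a).1)
    intro A
    have : z A = 1 := MonoidHom.mem_ker.1 (by rw [hker]; exact Subgroup.mem_top A)
    exact mul_inv_eq_one.1 (congrArg Subtype.val this)
  have hβ : ∀ A, β A = γ A := fun A => γ.symm.injective (by rw [hid, MulEquiv.symm_apply_apply])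
  obtain ⟨i, hi⟩ : ∃ i : ℕ, ∀ x : L, σ x = x ^ p ^ i := by
    letI : Algebra (ZMod p) L := ZMod.algebra L p
    let τ : L ≃ₐ[ZMod p] L := AlgEquiv.ofRingEquiv (f := σ) fun a => by
      exact RingHom.congr_fun (RingHom.ext_zmod (σ.toRingHom.comp (algebraMap (ZMod p) L)) (algebraMap (ZMod p) L)) a
    obtain ⟨k, hk⟩ := (FiniteField.bijective_frobeniusAlgEquivOfAlgebraic_pow (ZMod p) L).2 τ
    refine ⟨k, fun x => ?_⟩
    show τ x = _
    rw [← hk]
    show (FiniteField.frobeniusAlgEquivOfAlgebraic (ZMod p) L ^ (k : ℕ)) x = _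
    rw [AlgEquiv.coe_pow, FiniteField.coe_frobeniusAlgEquivOfAlgebraic_iterate, Fintype.card_eq_nat_card, Nat.card_zmod]
  set φ := iterateFrobenius F p i with hφ
  let Φ := RingHom.mapMatrix (m := Fin 2) φ
  have hΦ : (Φ P).det ≠ 0 := by
    rw [show (Φ P).det = φ P.det from (RingHom.map_det φ P).symm]
    exact fun h => hP (φ.injective (h.trans (map_zero φ).symm))
  have hΦu : IsUnit (Φ P).det := isUnit_iff_ne_zero.2 hΦ
  refine ⟨P * g.val.map L.subtype * (Φ P)⁻¹, i, ?_, fun x => ?_⟩
  · rw [Matrix.det_mul, Matrix.det_mul, show (g.val.map L.subtype).det = L.subtype g.val.det from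
      (RingHom.map_det L.subtype g.val).symm, Matrix.det_nonsing_inv]
    refine mul_ne_zero (mul_ne_zero hP fun h => ?_) (by simpa using hΦ)
    exact (Matrix.isUnit_iff_isUnit_det g.val).1 g.isUnit |>.ne_zero (L.subtype.injective (h.trans (map_zero _).symm))
  obtain ⟨A, rfl⟩ := e.surjective x
  have e1 : (α (e A)).1.1 * P = P * (β A).1.map L.subtype := by
    rw [← he]; simp [β]
  have e2 : (β A).1.map L.subtype * g.val.map L.subtype = g.val.map L.subtype * Φ (A.1.map L.subtype) := by
    rw [hβ, hγ, MulAut.mul_apply, PSL2.conjSL_val, ← Matrix.map_mul, Matrix.mul_assoc, Units.inv_mul, Matrix.mul_one,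
      Matrix.map_mul]
    congr 1
    ext a b
    show ((σ (A.1 a b) : L) : F) = φ ((A.1 a b : L) : F)
    rw [hi, hφ, iterateFrobenius_def]
    rfl
  have e3 : Φ (e A).1.1 * Φ P = Φ P * Φ (A.1.map L.subtype) := by rw [← map_mul, he, map_mul]
  show (α (e A)).1.1 * _ = _ * Φ (e A).1.1
  rw [← Matrix.mul_assoc, ← Matrix.mul_assoc, e1, Matrix.mul_assoc P, e2, ← Matrix.mul_assoc P]
  have e4 : Φ (A.1.map L.subtype) * (Φ P)⁻¹ = (Φ P)⁻¹ * Φ (e A).1.1 := by
    have h := congrArg (fun X => (Φ P)⁻¹ * X * (Φ P)⁻¹) e3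
    simp only [Matrix.mul_assoc, Matrix.mul_nonsing_inv _ hΦu, Matrix.mul_one] at h
    rw [← Matrix.mul_assoc (Φ P)⁻¹ (Φ P), Matrix.nonsing_inv_mul _ hΦu, Matrix.one_mul] at h
    exact h.symm
  simp only [Matrix.mul_assoc]
  rw [e4]

include hstar in
/-- An automorphism preserving the diagonal is monomial. -/
theorem exists_diag_form (hF : Fintype.card F = q ^ 2) (hq : 4 ≤ q) (α : MulAut (Cfsg.SU 2 F q))
    (hα : ∀ x, IsDia x → IsDia (α x)) :
    ∃ (c : F) (φ : F →+* F), star c * c = 1 ∧ (∀ a, φ (star a) = star (φ a)) ∧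
      ∀ x, (α x).1.1 = !![φ (x.1.1 0 0), c * φ (x.1.1 0 1); star c * φ (x.1.1 1 0), φ (x.1.1 1 1)] := by
  classical
  obtain ⟨p, hp⟩ := CharP.exists F
  haveI := hp
  haveI : Fact p.Prime := ⟨CharP.char_is_prime F p⟩
  haveI : ExpChar F p := ExpChar.prime (CharP.char_is_prime F p)
  obtain ⟨M, i, hM, hMx⟩ := exists_semilinear hstar hF hq (p := p) α
  set φ₀ := iterateFrobenius F p i with hφ₀
  have hcomm : ∀ a, φ₀ (star a) = star (φ₀ a) := fun a => by
    simp only [hφ₀, hstar, iterateFrobenius_def]; rw [← pow_mul, ← pow_mul, mul_comm]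
  obtain ⟨ζ, hζ, hζ2⟩ := exists_zeta hstar hF (by omega)
  have hd := hα (dia hstar ζ hζ) (by show (!![ζ, 0; 0, star ζ] : Matrix (Fin 2) (Fin 2) F) 0 1 = 0; simp)
  have hrel : ∀ (x : Cfsg.SU 2 F q) (a b : Fin 2),
      (α x).1.1 a 0 * M 0 b + (α x).1.1 a 1 * M 1 b = M a 0 * φ₀ (x.1.1 0 b) + M a 1 * φ₀ (x.1.1 1 b) :=
    fun x a b => by
      have := congrFun (congrFun (hMx x) a) b
      simpa [Matrix.mul_apply, Fin.sum_univ_two] using this
  have hz : φ₀ ζ ≠ φ₀ (star ζ) := fun h => hζ2 (by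
    have := φ₀.injective h
    linear_combination ζ * this + hζ)
  have r00 := hrel (dia hstar ζ hζ) 0 0
  have r01 := hrel (dia hstar ζ hζ) 0 1
  have r10 := hrel (dia hstar ζ hζ) 1 0
  have r11 := hrel (dia hstar ζ hζ) 1 1
  rw [hd, hd.low hstar] at *
  simp [dia_val] at r00 r01 r10 r11
  have h0 : M 0 0 * M 0 1 = 0 := by
    refine mul_left_cancel₀ (sub_ne_zero.2 hz) ?_
    rw [mul_zero]; linear_combination (-(M 0 1)) * r00 + M 0 0 * r01
  have h1 : M 1 0 * M 1 1 = 0 := by
    refine mul_left_cancel₀ (sub_ne_zero.2 hz) ?_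
    rw [mul_zero]; linear_combination (-(M 1 1)) * r10 + M 1 0 * r11
  -- it suffices to have a diagonal matrix
  suffices key : ∃ (a b : F) (φ : F →+* F), a ≠ 0 ∧ b ≠ 0 ∧ (∀ z, φ (star z) = star (φ z)) ∧
      ∀ x, (α x).1.1 * !![a, 0; 0, b] = !![a, 0; 0, b] * x.1.1.map φ by
    obtain ⟨a, b, φ, ha, hb, hφ, hx⟩ := key
    have hw := hx (w2 hstar)
    obtain ⟨-, hw10, hwn⟩ := entries hstar (α (w2 hstar))
    have w00 := congrFun (congrFun hw 0) 0
    have w01 := congrFun (congrFun hw 0) 1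
    rw [show (w2 (q := q) hstar).1.1 = !![0, 1; -1, 0] from rfl] at w00 w01
    simp [Matrix.mul_apply, Fin.sum_univ_two, ha] at w00 w01
    rw [w00, mul_zero, zero_add] at hwn
    have hc : star (a / b) * (a / b) = 1 := by
      rwa [show a / b = (α (w2 hstar)).1.1 0 1 from by rw [← w01, mul_div_assoc, div_self hb, mul_one]]
    refine ⟨a / b, φ, hc, hφ, fun x => ?_⟩
    have hsc : star (a / b) = b / a := by
      refine mul_right_cancel₀ (div_ne_zero ha hb) (hc.trans ?_)
      field_simp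
    have e00 := congrFun (congrFun (hx x) 0) 0
    have e01 := congrFun (congrFun (hx x) 0) 1
    have e10 := congrFun (congrFun (hx x) 1) 0
    have e11 := congrFun (congrFun (hx x) 1) 1
    simp [Matrix.mul_apply, Fin.sum_univ_two] at e00 e01 e10 e11
    rw [hsc]
    ext r s
    fin_cases r <;> fin_cases s <;> simp
    · exact mul_right_cancel₀ ha (by linear_combination e00)
    · field_simp; linear_combination e01
    · field_simp; linear_combination e10
    · exact mul_right_cancel₀ hb (by linear_combination e11)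
  rw [Matrix.det_fin_two] at hM
  rcases mul_eq_zero.1 h0 with h | h
  · -- antidiagonal
    have h01 : M 0 1 ≠ 0 := fun h' => hM (by rw [h, h']; ring)
    have h10 : M 1 0 ≠ 0 := fun h' => hM (by rw [h, h']; ring)
    have h11 : M 1 1 = 0 := (mul_eq_zero.1 h1).resolve_left h10
    refine ⟨M 0 1, -M 1 0, (starRingEnd F).comp φ₀, h01, neg_ne_zero.2 h10, fun z => ?_, fun x => ?_⟩
    · simp [hcomm, starRingEnd_apply]
    obtain ⟨x11, x10, -⟩ := entries hstar x
    have e00 := hrel x 0 0
    have e01 := hrel x 0 1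
    have e10 := hrel x 1 0
    have e11 := hrel x 1 1
    simp [h, h11, x11, x10, hcomm] at e00 e01 e10 e11
    ext r s
    fin_cases r <;> fin_cases s <;> simp [Matrix.mul_apply, Fin.sum_univ_two, starRingEnd_apply, x11, x10, hcomm]
    · linear_combination e01
    · linear_combination -e00
    · linear_combination e11
    · linear_combination e10
  · have h00 : M 0 0 ≠ 0 := fun h' => hM (by rw [h, h']; ring)
    have h11 : M 1 1 ≠ 0 := fun h' => hM (by rw [h, h']; ring)
    have h10 : M 1 0 = 0 := (mul_eq_zero.1 h1).resolve_right h11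
    refine ⟨M 0 0, M 1 1, φ₀, h00, h11, hcomm, fun x => ?_⟩
    rw [show (!![M 0 0, 0; 0, M 1 1] : Matrix (Fin 2) (Fin 2) F) = M by
      ext r s; fin_cases r <;> fin_cases s <;> simp [h, h10]]
    exact hMx x

set_option maxHeartbeats 1000000 in
include hstar in
/-- An automorphism of the three-dimensional group preserving both blocks. -/
theorem exists_extend (α : MulAut (Cfsg.SU 2 F q))
    (hform : ∃ (c : F) (φ : F →+* F), star c * c = 1 ∧ (∀ a, φ (star a) = star (φ a)) ∧
      ∀ x, (α x).1.1 = !![φ (x.1.1 0 0), c * φ (x.1.1 0 1); star c * φ (x.1.1 1 0), φ (x.1.1 1 1)]) :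
    ∃ β : MulAut (Cfsg.SU 3 F q), (∀ x, β (bA hstar x) = bA hstar (α x)) ∧
      ∀ x, ∃ y, β (bB hstar x) = bB hstar y := by
  classical
  obtain ⟨c, φ, hc, hφ, hform⟩ := hform
  have hc' : c * star c = 1 := by rw [mul_comm]; exact hc
  set D : Matrix (Fin 3) (Fin 3) F := Matrix.diagonal ![c, 1, 1]
  set D' : Matrix (Fin 3) (Fin 3) F := Matrix.diagonal ![star c, 1, 1]
  have hDD : D' * D = 1 := by
    rw [Matrix.diagonal_mul_diagonal, ← Matrix.diagonal_one]; congr 1
    funext i; fin_cases i <;> simp [hc]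
  have hD'D : D * D' = 1 := mul_eq_one_comm.1 hDD
  have hDs : Dᴴ = D' := by
    rw [Matrix.diagonal_conjTranspose]; congr 1
    funext i; fin_cases i <;> simp
  let Φ := RingHom.mapMatrix (m := Fin 3) φ
  have hΦs : ∀ X : Matrix (Fin 3) (Fin 3) F, (Φ X)ᴴ = Φ Xᴴ := fun X => by
    ext r s; exact (hφ _).symm
  let b : Cfsg.SU 3 F q →* Cfsg.SU 3 F q :=
    { toFun := fun g => mkSU hstar (D * Φ g.1.1 * D')
        (by
          rw [Matrix.conjTranspose_mul, Matrix.conjTranspose_mul, hΦs, hDs, ← hDs, Matrix.conjTranspose_conjTranspose,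
            hDs]
          rw [show D * (Φ g.1.1ᴴ * D') * (D * Φ g.1.1 * D') = D * Φ g.1.1ᴴ * (D' * D) * Φ g.1.1 * D' by
            simp only [Matrix.mul_assoc], hDD, Matrix.mul_one, Matrix.mul_assoc D (Φ _), ← map_mul,
            conjTranspose_mul_self hstar g, map_one, Matrix.mul_one, hD'D])
        (by
          rw [Matrix.det_mul, Matrix.det_mul, mul_right_comm, ← Matrix.det_mul, hD'D, Matrix.det_one, one_mul,
            show (Φ g.1.1).det = φ g.1.1.det from (RingHom.map_det φ _).symm, g.1.2, map_one])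
      map_one' := eq_of_mat (by
        show D * Φ 1 * D' = 1
        rw [map_one, Matrix.mul_one, hD'D])
      map_mul' := fun g h => eq_of_mat (by
        show D * Φ (g.1.1 * h.1.1) * D' = (D * Φ g.1.1 * D') * (D * Φ h.1.1 * D')
        rw [map_mul, show (D * Φ g.1.1 * D') * (D * Φ h.1.1 * D') = D * Φ g.1.1 * (D' * D) * Φ h.1.1 * D' by
          simp only [Matrix.mul_assoc], hDD, Matrix.mul_one]
        simp only [Matrix.mul_assoc]) }
  have hinj : Function.Injective b := fun g h e => eq_of_mat (by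
    have e' : D * Φ g.1.1 * D' = D * Φ h.1.1 * D' := congrArg (fun x : Cfsg.SU 3 F q => x.1.1) e
    have e'' := congrArg (fun X => D' * X * D) e'
    simp only [Matrix.mul_assoc, hDD, Matrix.mul_one] at e''
    simp only [← Matrix.mul_assoc, hDD, Matrix.one_mul] at e''
    exact Matrix.map_injective φ.injective e'')
  haveI : Finite (Cfsg.SU 3 F q) := Subtype.finite
  let β : MulAut (Cfsg.SU 3 F q) := MulEquiv.ofBijective b ⟨hinj, Finite.injective_iff_surjective.1 hinj⟩
  have matA : ∀ x : Cfsg.SU 2 F q, (bA hstar x).1.1 =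
      !![x.1.1 0 0, x.1.1 0 1, 0; x.1.1 1 0, x.1.1 1 1, 0; 0, 0, 1] := fun x => by
    refine Matrix.ext_of_mulVec_single fun i => ?_
    rw [show (Pi.single i (1 : F) : Fin 3 → F) = ![Pi.single (M := fun _ : Fin 3 => F) i 1 0,
      Pi.single (M := fun _ : Fin 3 => F) i 1 1, Pi.single (M := fun _ : Fin 3 => F) i 1 2] by
      funext j; fin_cases j <;> rfl]
    refine (act_bA_vec hstar x _ _ _).trans ?_
    funext r
    fin_cases r <;> simp [act, Matrix.mulVec, dotProduct, Fin.sum_univ_two, Fin.sum_univ_three]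
  have matB : ∀ x : Cfsg.SU 2 F q, (bB hstar x).1.1 =
      !![1, 0, 0; 0, x.1.1 0 0, x.1.1 0 1; 0, x.1.1 1 0, x.1.1 1 1] := fun x => by
    refine Matrix.ext_of_mulVec_single fun i => ?_
    rw [show (Pi.single i (1 : F) : Fin 3 → F) = ![Pi.single (M := fun _ : Fin 3 => F) i 1 0,
      Pi.single (M := fun _ : Fin 3 => F) i 1 1, Pi.single (M := fun _ : Fin 3 => F) i 1 2] by
      funext j; fin_cases j <;> rfl]
    refine (act_bB_vec hstar x _ _ _).trans ?_
    funext r
    fin_cases r <;> simp [act, Matrix.mulVec, dotProduct, Fin.sum_univ_two, Fin.sum_univ_three]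
  refine ⟨β, fun x => eq_of_mat ?_, fun x => ?_⟩
  · show D * Φ (bA hstar x).1.1 * D' = _
    rw [matA, matA, hform]
    ext r s
    rw [Matrix.mul_diagonal, Matrix.diagonal_mul]
    fin_cases r <;> fin_cases s <;> simp [Φ]
    · linear_combination φ (x.1.1 0 0) * hc
    · ring
  · obtain ⟨x11, x10, hx1⟩ := entries hstar x
    refine ⟨mkSU hstar (x.1.1.map φ) ?_ ?_, eq_of_mat ?_⟩
    · rw [show (x.1.1.map φ)ᴴ = (x.1.1ᴴ).map φ from Matrix.ext fun r s => (hφ _).symm, ← Matrix.map_mul,
        conjTranspose_mul_self hstar x, Matrix.map_one φ (map_zero φ) (map_one φ)]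
    · rw [show x.1.1.map φ = φ.mapMatrix x.1.1 from rfl, ← RingHom.map_det, x.1.2, map_one]
    show D * Φ (bB hstar x).1.1 * D' = _
    rw [matB, matB, show (mkSU (q := q) hstar (x.1.1.map φ) _ _).1.1 = x.1.1.map φ from rfl]
    ext r s
    rw [Matrix.mul_diagonal, Matrix.diagonal_mul]
    fin_cases r <;> fin_cases s <;> simp [Φ, hc']

end Cfsg.Agent.Small.Phan
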