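import Cfsg.Agent.Lib.Small.SUPres.Embed
import Cfsg.Agent.Lib.Small.UCover.Graph

/-!
Coordinate blocks of special unitary groups and generation of the three-dimensional group by two blocks.
-/

set_option autoImplicit false
set_option linter.unusedSectionVars false
set_option linter.style.haveILetI false

namespace Cfsg.Agent.Small.Phan

open Matrix Cfsg.Agent.Small.Unitary Cfsg.Agent.Small.UCover Cfsg.Agent.Small.SUPres

variable {F : Type*} [Field F] [Fintype F] [StarRing F] {n k l q : ℕ}

theorem eq_of_single {g h : Cfsg.SU n F q}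
    (he : ∀ i : Fin n, act g (Pi.single i (1 : F)) = act h (Pi.single i 1)) : g = h := by
  refine (inv_mul_eq_one.1 (eq_one_of_act fun i => ?_) : g = h)
  rw [act_mul, ← he i, act_inv_act]

/-- The matrix of a coordinate injection. -/
def eMat (e : Fin k ↪ Fin n) : Matrix (Fin n) (Fin k) F := Matrix.of fun i a => if i = e a then 1 else 0

theorem eMat_single (e : Fin k ↪ Fin n) (a : Fin k) :
    eMat (F := F) e *ᵥ Pi.single a 1 = Pi.single (e a) 1 := by
  funext i
  simp [eMat, Pi.single_apply]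

theorem eMat_form (e : Fin k ↪ Fin n) :
    (eMat (F := F) e)ᴴ * eMat (F := F) e = (1 : Matrix (Fin k) (Fin k) F) := by
  ext a b
  rw [Matrix.mul_apply, Finset.sum_eq_single (e a)]
  · simp [eMat, Matrix.one_apply, e.injective.eq_iff]
  · intro i _ hi
    simp [eMat, hi]
  · simp

theorem eMat_perp (e : Fin k ↪ Fin n) {i : Fin n} (hi : ∀ a, e a ≠ i) :
    (eMat (F := F) e)ᴴ *ᵥ Pi.single i (1 : F) = 0 := by
  funext a
  simp [eMat, (hi a).symm]

theorem eMat_mul (e : Fin k ↪ Fin n) (e' : Fin l ↪ Fin k) :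
    eMat (F := F) e * eMat (F := F) e' = eMat (e'.trans e) := by
  ext i a
  rw [Matrix.mul_apply, Finset.sum_eq_single (e' a)]
  · simp [eMat]
  · intro b _ hb
    simp [eMat, hb]
  · simp

variable (hstar : ∀ x : F, star x = x ^ q)

/-- The subgroup acting on a set of coordinates. -/
noncomputable def blk (e : Fin k ↪ Fin n) : Cfsg.SU k F q →* Cfsg.SU n F q :=
  (frameHom hstar (eMat e) 1 Matrix.conjTranspose_one (Matrix.one_mul 1) (eMat_form e)).comp
    { toFun := fun g => ⟨g.1, by
        show g.1.1ᴴ * 1 * g.1.1 = 1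
        rw [Matrix.mul_one]; exact conjTranspose_mul_self hstar g⟩
      map_one' := rfl
      map_mul' := fun _ _ => rfl }

theorem act_blk (e : Fin k ↪ Fin n) (g : Cfsg.SU k F q) (v : Fin k → F) :
    act (blk hstar e g) (eMat e *ᵥ v) = eMat e *ᵥ act g v :=
  act_frameHom_mem hstar (eMat e) 1 Matrix.conjTranspose_one (Matrix.one_mul 1) (eMat_form e) _ v

theorem act_blk_single (e : Fin k ↪ Fin n) (g : Cfsg.SU k F q) (a : Fin k) :
    act (blk hstar e g) (Pi.single (e a) (1 : F)) = eMat e *ᵥ act g (Pi.single a 1) := by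
  rw [← eMat_single, act_blk]

theorem act_blk_out (e : Fin k ↪ Fin n) (g : Cfsg.SU k F q) {i : Fin n} (hi : ∀ a, e a ≠ i) :
    act (blk hstar e g) (Pi.single i (1 : F)) = Pi.single i 1 :=
  act_frameHom_perp hstar (eMat e) 1 Matrix.conjTranspose_one (Matrix.one_mul 1) (eMat_form e) _ (eMat_perp e hi)

theorem blk_injective (e : Fin k ↪ Fin n) : Function.Injective (blk (q := q) hstar e) := fun g h he => by
  have := congrArg Subtype.val
    (frameHom_injective hstar (eMat e) 1 Matrix.conjTranspose_one (Matrix.one_mul 1) (eMat_form e) he)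
  exact Subtype.ext this

theorem blk_blk (e : Fin k ↪ Fin n) (e' : Fin l ↪ Fin k) (g : Cfsg.SU l F q) :
    blk hstar e (blk hstar e' g) = blk hstar (e'.trans e) g := by
  classical
  refine eq_of_single fun i => ?_
  by_cases hi : ∃ a, e a = i
  · obtain ⟨a, rfl⟩ := hi
    rw [act_blk_single]
    by_cases ha : ∃ c, e' c = a
    · obtain ⟨c, rfl⟩ := ha
      rw [act_blk_single, Matrix.mulVec_mulVec, eMat_mul]
      exact (act_blk_single hstar (e'.trans e) g c).symm
    · push Not at ha
      rw [act_blk_out hstar e' g ha, eMat_single, act_blk_out hstar (e'.trans e) g fun c h => ha c (e.injective h)]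
  · push Not at hi
    rw [act_blk_out hstar e _ hi, act_blk_out hstar (e'.trans e) g fun c => hi (e' c)]

theorem act_blk_supp (e : Fin k ↪ Fin n) (g : Cfsg.SU k F q) {v : Fin n → F}
    (hv : ∀ a, v (e a) = 0) : act (blk hstar e g) v = v := by
  refine act_frameHom_perp hstar (eMat e) 1 Matrix.conjTranspose_one (Matrix.one_mul 1) (eMat_form e) _ ?_
  funext a
  rw [Matrix.mulVec, dotProduct, Finset.sum_eq_single (e a)]
  · simp [hv a]
  · intro i _ hi
    simp [eMat, hi]
  · simp

theorem eMat_mulVec_out (e : Fin k ↪ Fin n) (v : Fin k → F) {i : Fin n} (hi : ∀ a, e a ≠ i) :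
    (eMat e *ᵥ v) i = 0 := by
  rw [Matrix.mulVec, dotProduct]
  exact Finset.sum_eq_zero fun a _ => by simp [eMat, (hi a).symm]

theorem eMat_mulVec_apply (e : Fin k ↪ Fin n) (v : Fin k → F) (a : Fin k) : (eMat e *ᵥ v) (e a) = v a := by
  rw [Matrix.mulVec, dotProduct, Finset.sum_eq_single a]
  · simp [eMat]
  · intro b _ hb
    simp [eMat, hb.symm]
  · simp

/-- Blocks on disjoint coordinates commute. -/
theorem blk_commute (e : Fin k ↪ Fin n) (e' : Fin l ↪ Fin n) (h : ∀ a b, e a ≠ e' b) (g : Cfsg.SU k F q)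
    (g' : Cfsg.SU l F q) : Commute (blk hstar e g) (blk hstar e' g') := by
  refine eq_of_single fun i => ?_
  rw [act_mul, act_mul]
  by_cases hi : ∃ a, e a = i
  · obtain ⟨a, rfl⟩ := hi
    rw [act_blk_out hstar e' g' fun b hb => h a b hb.symm, act_blk_single,
      act_blk_supp hstar e' g' fun b => eMat_mulVec_out e _ fun a' => h a' b]
  · push Not at hi
    rw [act_blk_out hstar e g hi]
    by_cases hi' : ∃ b, e' b = i
    · obtain ⟨b, rfl⟩ := hi'
      rw [act_blk_single, act_blk_supp hstar e g fun a => eMat_mulVec_out e' _ fun b' => (h a b').symm]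
    · push Not at hi'
      rw [act_blk_out hstar e' g' hi', act_blk_out hstar e g hi]

theorem blk_castLE {h : k ≤ n} : blk (q := q) hstar (Fin.castLEEmb h) = inclHom hstar h := by
  refine MonoidHom.ext fun g => eq_of_single fun i => ?_
  have e : eMat (F := F) (Fin.castLEEmb h) = incl n k := by
    ext i a; simp [eMat, incl, Fin.ext_iff]
  by_cases hi : (i : ℕ) < k
  · obtain ⟨a, rfl⟩ : ∃ a : Fin k, Fin.castLEEmb h a = i := ⟨⟨i, hi⟩, rfl⟩
    rw [act_blk_single, e]
    have := act_inclHom hstar h g (Pi.single a (1 : F))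
    rw [incl_mulVec_single h] at this
    exact this.symm
  · rw [act_blk_out hstar _ g fun a ha => hi (by rw [← ha]; exact a.isLt)]
    have hr : inclHom hstar h g ∈ Sk n q k := range_inclHom (q := q) hstar h ▸ ⟨g, rfl⟩
    exact (mem_Sk.1 hr i (by omega)).symm

/-- A segment of coordinates. -/
def seg (k : ℕ) {n : ℕ} (i : ℕ) (h : i + k ≤ n) : Fin k ↪ Fin n :=
  ⟨fun a => ⟨i + (a : ℕ), by omega⟩, fun a b hab => Fin.ext (by simpa using hab)⟩

theorem seg_val {i : ℕ} (h : i + k ≤ n) (a : Fin k) : (seg k i h a : ℕ) = i + (a : ℕ) := rfl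

theorem seg_zero (h : 0 + k ≤ n) : seg k 0 h = Fin.castLEEmb (by omega : k ≤ n) := by
  ext a; simp [seg]

theorem blk_seg_seg {m i j : ℕ} (h : j + k ≤ n) (h' : i + l ≤ k) (hm : j + i = m) (hm' : m + l ≤ n)
    (g : Cfsg.SU l F q) :
    blk hstar (seg k j h) (blk hstar (seg l i h') g) = blk hstar (seg l m hm') g := by
  subst hm
  rw [blk_blk]
  congr 2
  ext a
  show j + (i + (a : ℕ)) = j + i + (a : ℕ)
  omega

theorem blk_seg_commute {i j : ℕ} (h : i + k ≤ n) (h' : j + l ≤ n) (hij : i + k ≤ j) (g : Cfsg.SU k F q)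
    (g' : Cfsg.SU l F q) : Commute (blk hstar (seg k i h) g) (blk hstar (seg l j h') g') :=
  blk_commute hstar _ _ (fun a b e => by
    have := congrArg Fin.val e
    rw [seg_val, seg_val] at this
    omega) g g'

/-- The block on the first two coordinates. -/
noncomputable def bA : Cfsg.SU 2 F q →* Cfsg.SU 3 F q := blk hstar (seg 2 0 (by norm_num))

/-- The block on the last two coordinates. -/
noncomputable def bB : Cfsg.SU 2 F q →* Cfsg.SU 3 F q := blk hstar (seg 2 1 (by norm_num))

/-- The monomial element of the plane. -/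
noncomputable def w2 : Cfsg.SU 2 F q :=
  mkSU hstar !![0, 1; -1, 0]
    (by ext i j; fin_cases i <;> fin_cases j <;> simp [Matrix.mul_apply, Fin.sum_univ_two])
    (by simp [Matrix.det_fin_two])

theorem act_w2_zero : act (w2 hstar) (Pi.single 0 (1 : F)) = -Pi.single 1 1 := by
  funext i
  show ((!![0, 1; -1, 0] : Matrix (Fin 2) (Fin 2) F) *ᵥ _) i = _
  fin_cases i <;> simp [Matrix.mulVec, dotProduct, Fin.sum_univ_two]

theorem act_w2_one : act (w2 hstar) (Pi.single 1 (1 : F)) = Pi.single 0 1 := by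
  funext i
  show ((!![0, 1; -1, 0] : Matrix (Fin 2) (Fin 2) F) *ᵥ _) i = _
  fin_cases i <;> simp [Matrix.mulVec, dotProduct, Fin.sum_univ_two]

theorem seg20 (a : Fin 2) : seg 2 0 (by norm_num : 0 + 2 ≤ 3) a = a.castSucc := Fin.ext (by simp [seg])

theorem seg21 (a : Fin 2) : seg 2 1 (by norm_num : 1 + 2 ≤ 3) a = a.succ := Fin.ext (by simp [seg, add_comm])

theorem act_bA_zero : act (bA hstar (w2 hstar)) (Pi.single 0 (1 : F)) = -Pi.single 1 1 := by
  have := act_blk_single hstar (seg 2 0 (by norm_num : 0 + 2 ≤ 3)) (w2 hstar) 0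
  rw [act_w2_zero, Matrix.mulVec_neg, eMat_single, seg20, seg20] at this
  exact this

theorem act_bA_one : act (bA hstar (w2 hstar)) (Pi.single 1 (1 : F)) = Pi.single 0 1 := by
  have := act_blk_single hstar (seg 2 0 (by norm_num : 0 + 2 ≤ 3)) (w2 hstar) 1
  rw [act_w2_one, eMat_single, seg20, seg20] at this
  exact this

theorem act_bA_two (g : Cfsg.SU 2 F q) : act (bA hstar g) (Pi.single 2 (1 : F)) = Pi.single 2 1 :=
  act_blk_out hstar _ _ fun a h => by
    rw [seg20] at h; fin_cases a <;> exact absurd (congrArg Fin.val h) (by simp)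

theorem act_bB_one : act (bB hstar (w2 hstar)) (Pi.single 1 (1 : F)) = -Pi.single 2 1 := by
  have := act_blk_single hstar (seg 2 1 (by norm_num : 1 + 2 ≤ 3)) (w2 hstar) 0
  rw [act_w2_zero, Matrix.mulVec_neg, eMat_single, seg21, seg21] at this
  exact this

theorem act_bB_two : act (bB hstar (w2 hstar)) (Pi.single 2 (1 : F)) = Pi.single 1 1 := by
  have := act_blk_single hstar (seg 2 1 (by norm_num : 1 + 2 ≤ 3)) (w2 hstar) 1
  rw [act_w2_one, eMat_single, seg21, seg21] at this
  exact this

theorem act_bB_zero (g : Cfsg.SU 2 F q) : act (bB hstar g) (Pi.single 0 (1 : F)) = Pi.single 0 1 :=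
  act_blk_out hstar _ _ fun a h => by rw [seg21] at h; exact absurd h (Fin.succ_ne_zero a)

theorem act_neg' (g : Cfsg.SU n F q) (v : Fin n → F) : act g (-v) = -act g v := Matrix.mulVec_neg _ _

/-- Conjugation moves the first block to the second. -/
theorem conj_blocks (x : Cfsg.SU 2 F q) :
    bA hstar (w2 hstar) * bB hstar (w2 hstar) * bA hstar x =
      bB hstar x * (bA hstar (w2 hstar) * bB hstar (w2 hstar)) := by
  set g := bA hstar (w2 hstar) * bB hstar (w2 hstar) with hg
  have g0 : act g (Pi.single 0 (1 : F)) = -Pi.single 1 1 := by rw [hg, act_mul, act_bB_zero, act_bA_zero]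
  have g1 : act g (Pi.single 1 (1 : F)) = -Pi.single 2 1 := by rw [hg, act_mul, act_bB_one, act_neg', act_bA_two]
  have g2 : act g (Pi.single 2 (1 : F)) = Pi.single 0 1 := by rw [hg, act_mul, act_bB_two, act_bA_one]
  have gs : ∀ a : Fin 2, act g (Pi.single a.castSucc (1 : F)) = -Pi.single a.succ 1 := by
    intro a; fin_cases a
    · exact g0
    · exact g1
  have gv : ∀ v : Fin 2 → F, act g (eMat (seg 2 0 (by norm_num : 0 + 2 ≤ 3)) *ᵥ v) =
      -(eMat (seg 2 1 (by norm_num : 1 + 2 ≤ 3)) *ᵥ v) := by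
    intro v
    have ev : v = v 0 • Pi.single 0 1 + v 1 • Pi.single 1 1 := by funext i; fin_cases i <;> simp
    rw [ev]
    simp only [Matrix.mulVec_add, Matrix.mulVec_smul, eMat_single, act_add, act_smul, seg20, seg21, gs]
    module
  clear_value g
  refine eq_of_single fun i => ?_
  rw [act_mul, act_mul]
  rcases (show (∃ a : Fin 2, a.castSucc = i) ∨ i = 2 by
    fin_cases i
    · exact Or.inl ⟨0, rfl⟩
    · exact Or.inl ⟨1, rfl⟩
    · exact Or.inr rfl) with ⟨a, rfl⟩ | rfl
  · rw [gs, act_neg', ← seg21, ← seg20]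
    show act g (act (blk hstar _ x) _) = _
    rw [act_blk_single, gv]
    exact congrArg Neg.neg (act_blk_single hstar _ x a).symm
  · rw [act_bA_two, g2, act_bB_zero]

/-- A square and a triangle of monomial elements. -/
theorem sq_w2 (v : Fin 2 → F) : act (w2 hstar * w2 hstar) v = -v := by
  funext i
  rw [act_mul]
  show ((!![0, 1; -1, 0] : Matrix (Fin 2) (Fin 2) F) *ᵥ ((!![0, 1; -1, 0] : Matrix (Fin 2) (Fin 2) F) *ᵥ v)) i = _
  fin_cases i <;> simp [Matrix.mulVec, dotProduct, Fin.sum_univ_two]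

theorem act_bA_sq_zero : act (bA hstar (w2 hstar * w2 hstar)) (Pi.single 0 (1 : F)) = -Pi.single 0 1 := by
  rw [map_mul, act_mul, act_bA_zero, act_neg', act_bA_one]

theorem act_bA_sq_one : act (bA hstar (w2 hstar * w2 hstar)) (Pi.single 1 (1 : F)) = -Pi.single 1 1 := by
  rw [map_mul, act_mul, act_bA_one, act_bA_zero]

/-- The back relation. -/
theorem back_three : bB hstar (w2 hstar) * bA hstar (w2 hstar * w2 hstar) * bB hstar (w2 hstar) =
    bA hstar (w2 hstar * w2 hstar) := by
  refine eq_of_single fun i => ?_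
  rw [act_mul, act_mul]
  fin_cases i
  · show act _ (act _ (act _ (Pi.single 0 (1 : F)))) = act _ (Pi.single 0 (1 : F))
    rw [act_bB_zero, act_bA_sq_zero, act_neg', act_bB_zero]
  · show act _ (act _ (act _ (Pi.single 1 (1 : F)))) = act _ (Pi.single 1 (1 : F))
    rw [act_bB_one, act_neg', act_neg', act_bA_two, act_bB_two, act_bA_sq_one]
  · show act _ (act _ (act _ (Pi.single 2 (1 : F)))) = act _ (Pi.single 2 (1 : F))
    rw [act_bB_two, act_bA_sq_one, act_neg', act_bB_one, neg_neg, act_bA_two]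

end Cfsg.Agent.Small.Phan
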