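import Cfsg.Agent.Lib.Small.Phan.Squares

/-!
The covering criterion in the four-dimensional unitary space: every edge is reached through a good detour.
-/

set_option autoImplicit false
set_option linter.unusedSectionVars false
set_option linter.style.haveILetI false

namespace Cfsg.Agent.Small.SUPres.CoverData

variable {H G X : Type*} [Group H] [Group G] [MulAction G X] (D : CoverData H G X)

/-- The edge from `b` to `c` is good seen from `a`. -/
def Near (a b c : X) : Prop := (∃ x, D.adj a x ∧ D.adj x b ∧ D.adj x c) ∨ D.adj a b ∨ D.adj a c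

/-- Squares and detours through triangles suffice. -/
theorem bijective_detour (htri : D.TriOK)
    (hquad : ∀ a b v v', D.adj a v → D.adj v b → D.adj a v' → D.adj v' b → D.Agree a b v v')
    (hthree : ∀ a b c, D.adj b c →
      D.Near a b c ∨ ∃ d, D.adj b d ∧ D.adj d c ∧ D.Near a b d ∧ D.Near a d c) :
    Function.Bijective D.π := by
  classical
  set P₀ : H ⧸ D.A := ((1 : H) : H ⧸ D.A) with hP₀
  have hp₀ : D.p P₀ = D.a₀ := by rw [hP₀, p_mk, map_one, one_smul]
  choose w hw hw' using D.common D.a₀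
  have hL : ∀ b, ∃ R Q, D.E P₀ Q ∧ D.p Q = w b ∧ D.E Q R ∧ D.p R = b := fun b => by
    obtain ⟨Q, hQ, hQp⟩ := D.exists_lift (P := P₀) (b := w b) (by rw [hp₀]; exact hw b)
    obtain ⟨R, hR, hRp⟩ := D.exists_lift (P := Q) (b := b) (by rw [hQp]; exact hw' b)
    exact ⟨R, Q, hQ, hQp, hR, hRp⟩
  choose σ σQ h1 h2 h3 h4 using hL
  have hσ : ∀ (v : X) (Q R : H ⧸ D.A), D.E P₀ Q → D.p Q = v → D.E Q R → σ (D.p R) = R := fun v Q R hQ hQp hR => by
    have a1 : D.adj D.a₀ v := by rw [← hp₀, ← hQp]; exact D.E_adj hQ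
    have a2 : D.adj v (D.p R) := by rw [← hQp]; exact D.E_adj hR
    exact hquad _ _ _ _ (hw _) (hw' _) a1 a2 P₀ _ _ Q R hp₀ (h1 _) (h2 _) (h3 _) (h4 _) hQ hQp hR rfl
  have hdirect : ∀ c, D.adj D.a₀ c → D.E P₀ (σ c) := fun c hc => D.E_symm
    (htri P₀ (σQ c) (σ c) (h1 c) (h3 c) (by rw [h4, hp₀]; exact D.symm _ _ hc))
  have hnear : ∀ b c, D.adj b c → D.Near D.a₀ b c → D.E (σ b) (σ c) := by
    intro b c hb hn
    obtain ⟨Q, hQ, hQp⟩ := D.exists_lift (P := σ b) (b := c) (by rw [h4]; exact hb)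
    suffices Q = σ c by rw [← this]; exact hQ
    rcases hn with hx | hab | hac
    rotate_left
    · have := hσ _ _ _ (hdirect b hab) rfl hQ
      rw [hQp] at this; exact this.symm
    · obtain ⟨R, hR, hRp⟩ := D.exists_lift (P := σ c) (b := b) (by rw [h4]; exact D.symm _ _ hb)
      have eR := hσ _ _ _ (hdirect _ hac) rfl hR
      rw [hRp] at eR
      rw [← eR] at hR
      exact D.lift_unique hQ (D.E_symm hR) (hQp.trans (h4 _).symm)
    obtain ⟨x, x1, x2, x3⟩ := hx
    obtain ⟨W, hW, hWp⟩ := D.exists_lift (P := P₀) (b := x) (by rw [hp₀]; exact x1)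
    obtain ⟨R, hR, hRp⟩ := D.exists_lift (P := W) (b := b) (by rw [hWp]; exact x2)
    obtain ⟨S, hS, hSp⟩ := D.exists_lift (P := W) (b := c) (by rw [hWp]; exact x3)
    have eR : σ b = R := by
      have := hσ _ _ _ hW rfl hR
      rwa [hRp] at this
    have eS : σ c = S := by
      have := hσ _ _ _ hW rfl hS
      rwa [hSp] at this
    have hRS : D.E R S := D.E_symm (htri R W S (D.E_symm hR) hS (by rw [hSp, hRp]; exact D.symm _ _ hb))
    rw [← eR] at hRS
    rw [eS]
    exact D.lift_unique hQ hRS (hQp.trans hSp.symm)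
  have hedge : ∀ b c, D.adj b c → D.E (σ b) (σ c) := by
    intro b c hb
    rcases hthree D.a₀ b c hb with hn | ⟨d, hbd, hdc, n1, n2⟩
    · exact hnear b c hb hn
    · exact D.E_symm (htri (σ b) (σ d) (σ c) (hnear b d hbd n1) (hnear d c hdc n2)
        (by rw [h4, h4]; exact D.symm _ _ hb))
  have h0 : σ D.a₀ = P₀ := by
    obtain ⟨Q, hQ, hQp⟩ := D.exists_lift (P := P₀) (b := D.π D.t • D.a₀) (by rw [hp₀]; exact D.edge)
    have := hσ _ Q P₀ hQ hQp (D.E_symm hQ)
    rwa [hp₀] at this
  let S : Set H := {h | σ (D.π h • D.a₀) = (h : H ⧸ D.A)}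
  have hA : ∀ h ∈ S, ∀ x ∈ D.A, h * x ∈ S := fun h hh x hx => by
    show σ _ = _
    rw [map_mul, mul_smul, D.fix x hx, D.mk_mul_mem h hx]; exact hh
  have ht : ∀ h ∈ S, h * D.t ∈ S := fun h hh => by
    have hh' : σ (D.π h • D.a₀) = (h : H ⧸ D.A) := hh
    have e1 : D.E (h : H ⧸ D.A) ((h * D.t : H) : H ⧸ D.A) := ⟨h, rfl, rfl⟩
    have e2 := hedge (D.π h • D.a₀) (D.p ((h * D.t : H) : H ⧸ D.A)) (by
      have := D.E_adj e1; rwa [p_mk] at this)
    rw [hh'] at e2
    exact (D.lift_unique e1 e2 (h4 _).symm).symm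
  have hall : ∀ g : H, ∀ h ∈ S, h * g ∈ S := by
    intro g
    have hg : g ∈ Subgroup.closure ((D.A : Set H) ∪ {D.t}) := by rw [D.gen]; exact Subgroup.mem_top g
    induction hg using Subgroup.closure_induction'' with
    | one => intro h hh; rwa [mul_one]
    | mem g hg =>
      intro h hh
      rcases hg with hg | rfl
      · exact hA h hh g hg
      · exact ht h hh
    | inv_mem g hg =>
      intro h hh
      rcases hg with hg | rfl
      · exact hA h hh _ (inv_mem hg)
      · obtain ⟨k, hk, hk'⟩ := D.back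
        have := hA _ (ht _ (hA h hh k hk)) _ (inv_mem hk')
        rwa [show h * k * D.t * (D.t * k * D.t)⁻¹ = h * D.t⁻¹ by group] at this
    | mul g g' _ _ ihg ihg' => intro h hh; rw [← mul_assoc]; exact ihg' _ (ihg h hh)
  have h1S : (1 : H) ∈ S := by
    show σ _ = _
    rw [map_one, one_smul]; exact h0
  refine ⟨(injective_iff_map_eq_one _).2 fun h hh => D.inj h ?_ hh, D.surjective⟩
  have := hall h 1 h1S
  rw [one_mul] at this
  have e : σ (D.π h • D.a₀) = (h : H ⧸ D.A) := this
  rw [hh, one_smul, h0] at e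
  simpa using QuotientGroup.eq.1 e

end Cfsg.Agent.Small.SUPres.CoverData

namespace Cfsg.Agent.Small.Phan

open Matrix Cfsg.Agent.Small.Unitary Cfsg.Agent.Small.UCover Cfsg.Agent.Small.SUPres

variable {F : Type*} [Field F] [Fintype F] [StarRing F] {q : ℕ} {hstar : ∀ x : F, star x = x ^ q}
  {H : Type*} [Group H] (D : CoverData H (Cfsg.SU 4 F q) (UVec 4 hstar)) (hadj : D.adj = Orth)
  (hF : Fintype.card F = q ^ 2)
include hadj hF

theorem near_of (a b c : UVec 4 hstar) (hbc : Orth b c) {w : Fin 4 → F}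
    (hw : w = a.1 - herm b.1 a.1 • b.1 - herm c.1 a.1 • c.1) (h : w = 0 ∨ herm w w ≠ 0) : D.Near a b c := by
  have hbw : herm b.1 w = 0 := by
    rw [hw, herm_sub_right, herm_sub_right, herm_smul_right, herm_smul_right, b.2,
      show herm b.1 c.1 = 0 from hbc]; ring
  have hcw : herm c.1 w = 0 := by
    rw [hw, herm_sub_right, herm_sub_right, herm_smul_right, herm_smul_right, c.2,
      show herm c.1 b.1 = 0 from herm_comm_zero hbc]; ring
  suffices ∃ x : UVec 4 hstar, Orth a x ∧ Orth x b ∧ Orth x c by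
    obtain ⟨x, e1, e2, e3⟩ := this
    exact Or.inl ⟨x, by rw [hadj]; exact e1, by rw [hadj]; exact e2, by rw [hadj]; exact e3⟩
  have key : ∀ x : Fin 4 → F, herm x x = 1 → herm b.1 x = 0 → herm c.1 x = 0 → herm w x = 0 →
      ∃ x : UVec 4 hstar, Orth a x ∧ Orth x b ∧ Orth x c := fun x hx e1 e2 e3 => by
    refine ⟨⟨x, hx⟩, ?_, herm_comm_zero e1, herm_comm_zero e2⟩
    show herm a.1 x = 0
    rw [show a.1 = w + herm b.1 a.1 • b.1 + herm c.1 a.1 • c.1 by rw [hw]; abel, herm_add_left, herm_add_left,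
      herm_smul_left, herm_smul_left, e1, e2, e3]
    ring
  rcases h with h | h
  · obtain ⟨x, hx, hxp⟩ := exists_unit_perp hstar hF (on_two b.2 c.2 hbc) (by norm_num)
    exact key x hx (hxp 0) (hxp 1) (by rw [h, herm_zero_left])
  · obtain ⟨s, hs0, hs⟩ := Hermitian.exists_norm hstar hF (inv_ne_zero h) (by rw [star_inv₀, star_herm])
    obtain ⟨x, hx, hxp⟩ := exists_unit_perp hstar hF (on_three b.2 c.2
      (show herm (s • w) (s • w) = 1 by rw [herm_smul_left, herm_smul_right, ← mul_assoc, hs, inv_mul_cancel₀ h])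
      hbc (by rw [herm_smul_right, hbw, mul_zero]) (by rw [herm_smul_right, hcw, mul_zero])) (by norm_num)
    have e3 : herm (s • w) x = 0 := hxp 2
    rw [herm_smul_left] at e3
    exact key x hx (hxp 0) (hxp 1) ((mul_eq_zero.1 e3).resolve_left (star_ne_zero.2 hs0))

theorem hthree_four (hq : 4 ≤ q) (a b c : UVec 4 hstar) (h : D.adj b c) :
    D.Near a b c ∨ ∃ d, D.adj b d ∧ D.adj d c ∧ D.Near a b d ∧ D.Near a d c := by
  have hbc : Orth b c := by rwa [hadj] at h
  set w := a.1 - herm b.1 a.1 • b.1 - herm c.1 a.1 • c.1 with hw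
  by_cases hgood : w = 0 ∨ herm w w ≠ 0
  · exact Or.inl (near_of D hadj hF a b c hbc hw hgood)
  push Not at hgood
  obtain ⟨hw0, hww⟩ := hgood
  have hbw : herm b.1 w = 0 := by
    rw [hw, herm_sub_right, herm_sub_right, herm_smul_right, herm_smul_right, b.2,
      show herm b.1 c.1 = 0 from hbc]; ring
  have hcw : herm c.1 w = 0 := by
    rw [hw, herm_sub_right, herm_sub_right, herm_smul_right, herm_smul_right, c.2,
      show herm c.1 b.1 = 0 from herm_comm_zero hbc]; ring
  obtain ⟨K, hK, k1, k2⟩ := exists_norm_avoid hstar hF hq (-N (herm b.1 a.1)) (-N (herm c.1 a.1))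
  obtain ⟨x, hx, hbx, hcx, hwx⟩ := exists_plane_unit hstar hF (on_two b.2 c.2 hbc) hw0 hww hbw hcw hK
  obtain ⟨d, hd, hdp⟩ := exists_unit_perp hstar hF (on_three b.2 c.2 hx hbc hbx hcx) (by norm_num)
  have hbd : herm b.1 d = 0 := hdp 0
  have hcd : herm c.1 d = 0 := hdp 1
  have hxd : herm x d = 0 := hdp 2
  have hw' := expand_plane (SUPres.on_four b.2 c.2 hx hd hbc hbx hbd hcx hcd hxd) hbw hcw
  have hdw : herm d w = herm d a.1 := by
    rw [hw, herm_sub_right, herm_sub_right, herm_smul_right, herm_smul_right, herm_comm_zero hbd,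
      herm_comm_zero hcd]; ring
  have hxw : herm x w = star K := by rw [← star_herm, hwx]
  rw [hdw, hxw] at hw'
  refine Or.inr ⟨⟨d, hd⟩, by rw [hadj]; exact hbd, by rw [hadj]; exact herm_comm_zero hcd, ?_, ?_⟩
  · refine near_of D hadj hF a b ⟨d, hd⟩ hbd rfl (Or.inr ?_)
    rw [show a.1 - herm b.1 a.1 • b.1 - herm d a.1 • d = star K • x + herm c.1 a.1 • c.1 by
      have e : a.1 = w + herm b.1 a.1 • b.1 + herm c.1 a.1 • c.1 := by rw [hw]; abel
      conv_lhs => arg 1; arg 1; rw [e, hw']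
      abel]
    simp only [herm_add_left, herm_add_right, herm_smul_left, herm_smul_right, hx, c.2, hcx, herm_comm_zero hcx]
    intro e
    apply k2
    simp only [N, star_star] at e ⊢
    linear_combination e
  · refine near_of D hadj hF a ⟨d, hd⟩ c (show Orth (⟨d, hd⟩ : UVec 4 hstar) c from herm_comm_zero hcd) rfl (Or.inr ?_)
    rw [show a.1 - herm d a.1 • d - herm c.1 a.1 • c.1 = star K • x + herm b.1 a.1 • b.1 by
      have e : a.1 = w + herm b.1 a.1 • b.1 + herm c.1 a.1 • c.1 := by rw [hw]; abel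
      conv_lhs => arg 1; arg 1; rw [e, hw']
      abel]
    simp only [herm_add_left, herm_add_right, herm_smul_left, herm_smul_right, hx, b.2, hbx, herm_comm_zero hbx]
    intro e
    apply k1
    simp only [N, star_star] at e ⊢
    linear_combination e

/-- The covering group is the special unitary group. -/
theorem bijective_four (hq : 4 ≤ q) (htri : D.TriOK) (hb : BaseSq D) : Function.Bijective D.π :=
  D.bijective_detour htri
    (fun a b v v' h1 h2 h3 h4 => agree_four D hadj htri hF hb hq (by rwa [hadj] at h1) (by rwa [hadj] at h2)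
      (by rwa [hadj] at h3) (by rwa [hadj] at h4))
    (hthree_four D hadj hF hq)

end Cfsg.Agent.Small.Phan
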