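import Cfsg.Agent.Lib.Small.Phan.Forms

/-!
Embeddings of the three-dimensional group over nine elements into the four-dimensional one.
-/

set_option autoImplicit false
set_option linter.unusedSectionVars false
set_option linter.style.haveILetI false

namespace Cfsg.Agent.Small.Phan

open Matrix Cfsg.Agent.Small.Unitary Cfsg.Agent.Small.UCover Cfsg.Agent.Small.SUPres

universe u

variable {F : Type u} [Field F] [Fintype F] [StarRing F] (hstar : ∀ x : F, star x = x ^ 3)
  (hF : Fintype.card F = 3 ^ 2)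
include hstar hF

theorem act_neg4 (g : Cfsg.SU 4 F 3) (v : Fin 4 → F) : act g (-v) = -act g v := Matrix.mulVec_neg _ _

/-- A nonzero joint eigenvector of two commuting involutions can be chosen of norm one. -/
theorem joint_unit {t t' : Cfsg.SU 4 F 3} (ht : t * t = 1) (ht' : t' * t' = 1) (hc : Commute t t') {s r : F}
    (hs : s = 1 ∨ s = -1) (hr : r = 1 ∨ r = -1) {v : Fin 4 → F} (hv : v ≠ 0) (h1 : act t v = s • v)
    (h2 : act t' v = r • v) : ∃ w, herm w w = 1 ∧ act t w = s • w ∧ act t' w = r • w := by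
  by_contra hno
  have hs2 : s * s = 1 := by rcases hs with rfl | rfl <;> simp
  have hr2 : r * r = 1 := by rcases hr with rfl | rfl <;> simp
  have hss : star s = s := by rcases hs with rfl | rfl <;> simp
  have hrs : star r = r := by rcases hr with rfl | rfl <;> simp
  have hall : ∀ w, act t w = s • w → act t' w = r • w → herm w w = 0 := by
    intro w hw hw'
    by_contra hww
    obtain ⟨c, -, hc'⟩ := Hermitian.exists_norm hstar hF (inv_ne_zero hww) (by rw [star_inv₀, star_herm])
    exact hno ⟨c • w, by rw [herm_smul_left, herm_smul_right, ← mul_assoc, hc', inv_mul_cancel₀ hww],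
      by rw [act_smul, hw, smul_comm], by rw [act_smul, hw', smul_comm]⟩
  have hiso : ∀ u w, act t u = s • u → act t' u = r • u → act t w = s • w → act t' w = r • w → herm u w = 0 := by
    intro u w hu hu' hw hw'
    by_contra huw
    obtain ⟨c, hcc⟩ := Hermitian.exists_trace_ne hstar hF huw
    apply hcc
    have := hall (c • u + w) (by rw [act_add, act_smul, hu, hw, smul_add, smul_comm])
      (by rw [act_add, act_smul, hu', hw', smul_add, smul_comm])
    rw [herm_add_left, herm_add_right, herm_add_right, herm_smul_left, herm_smul_left, herm_smul_right,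
      herm_smul_right, hall u hu hu', hall w hw hw', ← star_herm u w] at this
    rw [star_mul', star_star]
    linear_combination this
  refine hv (funext fun i => ?_)
  set u : Fin 4 → F := Pi.single i 1 with hu
  have et : ∀ x, act t (act t x) = x := fun x => by rw [← act_mul, ht, act_one]
  have et' : ∀ x, act t' (act t' x) = x := fun x => by rw [← act_mul, ht', act_one]
  have ec : ∀ x, act t' (act t x) = act t (act t' x) := fun x => by rw [← act_mul, ← act_mul, hc.eq]
  obtain ⟨a, ha⟩ : ∃ a, a = u + s • act t u := ⟨_, rfl⟩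
  obtain ⟨p, hp⟩ : ∃ p, p = a + r • act t' a := ⟨_, rfl⟩
  have hta : act t a = s • a := by
    rw [ha, act_add, act_smul, et, smul_add, smul_smul, hs2, one_smul, add_comm]
  have hp1 : act t p = s • p := by
    rw [hp, act_add, act_smul, ← ec, hta, act_smul, smul_add, smul_comm]
  have hp2 : act t' p = r • p := by
    rw [hp, act_add, act_smul, et', smul_add, smul_smul, hr2, one_smul, add_comm]
  have e1 : herm v (act t u) = s * herm v u := by
    have := herm_act hstar t v (act t u)
    rw [h1, et, herm_smul_left, hss] at this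
    exact this.symm
  have e2 : herm v (act t' a) = r * herm v a := by
    have := herm_act hstar t' v (act t' a)
    rw [h2, et', herm_smul_left, hrs] at this
    exact this.symm
  have h := hiso v p h1 h2 hp1 hp2
  rw [hp, herm_add_right, herm_smul_right, e2, ha, herm_add_right, herm_smul_right, e1] at h
  have h3 := three_eq_zero hstar hF
  have hvu : herm v u = 0 := by
    have : (4 : F) * herm v u = 0 := by
      linear_combination h - (herm v u * (1 + s * s)) * hr2 - (herm v u * 2) * hs2
    linear_combination this - herm v u * h3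
  rw [hu, ← star_herm, star_eq_zero, herm_single_left, star_one, one_mul] at hvu
  rw [Pi.zero_apply]
  exact hvu

/-- The three involutions of the diagonal. -/
theorem four_group : ∃ z : Cfsg.SU 2 F 3, z * z = 1 ∧ (∀ x, z * x = x * z) ∧ z ≠ 1 ∧
    z = w2 hstar * w2 hstar ∧ z.1.1 = !![-1, 0; 0, -1] ∧
    Commute (bA hstar z) (bB hstar z) ∧
    bA hstar (w2 hstar) * bA hstar z = bA hstar z * bA hstar (w2 hstar) ∧
    bA hstar (w2 hstar) * bB hstar z = bA hstar z * bB hstar z * bA hstar (w2 hstar) ∧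
    bA hstar (w2 hstar) * bB hstar (w2 hstar) * bA hstar z =
      bB hstar z * (bA hstar (w2 hstar) * bB hstar (w2 hstar)) ∧
    bA hstar (w2 hstar) * bB hstar (w2 hstar) * bB hstar z =
      bA hstar z * bB hstar z * (bA hstar (w2 hstar) * bB hstar (w2 hstar)) := by
  have hz : (w2 (q := 3) hstar * w2 hstar).1.1 = !![-1, 0; 0, -1] := by
    show (w2 (q := 3) hstar).1.1 * (w2 (q := 3) hstar).1.1 = _
    rw [show (w2 (q := 3) hstar).1.1 = !![0, 1; -1, 0] from rfl]
    ext r s; fin_cases r <;> fin_cases s <;> simp [Matrix.mul_apply, Fin.sum_univ_two]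
  refine ⟨w2 hstar * w2 hstar, eq_of_mat ?_, fun x => eq_of_mat ?_, fun h => ?_, rfl, hz, ?_, ?_, ?_, ?_, ?_⟩
  · show (w2 (q := 3) hstar * w2 hstar).1.1 * (w2 (q := 3) hstar * w2 hstar).1.1 = 1
    rw [hz]
    ext r s; fin_cases r <;> fin_cases s <;> simp [Matrix.mul_apply, Fin.sum_univ_two]
  · show (w2 (q := 3) hstar * w2 hstar).1.1 * x.1.1 = x.1.1 * (w2 (q := 3) hstar * w2 hstar).1.1
    rw [hz]
    ext r s; fin_cases r <;> fin_cases s <;> simp [Matrix.mul_apply, Fin.sum_univ_two]
  · have := congrArg (fun x : Cfsg.SU 2 F 3 => x.1.1 0 0) h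
    simp only [hz] at this
    simp at this
    exact two_ne_zero' hstar hF (by linear_combination -this)
  all_goals refine eq_of_vec fun a b c => ?_
  all_goals
    simp only [act_mul, act_bA_vec, act_bB_vec]
    funext r
    fin_cases r <;> simp [act, Matrix.mulVec, dotProduct, Fin.sum_univ_two, w2, mkSU]

/-- Entries of a matrix commuting with the standard involution. -/
theorem comm_diag {X : Matrix (Fin 4) (Fin 4) F} {e : Fin 4 → F} (h : X * Matrix.diagonal e = Matrix.diagonal e * X)
    {i j : Fin 4} (hij : e i ≠ e j) : X i j = 0 := by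
  have := congrFun (congrFun h i) j
  rw [Matrix.mul_diagonal, Matrix.diagonal_mul] at this
  exact (mul_eq_zero.1 (show (e j - e i) * X i j = 0 by linear_combination this)).resolve_left
    (sub_ne_zero.2 (Ne.symm hij))

set_option maxHeartbeats 4000000 in
/-- A copy of the three-dimensional group fixes a norm one vector. -/
theorem exists_fix_four (θ : Cfsg.SU 3 F 3 →* Cfsg.SU 4 F 3) (hθ : Function.Injective θ) :
    ∃ g : Cfsg.SU 4 F 3, ∀ x, act (g⁻¹ * θ x * g) (Pi.single 3 (1 : F)) = Pi.single 3 1 := by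
  classical
  have h2 := two_ne_zero' hstar hF
  obtain ⟨z, hzz, hzc, hz1, hzw, hzv, hE, w3, w1, c3, c1⟩ := four_group hstar hF
  set t := θ (bA hstar z) with ht
  set t' := θ (bB hstar z) with ht'
  have htt : t * t = 1 := by rw [ht, ← map_mul, ← map_mul, hzz, map_one, map_one]
  have htt' : t' * t' = 1 := by rw [ht', ← map_mul, ← map_mul, hzz, map_one, map_one]
  have hcomm : Commute t t' := hE.map θ
  set W := θ (bA hstar (w2 hstar)) with hW
  set C := θ (bA hstar (w2 hstar) * bB hstar (w2 hstar)) with hC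
  have W3 : W * t = t * W := by rw [hW, ht, ← map_mul, w3, map_mul]
  have W1 : W * t' = t * t' * W := by rw [hW, ht, ht', ← map_mul, w1, map_mul, map_mul]
  have C3 : C * t = t' * C := by rw [hC, ht, ht', ← map_mul, c3, map_mul]
  have C1 : C * t' = t * t' * C := by rw [hC, ht, ht', ← map_mul, c1, map_mul, map_mul]
  -- joint eigenvectors
  obtain ⟨u, hu0, hu⟩ : ∃ u, u ≠ 0 ∧ act t u = -u := by
    obtain ⟨v, hv⟩ : ∃ v, act t v ≠ v := by
      by_contra hno
      push Not at hno
      apply hz1
      refine eq_one_of_bA_central hstar ?_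
      rw [show bA hstar z = 1 from hθ ((ht.symm.trans (eq_one_of_act fun k => hno _)).trans θ.map_one.symm)]
      exact one_mem _
    refine ⟨v - act t v, sub_ne_zero.2 (Ne.symm hv), ?_⟩
    rw [act_sub, ← act_mul, htt, act_one, neg_sub]
  obtain ⟨v, hv0, hv, r, hr, hv'⟩ : ∃ v, v ≠ 0 ∧ act t v = -v ∧ ∃ r : F, (r = 1 ∨ r = -1) ∧ act t' v = r • v := by
    by_cases h : act t' u = u
    · exact ⟨u, hu0, hu, 1, Or.inl rfl, by rw [h, one_smul]⟩
    · refine ⟨u - act t' u, sub_ne_zero.2 (Ne.symm h), ?_, -1, Or.inr rfl, ?_⟩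
      · rw [act_sub, ← act_mul, hcomm.eq, act_mul, hu, act_neg4 hstar hF]; abel
      · rw [act_sub, ← act_mul, htt', act_one, neg_one_smul, neg_sub]
  obtain ⟨vm, hvm0, hvm, hvm'⟩ : ∃ v, v ≠ 0 ∧ act t v = -v ∧ act t' v = -v := by
    rcases hr with rfl | rfl
    · rw [one_smul] at hv'
      refine ⟨act C v, fun h => hv0 (act_injective C (h.trans (Matrix.mulVec_zero _).symm)), ?_, ?_⟩
      · have e1 : act t' (act C v) = -act C v := by rw [← act_mul, ← C3, act_mul, hv, act_neg4 hstar hF]
        have e2 : act (t * t') (act C v) = act C v := by rw [← act_mul, ← C1, act_mul, hv']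
        rw [act_mul, e1, act_neg4 hstar hF] at e2
        exact neg_eq_iff_eq_neg.1 e2
      · rw [← act_mul, ← C3, act_mul, hv, act_neg4 hstar hF]
    · exact ⟨v, hv0, hv, by rw [hv', neg_one_smul]⟩
  obtain ⟨f1, n_f1, f1t, f1t'⟩ := joint_unit hstar hF htt htt' hcomm (Or.inr rfl) (Or.inr rfl) hvm0
    (by rw [hvm, neg_one_smul]) (by rw [hvm', neg_one_smul])
  rw [neg_one_smul] at f1t f1t'
  -- the other two
  set f0 := act W f1 with hf0
  set f2 := act C f1 with hf2
  have n_f0 : herm f0 f0 = 1 := by rw [hf0, herm_act hstar, n_f1]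
  have n_f2 : herm f2 f2 = 1 := by rw [hf2, herm_act hstar, n_f1]
  have f0t : act t f0 = -f0 := by rw [hf0, ← act_mul, ← W3, act_mul, f1t, act_neg4 hstar hF]
  have f0t' : act t' f0 = f0 := by
    have e2 : act (t * t') f0 = -f0 := by rw [hf0, ← act_mul, ← W1, act_mul, f1t', act_neg4 hstar hF]
    rw [hcomm.eq, act_mul, f0t, act_neg4 hstar hF] at e2
    exact neg_injective e2
  have f2t' : act t' f2 = -f2 := by rw [hf2, ← act_mul, ← C3, act_mul, f1t, act_neg4 hstar hF]
  have f2t : act t f2 = f2 := by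
    have e2 : act (t * t') f2 = -f2 := by rw [hf2, ← act_mul, ← C1, act_mul, f1t', act_neg4 hstar hF]
    rw [act_mul, f2t', act_neg4 hstar hF] at e2
    exact neg_injective e2
  have orth : ∀ (s : Cfsg.SU 4 F 3) (a b : Fin 4 → F), act s a = a → act s b = -b → herm a b = 0 :=
    fun s a b ha hb => by
      have := herm_act hstar s a b
      rw [ha, hb, show herm a (-b) = -herm a b by rw [← neg_one_smul F b, herm_smul_right]; ring] at this
      exact (mul_eq_zero.1 (by linear_combination -this : (2 : F) * herm a b = 0)).resolve_left h2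
  obtain ⟨g, hg⟩ := exists_move hstar hF
    (v := ![Pi.single 0 1, Pi.single 1 1, Pi.single 2 1]) (w := ![f0, f1, f2])
    (on_three (by simp [herm_single_left]) (by simp [herm_single_left]) (by simp [herm_single_left])
      (by simp [herm_single_left]) (by simp [herm_single_left]) (by simp [herm_single_left]))
    (on_three n_f0 n_f1 n_f2 (orth t' f0 f1 f0t' f1t') (orth t' f0 f2 f0t' f2t')
      (herm_comm_zero (orth t f2 f1 f2t f1t)))
    (by norm_num)
  have g0 : act g (Pi.single 0 (1 : F)) = f0 := hg 0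
  have g1 : act g (Pi.single 1 (1 : F)) = f1 := hg 1
  have g2 : act g (Pi.single 2 (1 : F)) = f2 := hg 2
  refine ⟨g, ?_⟩
  let θ' : Cfsg.SU 3 F 3 →* Cfsg.SU 4 F 3 := (MulAut.conj g⁻¹).toMonoidHom.comp θ
  have hθ' : ∀ x, θ' x = g⁻¹ * θ x * g := fun x => by simp [θ']
  have conjv : ∀ (s : Cfsg.SU 4 F 3) (k : Fin 4) (f : Fin 4 → F) (c : F), act g (Pi.single k (1 : F)) = f →
      act s f = c • f → act (g⁻¹ * s * g) (Pi.single k (1 : F)) = c • Pi.single k 1 := by
    intro s k f c hk hs
    rw [act_mul, act_mul, hk, hs, act_smul, ← hk, act_inv_act]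
  -- the two involutions are diagonal
  have diag_of : ∀ (X : Cfsg.SU 4 F 3) (e0 e1 e2 : F), (e0 = 1 ∨ e0 = -1) → (e1 = 1 ∨ e1 = -1) →
      (e2 = 1 ∨ e2 = -1) → act X (Pi.single 0 (1 : F)) = e0 • Pi.single 0 1 →
      act X (Pi.single 1 (1 : F)) = e1 • Pi.single 1 1 → act X (Pi.single 2 (1 : F)) = e2 • Pi.single 2 1 →
      X.1.1 = Matrix.diagonal ![e0, e1, e2, e0 * e1 * e2] := by
    intro X e0 e1 e2 s0 s1 s2 a0 a1 a2
    have col : ∀ (k : Fin 4) (c : F), act X (Pi.single k (1 : F)) = c • Pi.single k 1 →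
        ∀ i, X.1.1 i k = c * (Pi.single k 1 : Fin 4 → F) i := fun k c hk i => by
      have := congrFun hk i
      simpa [act, Matrix.mulVec_single] using this
    have row : ∀ (k : Fin 4) (c : F), (c = 1 ∨ c = -1) → act X (Pi.single k (1 : F)) = c • Pi.single k 1 →
        k ≠ 3 → X.1.1 k 3 = 0 := by
      intro k c hc hk h3
      have hm := congrFun (congrFun (conjTranspose_mul_self hstar X) k) 3
      rw [Matrix.mul_apply, Finset.sum_eq_single k] at hm
      · rw [Matrix.conjTranspose_apply, col k c hk, Matrix.one_apply_ne h3, Pi.single_eq_same] at hm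
        rcases hc with rfl | rfl <;> simpa using hm
      · intro i _ hi
        rw [Matrix.conjTranspose_apply, col k c hk, Pi.single_eq_of_ne hi, mul_zero, star_zero, zero_mul]
      · simp
    have r0 := row 0 e0 s0 a0 (by decide)
    have r1 := row 1 e1 s1 a1 (by decide)
    have r2 := row 2 e2 s2 a2 (by decide)
    have hd : X.1.1.det = 1 := X.1.2
    have hM : X.1.1 = Matrix.diagonal ![e0, e1, e2, X.1.1 3 3] := by
      ext i j
      fin_cases i <;> fin_cases j <;> simp [col 0 e0 a0, col 1 e1 a1, col 2 e2 a2, r0, r1, r2]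
    rw [hM, Matrix.det_diagonal, Fin.prod_univ_four] at hd
    simp at hd
    rw [hM]
    congr 1
    have sq : (e0 * e1 * e2) * (e0 * e1 * e2) = 1 := by
      rcases s0 with rfl | rfl <;> rcases s1 with rfl | rfl <;> rcases s2 with rfl | rfl <;> simp
    have : X.1.1 3 3 = e0 * e1 * e2 := by linear_combination (e0 * e1 * e2) * hd - X.1.1 3 3 * sq
    rw [this]
  have T3 : (θ' (bA hstar z)).1.1 = Matrix.diagonal ![-1, -1, 1, 1] := by
    rw [hθ', ← ht, diag_of _ (-1) (-1) 1 (Or.inr rfl) (Or.inr rfl) (Or.inl rfl)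
      (conjv t 0 f0 _ g0 (by rw [f0t, neg_one_smul])) (conjv t 1 f1 _ g1 (by rw [f1t, neg_one_smul]))
      (conjv t 2 f2 _ g2 (by rw [f2t, one_smul]))]
    simp
  have T1 : (θ' (bB hstar z)).1.1 = Matrix.diagonal ![1, -1, -1, 1] := by
    rw [hθ', ← ht', diag_of _ 1 (-1) (-1) (Or.inl rfl) (Or.inr rfl) (Or.inr rfl)
      (conjv t' 0 f0 _ g0 (by rw [f0t', one_smul])) (conjv t' 1 f1 _ g1 (by rw [f1t', neg_one_smul]))
      (conjv t' 2 f2 _ g2 (by rw [f2t', neg_one_smul]))]
    simp
  have hval : ∀ a b, (θ' (a * b)).1.1 = (θ' a).1.1 * (θ' b).1.1 := fun a b => by rw [map_mul]; rfl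
  have hn : (-1 : F) ≠ 1 := fun h => h2 (by linear_combination -h)
  have blkz : ∀ x, ∀ i j : Fin 4, ![(-1 : F), -1, 1, 1] i ≠ ![(-1 : F), -1, 1, 1] j →
      (θ' (bA hstar x)).1.1 i j = 0 := fun x i j hij => comm_diag hstar hF (by
    rw [← T3, ← hval, ← hval, ← map_mul, ← map_mul, hzc]) hij
  -- the action on the last two coordinates
  let L : Cfsg.SU 2 F 3 →* Matrix (Fin 2) (Fin 2) F :=
    { toFun := fun x => !![(θ' (bA hstar x)).1.1 2 2, (θ' (bA hstar x)).1.1 2 3;
        (θ' (bA hstar x)).1.1 3 2, (θ' (bA hstar x)).1.1 3 3]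
      map_one' := by
        rw [map_one, map_one]
        ext i j; fin_cases i <;> fin_cases j <;> simp
      map_mul' := fun x y => by
        rw [map_mul, hval]
        have z20 := blkz x 2 0 (by simpa using hn.symm)
        have z21 := blkz x 2 1 (by simpa using hn.symm)
        have z30 := blkz x 3 0 (by simpa using hn.symm)
        have z31 := blkz x 3 1 (by simpa using hn.symm)
        ext i j
        fin_cases i <;> fin_cases j <;>
          simp [Matrix.mul_apply, Fin.sum_univ_four, Fin.sum_univ_two, z20, z21, z30, z31] }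
  obtain ⟨ζ, hζ, hζ2⟩ := exists_zeta hstar hF (le_refl 3)
  obtain ⟨hζs, hζstar⟩ := zeta_sq hstar hF hζ hζ2
  set d := dia (q := 3) hstar ζ hζ with hd
  have hdd : d * d = z := eq_of_mat (by
    rw [hzv]
    show d.1.1 * d.1.1 = _
    rw [hd, dia_val]
    ext r s; fin_cases r <;> fin_cases s <;> simp [Matrix.mul_apply, Fin.sum_univ_two, hζstar]
    all_goals linear_combination hζs)
  have dB : bA hstar d * bB hstar z = bB hstar z * bA hstar d := by
    refine eq_of_vec fun a b c => ?_
    simp only [act_mul, act_bA_vec, act_bB_vec]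
    funext r
    fin_cases r <;> simp [act, Matrix.mulVec, dotProduct, Fin.sum_univ_two, hzv, hd, dia_val]
  have cd : ∀ i j : Fin 4, ![(1 : F), -1, -1, 1] i ≠ ![(1 : F), -1, -1, 1] j →
      (θ' (bA hstar d)).1.1 i j = 0 := fun i j hij => comm_diag hstar hF (by
    rw [← T1, ← hval, ← hval, dB]) hij
  have hWw : ∀ i j : Fin 4, (θ' (bA hstar (w2 hstar))).1.1 i j * ![(1 : F), -1, -1, 1] j =
      ![(-1 : F), 1, -1, 1] i * (θ' (bA hstar (w2 hstar))).1.1 i j := fun i j => by
    have e : (θ' (bA hstar (w2 hstar))).1.1 * (θ' (bB hstar z)).1.1 =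
        ((θ' (bA hstar z)).1.1 * (θ' (bB hstar z)).1.1) * (θ' (bA hstar (w2 hstar))).1.1 := by
      rw [← hval, ← hval, ← hval, w1]
    rw [T1, T3, Matrix.diagonal_mul_diagonal] at e
    have := congrFun (congrFun e i) j
    rw [Matrix.mul_diagonal, Matrix.diagonal_mul] at this
    rw [this]
    congr 1
    fin_cases i <;> simp
  have w23 : (θ' (bA hstar (w2 hstar))).1.1 2 3 = 0 := by
    have := hWw 2 3; simp at this
    exact (mul_eq_zero.1 (by linear_combination this : (2 : F) * _ = 0)).resolve_left h2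
  have w32 : (θ' (bA hstar (w2 hstar))).1.1 3 2 = 0 := by
    have := hWw 3 2; simp at this
    exact (mul_eq_zero.1 (by linear_combination -this : (2 : F) * _ = 0)).resolve_left h2
  have d23 := cd 2 3 (by simpa using hn)
  have d32 := cd 3 2 (by simpa using hn.symm)
  obtain ⟨p, hp⟩ : ∃ p, p = (θ' (bA hstar d)).1.1 2 2 := ⟨_, rfl⟩
  obtain ⟨p', hp'⟩ : ∃ p, p = (θ' (bA hstar d)).1.1 3 3 := ⟨_, rfl⟩
  obtain ⟨s, hs⟩ : ∃ p, p = (θ' (bA hstar (w2 hstar))).1.1 2 2 := ⟨_, rfl⟩
  obtain ⟨s', hs'⟩ : ∃ p, p = (θ' (bA hstar (w2 hstar))).1.1 3 3 := ⟨_, rfl⟩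
  have Ld : L d = !![p, 0; 0, p'] := by
    show !![_, _; _, _] = _
    rw [d23, d32, hp, hp']
  have Lw : L (w2 hstar) = !![s, 0; 0, s'] := by
    show !![_, _; _, _] = _
    rw [w23, w32, hs, hs']
  have Lz : L z = 1 := by
    show !![_, _; _, _] = _
    rw [T3]
    ext i j; fin_cases i <;> fin_cases j <;> simp
  have sqp : p * p = 1 ∧ p' * p' = 1 := by
    have := congrArg L hdd
    rw [map_mul, Ld, Lz] at this
    have a := congrFun (congrFun this 0) 0
    have b := congrFun (congrFun this 1) 1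
    simp [Matrix.mul_apply, Fin.sum_univ_two] at a b
    exact ⟨a, b⟩
  have sqs : s * s = 1 ∧ s' * s' = 1 := by
    have := congrArg L hzw.symm
    rw [map_mul, Lw, Lz] at this
    have a := congrFun (congrFun this 0) 0
    have b := congrFun (congrFun this 1) 1
    simp [Matrix.mul_apply, Fin.sum_univ_two] at a b
    exact ⟨a, b⟩
  obtain ⟨x₀, r1, r2⟩ := exists_rotate hstar hF ζ hζ hζ2
  have inv0 : ∀ y y', x₀ * y * x₀⁻¹ = y' →
      (L y).trace = (L y').trace ∧ (L y).det = (L y').det := by
    intro y y' h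
    rw [← h, ← MonoidHom.coe_toHomUnits L y, ← MonoidHom.coe_toHomUnits L, map_mul, map_mul, map_inv,
      Units.val_mul, Units.val_mul]
    exact ⟨(Matrix.trace_units_conj _ _).symm, (Matrix.det_units_conj _ _).symm⟩
  obtain ⟨t1, e1⟩ := inv0 d _ r1
  obtain ⟨t2, e2⟩ := inv0 (w2 hstar) _ r2
  rw [Ld, Lw] at t1 e1
  rw [map_mul, Ld, Lw] at t2 e2
  simp [Matrix.trace_fin_two, Matrix.det_fin_two] at t1 e1 t2 e2
  have hpp : p = 1 ∧ p' = 1 ∧ s = 1 ∧ s' = 1 := by
    have hss : s * s' ≠ 0 := fun h => by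
      rcases mul_eq_zero.1 h with h | h
      · rw [h, mul_zero] at sqs; exact zero_ne_one sqs.1
      · rw [h, mul_zero] at sqs; exact zero_ne_one sqs.2
    have pp1 : p * p' = 1 := by
      have : (p * p' - 1) * (s * s') = 0 := by linear_combination -e2
      exact sub_eq_zero.1 ((mul_eq_zero.1 this).resolve_right hss)
    have hp_eq : p' = p := by linear_combination p * pp1 - p' * sqp.1
    have hs_eq : s' = s := by linear_combination s * (e1.symm.trans pp1) - s' * sqs.1
    rw [hp_eq, hs_eq] at t1 t2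
    have hps : p = s := mul_left_cancel₀ h2 (by linear_combination t1)
    rw [← hps] at t2
    have : p = 1 := mul_left_cancel₀ h2 (by linear_combination t2 + 2 * sqp.1)
    exact ⟨this, hp_eq.trans this, hps.symm.trans this, hs_eq.trans (hps.symm.trans this)⟩
  obtain ⟨hp1, hp1', -, -⟩ := hpp
  -- the element centralising the block
  set sc := bA hstar d * bB hstar z with hsc
  have scomm : ∀ x, sc * bA hstar x = bA hstar x * sc := fun x => by
    refine eq_of_vec fun a b c => ?_
    rw [hsc]
    simp only [act_mul, act_bA_vec, act_bB_vec]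
    funext r
    fin_cases r <;> simp [act, Matrix.mulVec, dotProduct, Fin.sum_univ_two, hzv, hd, dia_val, hζstar] <;> ring
  have s22 : (θ' sc).1.1 2 2 = -1 ∧ (θ' sc).1.1 3 3 = 1 ∧ (θ' sc).1.1 2 3 = 0 ∧ (θ' sc).1.1 3 2 = 0 := by
    rw [hsc, hval, T1]
    simp only [Matrix.mul_diagonal]
    simp [d23, d32, ← hp, ← hp', hp1, hp1']
  have offd : ∀ x, (θ' (bA hstar x)).1.1 2 3 = 0 ∧ (θ' (bA hstar x)).1.1 3 2 = 0 := fun x => by
    have e := congrArg (fun y => (θ' y).1.1) (scomm x)
    simp only [hval] at e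
    have a := congrFun (congrFun e 2) 3
    have b := congrFun (congrFun e 3) 2
    have x0 := blkz x 0 3 (by simpa using hn)
    have x1 := blkz x 1 3 (by simpa using hn)
    have y0 := blkz x 0 2 (by simpa using hn)
    have y1 := blkz x 1 2 (by simpa using hn)
    have u0 := blkz x 2 0 (by simpa using hn.symm)
    have u1 := blkz x 2 1 (by simpa using hn.symm)
    have v0 := blkz x 3 0 (by simpa using hn.symm)
    have v1 := blkz x 3 1 (by simpa using hn.symm)
    obtain ⟨q22, q33, q23, q32⟩ := s22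
    simp [Matrix.mul_apply, Fin.sum_univ_four, x0, x1, y0, y1, u0, u1, v0, v1, q22, q33, q23, q32] at a b
    exact ⟨(mul_eq_zero.1 (by linear_combination -a : (2 : F) * _ = 0)).resolve_left h2,
      (mul_eq_zero.1 (by linear_combination b : (2 : F) * _ = 0)).resolve_left h2⟩
  let χ : Cfsg.SU 2 F 3 →* F :=
    { toFun := fun x => (θ' (bA hstar x)).1.1 3 3
      map_one' := by simp
      map_mul' := fun x y => by
        rw [map_mul, hval]
        simp [Matrix.mul_apply, Fin.sum_univ_four, blkz x 3 0 (by simpa using hn.symm),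
          blkz x 3 1 (by simpa using hn.symm), (offd x).2] }
  have hcol : ∀ x, act (θ' (bA hstar x)) (Pi.single 3 (1 : F)) = χ x • Pi.single 3 1 := fun x => by
    funext i
    rw [Pi.smul_apply, smul_eq_mul]
    simp only [act, Matrix.mulVec_single, MulOpposite.op_one, one_smul, Matrix.col_apply]
    fin_cases i <;> simp [χ, blkz x 0 3 (by simpa using hn), blkz x 1 3 (by simpa using hn), (offd x).1]
  have hχ : χ.toHomUnits = 1 := norm_char_trivial hstar hF le_rfl _ fun x => Units.ext (by
    rw [Units.val_pow_eq_pow_val, MonoidHom.coe_toHomUnits, Units.val_one, pow_succ, ← hstar]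
    have := herm_act hstar (θ' (bA hstar x)) (Pi.single 3 (1 : F)) (Pi.single 3 1)
    rwa [hcol, herm_smul_left, herm_smul_right, herm_single_left, Pi.single_eq_same, star_one, one_mul,
      mul_one] at this)
  have fixA : ∀ x, act (θ' (bA hstar x)) (Pi.single 3 (1 : F)) = Pi.single 3 1 := fun x => by
    rw [hcol, show χ x = 1 from congrArg Units.val (DFunLike.congr_fun hχ x), one_smul]
  -- transfer to the other block
  set c := bA hstar (w2 hstar) * bB hstar (w2 hstar) with hc
  have hk : ∃ k : F, act (θ' c) (Pi.single 3 (1 : F)) = k • Pi.single 3 1 := by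
    refine ⟨(θ' c).1.1 3 3, ?_⟩
    have e3 : (θ' c).1.1 * (θ' (bA hstar z)).1.1 = (θ' (bB hstar z)).1.1 * (θ' c).1.1 := by
      rw [← hval, ← hval, c3]
    have e1 : (θ' c).1.1 * (θ' (bB hstar z)).1.1 =
        ((θ' (bA hstar z)).1.1 * (θ' (bB hstar z)).1.1) * (θ' c).1.1 := by
      rw [← hval, ← hval, ← hval, c1]
    rw [T1, T3] at e3
    rw [T1, T3, Matrix.diagonal_mul_diagonal] at e1
    funext i
    simp only [act, Matrix.mulVec_single, MulOpposite.op_one, one_smul, Matrix.col_apply, Pi.smul_apply,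
      smul_eq_mul]
    have a := congrFun (congrFun e3 i) 3
    have b := congrFun (congrFun e1 i) 3
    rw [Matrix.mul_diagonal, Matrix.diagonal_mul] at a b
    fin_cases i <;> simp at a b ⊢
    · exact (mul_eq_zero.1 (by linear_combination b : (2 : F) * _ = 0)).resolve_left h2
    · exact (mul_eq_zero.1 (by linear_combination a : (2 : F) * _ = 0)).resolve_left h2
    · exact (mul_eq_zero.1 (by linear_combination a : (2 : F) * _ = 0)).resolve_left h2
  obtain ⟨k, hk⟩ := hk
  have hk0 : k ≠ 0 := fun h => by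
    rw [h, zero_smul] at hk
    have := congrFun (act_injective (θ' c) (hk.trans (Matrix.mulVec_zero _).symm)) 3
    simp at this
  have hci : act (θ' c)⁻¹ (Pi.single 3 (1 : F)) = k⁻¹ • Pi.single 3 1 := by
    apply act_injective (θ' c)
    rw [act_act_inv, act_smul, hk, smul_smul, inv_mul_cancel₀ hk0, one_smul]
  intro x
  rw [← hθ']
  have htop : (⊤ : Subgroup (Cfsg.SU 3 F 3)) ≤ (fixS 3 ({Pi.single 3 1} : Set (Fin 4 → F))).comap θ' := by
    rw [← gen_three hstar hF le_rfl]
    refine sup_le ?_ ?_ <;> rintro _ ⟨y, rfl⟩ <;> rw [Subgroup.mem_comap] <;> intro b hb <;>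
      rw [Set.mem_singleton_iff.1 hb]
    · exact fixA y
    · rw [show bB hstar y = c * bA hstar y * c⁻¹ by rw [hc, conj_blocks, mul_inv_cancel_right], map_mul, map_mul,
        map_inv, act_mul, act_mul, hci, act_smul, fixA, act_smul, hk, smul_smul, inv_mul_cancel₀ hk0, one_smul]
  exact htop (Subgroup.mem_top x) _ rfl

end Cfsg.Agent.Small.Phan
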