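import Cfsg.Agent.Lib.Small.Unitary.Generation
import Cfsg.Agent.Lib.Small.UCover.Elements

/-!
Norms in a field with `q²` elements and bases of the four-dimensional unitary space, for Phan's theorem.
-/

set_option autoImplicit false
set_option linter.unusedSectionVars false
set_option linter.style.haveILetI false

namespace Cfsg.Agent.Small.Phan

open Matrix Cfsg.Agent.Small.Unitary Cfsg.Agent.Small.UCover

variable {F : Type*} [Field F] [Fintype F] [StarRing F] {q : ℕ}

/-- The norm. -/
def N (x : F) : F := star x * x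

theorem N_def (x : F) : N x = star x * x := rfl

theorem N_mul (x y : F) : N (x * y) = N x * N y := by simp only [N, star_mul']; ring

theorem N_one : N (1 : F) = 1 := by simp [N]

theorem N_zero : N (0 : F) = 0 := by simp [N]

theorem N_eq_zero {x : F} : N x = 0 ↔ x = 0 := by simp [N]

theorem N_star (x : F) : N (star x) = N x := by simp only [N, star_star]; ring

theorem star_N (x : F) : star (N x) = N x := by simp only [N, star_mul', star_star]; ring

theorem N_inv (x : F) : N x⁻¹ = (N x)⁻¹ := by simp only [N, star_inv₀, mul_inv]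

theorem herm_self_smul {n : ℕ} (c : F) (v : Fin n → F) : herm (c • v) (c • v) = N c * herm v v := by
  rw [herm_smul_left, herm_smul_right, N]; ring

variable (hstar : ∀ x : F, star x = x ^ q) (hF : Fintype.card F = q ^ 2)
include hstar hF

/-- A nonzero element whose norm avoids two values. -/
theorem exists_norm_avoid (hq : 4 ≤ q) (a b : F) : ∃ K : F, K ≠ 0 ∧ N K ≠ a ∧ N K ≠ b := by
  classical
  obtain ⟨g, hg⟩ := IsCyclic.exists_ofOrder_eq_natCard (α := Fˣ)
  rw [Nat.card_units, Nat.card_eq_fintype_card, hF] at hg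
  obtain ⟨m, rfl⟩ : ∃ m, q = m + 1 := ⟨q - 1, by omega⟩
  have hsq : (m + 1) ^ 2 - 1 = (m + 2) * m := by
    rw [show (m + 1) ^ 2 = (m + 2) * m + 1 by ring]; omega
  rw [hsq] at hg
  have hN : ∀ i : ℕ, N ((g : F) ^ i) = ((g ^ ((m + 2) * i) : Fˣ) : F) := fun i => by
    rw [N, hstar, Units.val_pow_eq_pow_val, ← pow_succ, ← pow_mul, mul_comm i]
  have hinj : ∀ i j : ℕ, i < 3 → j < 3 → N ((g : F) ^ i) = N ((g : F) ^ j) → i = j := fun i j hi hj h => by
    rw [hN, hN, Units.val_inj] at h
    have := pow_injOn_Iio_orderOf (x := g) (show (m + 2) * i < orderOf g by rw [hg]; exact Nat.mul_lt_mul_of_pos_left (by omega) (by omega))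
      (show (m + 2) * j < orderOf g by rw [hg]; exact Nat.mul_lt_mul_of_pos_left (by omega) (by omega)) h
    exact Nat.eq_of_mul_eq_mul_left (by omega) this
  have h0 : ∀ i : ℕ, ((g : F) ^ i) ≠ 0 := fun i => pow_ne_zero _ g.ne_zero
  by_contra hcon
  push Not at hcon
  have hab : ∀ i : ℕ, N ((g : F) ^ i) = a ∨ N ((g : F) ^ i) = b := fun i =>
    (eq_or_ne (N ((g : F) ^ i)) a).imp id (hcon _ (h0 i))
  rcases hab 0 with e0 | e0 <;> rcases hab 1 with e1 | e1 <;> rcases hab 2 with e2 | e2
  all_goals
    first
    | exact absurd (hinj 0 1 (by norm_num) (by norm_num) (e0.trans e1.symm)) (by norm_num)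
    | exact absurd (hinj 0 2 (by norm_num) (by norm_num) (e0.trans e2.symm)) (by norm_num)
    | exact absurd (hinj 1 2 (by norm_num) (by norm_num) (e1.trans e2.symm)) (by norm_num)

/-- The elements of norm one span the field. -/
theorem addClosure_norm_one (S : AddSubgroup F) (r : F) (hr : r ≠ 0) (h : ∀ x : F, N x = N r → x ∈ S) :
    S = ⊤ := by
  classical
  let U : Submonoid F :=
    { carrier := {x | N x = 1}
      one_mem' := N_one
      mul_mem' := fun {x y} hx hy => by
        show N (x * y) = 1
        rw [N_mul, hx, hy, one_mul] }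
  let T : Subfield F :=
    { toSubring := Subring.closure (U : Set F)
      inv_mem' := fun x hx => by
        rcases eq_or_ne x 0 with rfl | h0
        · rw [_root_.inv_zero]; exact (Subring.closure (U : Set F)).zero_mem
        have : x⁻¹ = x ^ (q ^ 2 - 2) := by
          refine inv_eq_of_mul_eq_one_left ?_
          have h2 : 2 ≤ q ^ 2 := hF ▸ Fintype.one_lt_card
          rw [← pow_succ, show q ^ 2 - 2 + 1 = q ^ 2 - 1 by omega, ← hF]
          exact FiniteField.pow_card_sub_one_eq_one x h0
        rw [this]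
        exact (Subring.closure (U : Set F)).toSubsemiring.toSubmonoid.pow_mem hx _ }
  have hUT : ∀ x, N x = 1 → x ∈ T := fun x hx => Subring.subset_closure hx
  have hTS : ∀ x ∈ T, r * x ∈ S := by
    intro x hx
    have hx' : x ∈ Subring.closure (U : Set F) := hx
    rw [Subring.mem_closure_iff, Submonoid.closure_eq] at hx'
    have : AddSubgroup.closure (U : Set F) ≤ S.comap (AddMonoidHom.mulLeft r) := by
      rw [AddSubgroup.closure_le]
      intro y hy
      show r * y ∈ S
      exact h _ (by rw [N_mul, hy, mul_one])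
    exact this hx'
  suffices hT : ∀ x : F, x ∈ T by
    rw [eq_top_iff]
    intro x _
    have := hTS (r⁻¹ * x) (hT _)
    rwa [← mul_assoc, mul_inv_cancel₀ hr, one_mul] at this
  -- the norm one elements are too many for a proper subfield
  have hcard : q + 2 ≤ Fintype.card T := by
    obtain ⟨g, hg⟩ := IsCyclic.exists_ofOrder_eq_natCard (α := Fˣ)
    rw [Nat.card_units, Nat.card_eq_fintype_card, hF] at hg
    have hq1 : 2 ≤ q := Hermitian.q_two_le hF
    obtain ⟨m, rfl⟩ : ∃ m, q = m + 1 := ⟨q - 1, by omega⟩
    rw [show (m + 1) ^ 2 - 1 = (m + 2) * m by rw [show (m + 1) ^ 2 = (m + 2) * m + 1 by ring]; omega] at hg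
    have hu : ∀ i : ℕ, N ((g : F) ^ (m * i)) = 1 := fun i => by
      rw [N, hstar, ← pow_succ, ← pow_mul, show m * i * (m + 1 + 1) = (m + 2) * m * i by ring, pow_mul,
        ← Units.val_pow_eq_pow_val, ← hg, pow_orderOf_eq_one, Units.val_one, one_pow]
    let f : Option (Fin (m + 2)) → T := fun o =>
      match o with
      | none => 0
      | some i => ⟨(g : F) ^ (m * (i : ℕ)), hUT _ (hu i)⟩
    have hf : Function.Injective f := by
      rintro (_ | i) (_ | j) h
      · rfl
      · exact absurd (congrArg Subtype.val h).symm (pow_ne_zero _ g.ne_zero)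
      · exact absurd (congrArg Subtype.val h) (pow_ne_zero _ g.ne_zero)
      · have h' : (g : F) ^ (m * (i : ℕ)) = (g : F) ^ (m * (j : ℕ)) := congrArg Subtype.val h
        rw [← Units.val_pow_eq_pow_val, ← Units.val_pow_eq_pow_val, Units.val_inj] at h'
        have := pow_injOn_Iio_orderOf (x := g)
          (show m * (i : ℕ) < orderOf g by rw [hg, mul_comm (m + 2)]; exact Nat.mul_lt_mul_of_pos_left i.isLt (by omega))
          (show m * (j : ℕ) < orderOf g by rw [hg, mul_comm (m + 2)]; exact Nat.mul_lt_mul_of_pos_left j.isLt (by omega)) h'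
        rw [Option.some_inj]
        exact Fin.ext (Nat.eq_of_mul_eq_mul_left (by omega) this)
    have := Fintype.card_le_of_injective f hf
    rw [Fintype.card_option, Fintype.card_fin] at this
    omega
  have hd := Module.card_eq_pow_finrank (K := T) (V := F)
  rw [hF] at hd
  have hd1 : Module.finrank T F = 1 := by
    have hpos : 0 < Module.finrank T F := Module.finrank_pos
    by_contra hne
    have h2 : (Fintype.card T) ^ 2 ≤ q ^ 2 := by
      rw [hd]; exact Nat.pow_le_pow_right (by omega) (by omega)
    have : q ^ 2 < (Fintype.card T) ^ 2 := Nat.pow_lt_pow_left (by omega) (by norm_num)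
    omega
  have hbot : Fintype.card T = Fintype.card F := by rw [hF, hd, hd1, pow_one]
  intro x
  obtain ⟨y, rfl⟩ := ((Fintype.bijective_iff_injective_and_card _).2
    ⟨Subtype.val_injective, hbot⟩ : Function.Bijective (Subtype.val : T → F)).2 x
  exact y.2

variable {n : ℕ}

omit hstar hF in
/-- Vectors orthogonal to an orthonormal basis vanish. -/
theorem eq_zero_of_perp {v : Fin n → Fin n → F} (hv : ON v) {x : Fin n → F} (hx : ∀ a, herm (v a) x = 0) :
    x = 0 := by
  have hU : (Matrix.of fun i j => v j i)ᴴ * (Matrix.of fun i j => v j i) = (1 : Matrix (Fin n) (Fin n) F) := by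
    ext a b
    rw [Matrix.one_apply, ← hv a b]
    rfl
  have hU' := mul_eq_one_comm.1 hU
  calc x = (Matrix.of fun i j => v j i) *ᵥ ((Matrix.of fun i j => v j i)ᴴ *ᵥ x) := by
        rw [Matrix.mulVec_mulVec, hU', Matrix.one_mulVec]
    _ = 0 := by
      rw [show (Matrix.of fun i j => v j i)ᴴ *ᵥ x = 0 from funext fun a => hx a, Matrix.mulVec_zero]

omit hstar hF in
/-- Two more vectors complete an orthonormal pair of the four-dimensional space. -/
theorem expand_plane {a v y₁ y₂ z : Fin 4 → F} (h : ON ![a, v, y₁, y₂]) (hza : herm a z = 0)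
    (hzv : herm v z = 0) : z = herm y₁ z • y₁ + herm y₂ z • y₂ := by
  have hh : ∀ i j, herm (![a, v, y₁, y₂] i) (![a, v, y₁, y₂] j) = if i = j then 1 else 0 := h
  rw [← sub_eq_zero]
  refine eq_zero_of_perp h fun i => ?_
  rw [herm_sub_right, herm_add_right, herm_smul_right, herm_smul_right]
  have e2 := hh i 2
  have e3 := hh i 3
  fin_cases i <;> simp at e2 e3 ⊢ <;> simp [e2, e3, hza, hzv]

/-- A unit vector of a hyperbolic plane with given product with an isotropic vector. -/
theorem exists_plane_unit {a v z : Fin 4 → F} (hav : ON ![a, v]) (hz0 : z ≠ 0) (hzz : herm z z = 0)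
    (hza : herm a z = 0) (hzv : herm v z = 0) {K : F} (hK : K ≠ 0) :
    ∃ x : Fin 4 → F, herm x x = 1 ∧ herm a x = 0 ∧ herm v x = 0 ∧ herm z x = K := by
  obtain ⟨y₁, h1, h1p⟩ := exists_unit_perp hstar hF hav (by norm_num)
  have hon3 : ON ![a, v, y₁] := on_three (hav 0 0) (hav 1 1) h1 (hav 0 1) (h1p 0) (h1p 1)
  obtain ⟨y₂, h2, h2p⟩ := exists_unit_perp hstar hF hon3 (by norm_num)
  have e12 : herm y₁ y₂ = 0 := h2p 2
  have e21 : herm y₂ y₁ = 0 := by rw [← star_herm, e12, star_zero]
  have hon : ON ![a, v, y₁, y₂] := by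
    intro i j
    have hs : ∀ {u w : Fin 4 → F}, herm u w = 0 → herm w u = 0 := fun {u w} h => by rw [← star_herm, h, star_zero]
    have a0 : herm a a = 1 := hav 0 0
    have a1 : herm v v = 1 := hav 1 1
    have a01 : herm a v = 0 := hav 0 1
    have b0 : herm a y₁ = 0 := h1p 0
    have b1 : herm v y₁ = 0 := h1p 1
    have c0 : herm a y₂ = 0 := h2p 0
    have c1 : herm v y₂ = 0 := h2p 1
    fin_cases i <;> fin_cases j <;> simp [a0, a1, h1, h2, a01, b0, b1, c0, c1, e12, e21, hs a01, hs b0, hs b1, hs c0, hs c1]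
  have hz := expand_plane hon hza hzv
  set z₁ := herm y₁ z
  set z₂ := herm y₂ z
  have hN : N z₁ + N z₂ = 0 := by
    have := hzz
    rw [hz] at this
    simp only [herm_add_left, herm_add_right, herm_smul_left, herm_smul_right, h1, h2, e12, e21] at this
    simp only [N]; linear_combination this
  have hz2 : z₂ ≠ 0 := by
    intro h0
    have : z₁ = 0 := by rw [← N_eq_zero]; rw [h0, N_zero, add_zero] at hN; exact hN
    exact hz0 (by rw [hz, h0, this, zero_smul, zero_smul, add_zero])
  have hz1 : z₁ ≠ 0 := by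
    intro h0
    rw [h0, N_zero, zero_add, N_eq_zero] at hN
    exact hz2 hN
  obtain ⟨e, he⟩ := exists_trace hstar hF (r := N K + N z₁) (by rw [star_add, star_N, star_N])
  set p := e / (star K * star z₁) with hp
  set s := (K - star z₁ * p) / star z₂ with hs
  have hsz : star z₂ * s = K - star z₁ * p := by rw [hs]; field_simp [star_ne_zero.2 hz2]
  have hpe : star K * star z₁ * p = e := by
    rw [hp]; field_simp [star_ne_zero.2 hz1, star_ne_zero.2 hK]
  have hN1 : N p + N s = 1 := by
    have h3 : N z₂ * N s = N K + N z₁ * N p - (e + star e) := by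
      rw [show N z₂ * N s = N (star z₂ * s) by rw [N_mul, N_star], hsz, ← hpe]
      simp only [N, star_sub, star_mul', star_star]; ring
    have h4 : N z₁ ≠ 0 := fun h => hz1 (N_eq_zero.1 h)
    refine mul_left_cancel₀ h4 ?_
    rw [he] at h3
    linear_combination (-1 : F) * h3 + N s * hN
  refine ⟨p • y₁ + s • y₂, ?_, ?_, ?_, ?_⟩
  · simp only [herm_add_left, herm_add_right, herm_smul_left, herm_smul_right, h1, h2, e12, e21]
    simp only [N] at hN1
    linear_combination hN1
  · rw [herm_add_right, herm_smul_right, herm_smul_right, show herm a y₁ = 0 from h1p 0,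
      show herm a y₂ = 0 from h2p 0]; ring
  · rw [herm_add_right, herm_smul_right, herm_smul_right, show herm v y₁ = 0 from h1p 1,
      show herm v y₂ = 0 from h2p 1]; ring
  · rw [hz]
    simp only [herm_add_left, herm_add_right, herm_smul_left, herm_smul_right, h1, h2, e12, e21]
    linear_combination hsz

end Cfsg.Agent.Small.Phan
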