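import Cfsg.Agent.Lib.Small.Phan.Pair

/-!
Automorphisms of the three-dimensional group preserving both blocks.
-/

set_option autoImplicit false
set_option linter.unusedSectionVars false
set_option linter.style.haveILetI false

namespace Cfsg.Agent.Small.Phan

open Matrix Cfsg.Agent.Small.Unitary Cfsg.Agent.Small.UCover Cfsg.Agent.Small.SUPres

universe u

variable {F : Type u} [Field F] [Fintype F] [StarRing F] {q : ℕ} (hstar : ∀ x : F, star x = x ^ q)

section Entries

variable {k n : ℕ}

theorem blk_in (e : Fin k ↪ Fin n) (g : Cfsg.SU k F q) (a b : Fin k) :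
    (blk hstar e g).1.1 (e a) (e b) = g.1.1 a b := by
  have h := congrFun (act_blk_single hstar e g b) (e a)
  simp only [act, Matrix.mulVec_single, MulOpposite.op_one, one_smul, Matrix.col_apply] at h
  rw [eMat_mulVec_apply] at h
  exact h

theorem blk_out_row (e : Fin k ↪ Fin n) (g : Cfsg.SU k F q) {i : Fin n} (hi : ∀ a, e a ≠ i) (b : Fin k) :
    (blk hstar e g).1.1 i (e b) = 0 := by
  have h := congrFun (act_blk_single hstar e g b) i
  simp only [act, Matrix.mulVec_single, MulOpposite.op_one, one_smul, Matrix.col_apply] at h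
  rw [eMat_mulVec_out e _ hi] at h
  exact h

theorem blk_out_col (e : Fin k ↪ Fin n) (g : Cfsg.SU k F q) {j : Fin n} (hj : ∀ a, e a ≠ j) (i : Fin n) :
    (blk hstar e g).1.1 i j = if i = j then 1 else 0 := by
  have h := congrFun (act_blk_out hstar e g hj) i
  simp only [act, Matrix.mulVec_single, MulOpposite.op_one, one_smul, Matrix.col_apply] at h
  rw [h, Pi.single_apply]

end Entries

theorem bA_val (x : Cfsg.SU 2 F q) : (bA hstar x).1.1 =
    !![x.1.1 0 0, x.1.1 0 1, 0; x.1.1 1 0, x.1.1 1 1, 0; 0, 0, 1] := by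
  have h2 : ∀ a : Fin 2, seg 2 0 (by norm_num : 0 + 2 ≤ 3) a ≠ (2 : Fin 3) := fun a h => by
    have := congrArg Fin.val h; rw [seg_val] at this; have := a.isLt; simp at *; omega
  ext i j
  fin_cases i <;> fin_cases j
  · exact blk_in hstar _ x 0 0
  · exact blk_in hstar _ x 0 1
  · exact (blk_out_col hstar _ x h2 0).trans (by simp)
  · exact blk_in hstar _ x 1 0
  · exact blk_in hstar _ x 1 1
  · exact (blk_out_col hstar _ x h2 1).trans (by simp)
  · exact blk_out_row hstar _ x h2 0
  · exact blk_out_row hstar _ x h2 1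
  · exact (blk_out_col hstar _ x h2 2).trans (by simp)

theorem bB_val (x : Cfsg.SU 2 F q) : (bB hstar x).1.1 =
    !![1, 0, 0; 0, x.1.1 0 0, x.1.1 0 1; 0, x.1.1 1 0, x.1.1 1 1] := by
  have h0 : ∀ a : Fin 2, seg 2 1 (by norm_num : 1 + 2 ≤ 3) a ≠ (0 : Fin 3) := fun a h => by
    have := congrArg Fin.val h; rw [seg_val] at this; simp at *
  ext i j
  fin_cases i <;> fin_cases j
  · exact (blk_out_col hstar _ x h0 0).trans (by simp)
  · exact blk_out_row hstar _ x h0 0
  · exact blk_out_row hstar _ x h0 1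
  · exact (blk_out_col hstar _ x h0 1).trans (by simp)
  · exact blk_in hstar _ x 0 0
  · exact blk_in hstar _ x 0 1
  · exact (blk_out_col hstar _ x h0 2).trans (by simp)
  · exact blk_in hstar _ x 1 0
  · exact blk_in hstar _ x 1 1

theorem bA_dia_fix {c : F} (hc : star c * c = 1) {y : Cfsg.SU 2 F q} (hy : IsDia y) :
    bA hstar (dia hstar c hc) * bB hstar y * (bA hstar (dia hstar c hc))⁻¹ = bB hstar y := by
  obtain ⟨y', hy', e00, e01⟩ := bA_dia_conj_bB hstar (isDia_dia hstar c hc) y
  rw [hy']
  congr 1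
  rw [show y.1.1 0 1 = 0 from hy, mul_zero] at e01
  obtain ⟨a, b, -⟩ := entries hstar y
  obtain ⟨a', b', -⟩ := entries hstar y'
  refine eq_of_mat ?_
  ext r s
  fin_cases r <;> fin_cases s <;> simp [a, b, a', b', e00, e01, show y.1.1 0 1 = 0 from hy]

variable (hF : Fintype.card F = q ^ 2) (hq : 3 ≤ q)
include hF hq

/-- An automorphism fixing one block and preserving the other is diagonal. -/
theorem rigid (γ : MulAut (Cfsg.SU 3 F q)) (hA : ∀ x, γ (bA hstar x) = bA hstar x)
    (hB : ∀ x, ∃ y, γ (bB hstar x) = bB hstar y) :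
    ∃ c : F, star c * c = 1 ∧ ∀ g i j, (γ g).1.1 i j = ![1, 1, c] i * g.1.1 i j * star (![1, 1, c] j) := by
  classical
  choose f hf using hB
  let fh : Cfsg.SU 2 F q →* Cfsg.SU 2 F q :=
    { toFun := f
      map_one' := blk_injective hstar _ ((hf 1).symm.trans (by rw [map_one, map_one]; exact (map_one _).symm))
      map_mul' := fun x y => blk_injective hstar _ ((hf _).symm.trans (by
        rw [map_mul, map_mul, hf, hf]; exact (map_mul _ _ _).symm)) }
  haveI : Finite (Cfsg.SU 2 F q) := Subtype.finite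
  have hfi : Function.Injective fh := fun x y h =>
    blk_injective hstar _ (γ.injective ((hf x).trans ((congrArg _ h).trans (hf y).symm)))
  let α : MulAut (Cfsg.SU 2 F q) := MulEquiv.ofBijective fh ⟨hfi, Finite.injective_iff_surjective.1 hfi⟩
  have hαf : ∀ x, γ (bB hstar x) = bB hstar (α x) := hf
  obtain ⟨ζ, hζ, hζ2⟩ := exists_zeta hstar hF hq
  have hdia : ∀ x, IsDia x → IsDia (α x) := fun x hx => by
    have e := congrArg γ (bA_dia_fix hstar hζ hx)
    rw [map_mul, map_mul, map_inv, hA, hαf] at e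
    obtain ⟨y', hy', -, e01⟩ := bA_dia_conj_bB hstar (isDia_dia hstar ζ hζ) (α x)
    rw [hy'] at e
    rw [show y' = α x from blk_injective hstar _ e, show (dia (q := q) hstar ζ hζ).1.1 1 1 = star ζ from rfl] at e01
    show (α x).1.1 0 1 = 0
    have : (1 - star ζ) * (α x).1.1 0 1 = 0 := by linear_combination e01
    refine (mul_eq_zero.1 this).resolve_left fun h => hζ2 ?_
    have hh : star ζ = 1 := (sub_eq_zero.1 h).symm
    rw [hh, one_mul] at hζ
    rw [hζ, one_pow]
  obtain ⟨c, φ, hc, hφ, hform⟩ := exists_form hstar hF hq α hdia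
  have hφ1 : ∀ t : F, star t * t = 1 → φ t = t := by
    intro t ht
    have hts : star (star t) * star t = 1 := by rw [star_star, mul_comm]; exact ht
    obtain ⟨y', hy', -, e01⟩ := bA_dia_conj_bB hstar (isDia_dia hstar (star t) hts) (w2 hstar)
    have e := congrArg γ hy'
    rw [map_mul, map_mul, map_inv, hA, hαf, hαf] at e
    obtain ⟨z, hz, -, f01⟩ := bA_dia_conj_bB hstar (isDia_dia hstar (star t) hts) (α (w2 hstar))
    rw [hz] at e
    rw [blk_injective hstar _ e, hform, hform] at f01
    have hd11 : (dia (q := q) hstar (star t) hts).1.1 1 1 = t := star_star t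
    rw [hd11] at f01 e01
    have w01 : (w2 (q := q) hstar).1.1 0 1 = 1 := rfl
    simp [e01, w01] at f01
    have hc0 : c ≠ 0 := fun h => by rw [h, mul_zero] at hc; exact zero_ne_one hc
    exact mul_left_cancel₀ hc0 (by linear_combination f01)
  have hid : ∀ t, φ t = t := by
    let S : AddSubgroup F :=
      { carrier := {t | φ t = t}
        add_mem' := fun {a b} (ha : φ a = a) (hb : φ b = b) => by show φ (a + b) = a + b; rw [map_add, ha, hb]
        zero_mem' := map_zero φ
        neg_mem' := fun {a} (ha : φ a = a) => by show φ (-a) = -a; rw [map_neg, ha] }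
    intro t
    have : S = ⊤ := addClosure_norm_one hstar hF S 1 one_ne_zero fun x hx => hφ1 x (by rw [N_one] at hx; exact hx)
    exact (this ▸ AddSubgroup.mem_top t : t ∈ S)
  refine ⟨star c, by rw [star_star, mul_comm]; exact hc, ?_⟩
  obtain ⟨β, hβ⟩ := exists_autD hstar ![1, 1, star c]
    (by intro i; fin_cases i <;> simp [mul_comm c, hc]) (RingHom.id F) (fun a => rfl)
  have hc' : c * star c = 1 := by rw [mul_comm]; exact hc
  have he : γ.toMonoidHom = β.toMonoidHom := by
    refine MonoidHom.eq_of_eqOn_top ?_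
    rw [← gen_three hstar hF hq]
    intro z hz
    have hle : (bA (q := q) hstar).range ⊔ (bB hstar).range ≤ γ.toMonoidHom.eqLocus β.toMonoidHom := by
      refine sup_le ?_ ?_ <;> rintro _ ⟨x, rfl⟩ <;> refine eq_of_mat ?_ <;> ext i j <;>
        show (γ _).1.1 i j = (β _).1.1 i j <;> rw [hβ]
      · rw [hA, bA_val]
        fin_cases i <;> fin_cases j <;> simp [hc]
      · rw [hαf, bB_val, bB_val, hform]
        fin_cases i <;> fin_cases j <;> simp [hid]
        all_goals
          first
          | ring1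
          | linear_combination (-(x.1.1 1 1)) * hc'
          | linear_combination (x.1.1 1 1) * hc'
    exact hle hz
  intro g i j
  rw [show γ g = β g from DFunLike.congr_fun he g, hβ]
  rfl

/-- An automorphism preserving both blocks is a diagonal field automorphism. -/
theorem exists_form_three (β : MulAut (Cfsg.SU 3 F q)) (hA : ∀ x, ∃ y, β (bA hstar x) = bA hstar y)
    (hB : ∀ x, ∃ y, β (bB hstar x) = bB hstar y) :
    ∃ (d : Fin 3 → F) (φ : F →+* F), (∀ i, star (d i) * d i = 1) ∧ (∀ a, φ (star a) = star (φ a)) ∧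
      ∀ g i j, (β g).1.1 i j = d i * φ (g.1.1 i j) * star (d j) := by
  classical
  choose f hf using hA
  choose f' hf' using hB
  haveI : Finite (Cfsg.SU 2 F q) := Subtype.finite
  haveI : Finite (Cfsg.SU 3 F q) := Subtype.finite
  let fh : Cfsg.SU 2 F q →* Cfsg.SU 2 F q :=
    { toFun := f
      map_one' := blk_injective hstar _ ((hf 1).symm.trans (by rw [map_one, map_one]; exact (map_one _).symm))
      map_mul' := fun x y => blk_injective hstar _ ((hf _).symm.trans (by
        rw [map_mul, map_mul, hf, hf]; exact (map_mul _ _ _).symm)) }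
  have hfi : Function.Injective fh := fun x y h =>
    blk_injective hstar _ (β.injective ((hf x).trans ((congrArg _ h).trans (hf y).symm)))
  let α : MulAut (Cfsg.SU 2 F q) := MulEquiv.ofBijective fh ⟨hfi, Finite.injective_iff_surjective.1 hfi⟩
  have hf's : Function.Surjective f' := Finite.injective_iff_surjective.1 fun x y h =>
    blk_injective hstar _ (β.injective ((hf' x).trans ((congrArg _ h).trans (hf' y).symm)))
  have hdia : ∀ x, IsDia x → IsDia (α x) := fun x hx => dia_of_normalizes hstar fun y => by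
    obtain ⟨y₀, rfl⟩ := hf's y
    obtain ⟨y', hy', -, -⟩ := bA_dia_conj_bB hstar hx y₀
    refine ⟨f' y', ?_⟩
    rw [← hf', ← hy', map_mul, map_mul, map_inv, hf, hf']
    rfl
  obtain ⟨c, φ, hc, hφ, hform⟩ := exists_form hstar hF hq α hdia
  obtain ⟨β₁, hβ₁⟩ := exists_autD (q := q) hstar ![c, 1, 1] (by intro i; fin_cases i <;> simp [hc]) φ hφ
  have hc' : c * star c = 1 := by rw [mul_comm]; exact hc
  let γ : MulAut (Cfsg.SU 3 F q) := β.trans β₁.symm
  have hγA : ∀ x, γ (bA hstar x) = bA hstar x := fun x => β₁.injective (by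
    rw [show β₁ (γ (bA hstar x)) = β (bA hstar x) from β₁.apply_symm_apply _, hf,
      show bA hstar (f x) = bA hstar (α x) from rfl]
    refine eq_of_mat ?_
    ext i j
    rw [hβ₁, bA_val, bA_val, hform]
    fin_cases i <;> fin_cases j <;> simp [hc']
    all_goals
      first
      | ring1
      | linear_combination φ (x.1.1 0 0) * hc'
      | linear_combination -(φ (x.1.1 0 0)) * hc')
  have hγB : ∀ x, ∃ y, γ (bB hstar x) = bB hstar y := by
    have hle : (bB (q := q) hstar).range.map β₁.toMonoidHom ≤ (bB hstar).range := by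
      rintro _ ⟨_, ⟨y, rfl⟩, rfl⟩
      refine ⟨mkSU hstar (y.1.1.map φ) ?_ ?_, eq_of_mat ?_⟩
      · rw [show (y.1.1.map φ)ᴴ = (y.1.1ᴴ).map φ from Matrix.ext fun r s => (hφ _).symm, ← Matrix.map_mul,
          conjTranspose_mul_self hstar y, Matrix.map_one φ (map_zero φ) (map_one φ)]
      · rw [show y.1.1.map φ = φ.mapMatrix y.1.1 from rfl, ← RingHom.map_det, y.1.2, map_one]
      ext i j
      show _ = (β₁ (bB hstar y)).1.1 i j
      rw [hβ₁, bB_val, bB_val]
      fin_cases i <;> fin_cases j <;> simp [mkSU, hc']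
    have he := Subgroup.eq_of_le_of_card_ge hle (le_of_eq (Subgroup.card_map_of_injective β₁.injective).symm)
    intro x
    obtain ⟨_, ⟨y, rfl⟩, hy⟩ : β (bB hstar x) ∈ (bB (q := q) hstar).range.map β₁.toMonoidHom := by
      rw [he, hf']; exact ⟨_, rfl⟩
    exact ⟨y, β₁.injective ((β₁.apply_symm_apply _).trans hy.symm)⟩
  obtain ⟨e, he, hγ⟩ := rigid hstar hF hq γ hγA hγB
  refine ⟨fun i => ![c, 1, 1] i * φ (![1, 1, e] i), φ, fun i => ?_, hφ, fun g i j => ?_⟩
  · have : star (φ e) * φ e = 1 := by rw [← hφ, ← map_mul, he, map_one]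
    fin_cases i <;> simp [hc, this]
  · rw [show β g = β₁ (γ g) from (β₁.apply_symm_apply _).symm, hβ₁, hγ, map_mul, map_mul, star_mul',
      show φ (star (![1, 1, e] j)) = star (φ (![1, 1, e] j)) from hφ _]
    ring

end Cfsg.Agent.Small.Phan
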