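import Cfsg.Agent.Lib.Small.Phan.Three
import Cfsg.Agent.Lib.Small.UCover.Three

/-!
Lifting three-dimensional groups into covers of images of the four-dimensional group.
-/

set_option autoImplicit false
set_option linter.unusedSectionVars false
set_option linter.style.haveILetI false

namespace Cfsg.Agent.Small.Phan

open Matrix Cfsg.Agent.Small.Unitary Cfsg.Agent.Small.UCover Cfsg.Agent.Small.SchurLifts

universe u v

variable {F : Type u} [Field F] [Fintype F] [StarRing F] {hstar : ∀ x : F, star x = x ^ 3}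
  (hF : Fintype.card F = 3 ^ 2) {G : Type v} [Group G]

include hstar hF

/-- A nontrivial image of the four-dimensional group is a central quotient. -/
theorem ker_le_center (g : Cfsg.SU 4 F 3 →* G) (hg : g ≠ 1) : g.ker ≤ Subgroup.center _ := by
  haveI := psu_simple hstar hF (n := 4) (by norm_num) (by norm_num)
  rcases (inferInstance : (g.ker.map (QuotientGroup.mk' (Subgroup.center (Cfsg.SU 4 F 3)))).Normal).eq_bot_or_eq_top
    with h | h
  · rwa [Subgroup.map_eq_bot_iff, QuotientGroup.ker_mk'] at h
  · exfalso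
    have htop : g.ker ⊔ Subgroup.center (Cfsg.SU 4 F 3) = ⊤ := by
      have := congrArg (Subgroup.comap (QuotientGroup.mk' (Subgroup.center (Cfsg.SU 4 F 3)))) h
      rwa [Subgroup.comap_map_eq, QuotientGroup.ker_mk', Subgroup.comap_top] at this
    apply hg
    have hperf := Unitary.commutator_eq_top hstar hF (n := 4) (by norm_num) (by norm_num)
    refine MonoidHom.ext fun x => ?_
    have hx : x ∈ g.ker := by
      have hle : commutator (Cfsg.SU 4 F 3) ≤ g.ker := by
        rw [commutator_def, Subgroup.commutator_le]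
        intro a _ b _
        have ha : a ∈ g.ker ⊔ Subgroup.center (Cfsg.SU 4 F 3) := by rw [htop]; exact Subgroup.mem_top a
        obtain ⟨y, hy, z, hz, rfl⟩ := Subgroup.mem_sup_of_normal_right.1 ha
        rw [MonoidHom.mem_ker, map_commutatorElement, map_mul, MonoidHom.mem_ker.1 hy, one_mul,
          ← map_commutatorElement, commutatorElement_eq_one_iff_commute.2 (Subgroup.mem_center_iff.1 hz b).symm,
          map_one]
      exact hle (by rw [hperf]; exact Subgroup.mem_top x)
    exact hx

/-- A copy of the three-dimensional group in an image of the four-dimensional one lifts. -/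
theorem exists_lift (g : Cfsg.SU 4 F 3 →* G) (φ : Cfsg.SU 3 F 3 →* G) (hφ : Function.Injective φ)
    (hle : φ.range ≤ g.range) :
    ∃ θ : Cfsg.SU 3 F 3 →* Cfsg.SU 4 F 3, Function.Injective θ ∧ ∀ x, g (θ x) = φ x := by
  classical
  have hperf := Unitary.commutator_eq_top hstar hF (n := 3) (by norm_num) (by norm_num)
  have hg : g ≠ 1 := fun h => by
    have h1 : ∀ x, φ x = 1 := fun x => by
      obtain ⟨y, hy⟩ := hle ⟨x, rfl⟩
      rw [← hy, h]; rfl
    have h2 : ∀ x : Cfsg.SU 3 F 3, x = 1 := fun x => hφ ((h1 x).trans (map_one φ).symm)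
    have := congrArg (fun x : Cfsg.SU 3 F 3 => x.1.1 0 1) (h2 (bA hstar (w2 hstar)))
    have e : act (bA hstar (w2 hstar)) (Pi.single 1 (1 : F)) = Pi.single 0 1 := act_bA_one hstar
    have e' := congrFun e 0
    rw [h2 (bA hstar (w2 hstar)), act_one] at e'
    simp at e'
  have hker := ker_le_center (hstar := hstar) hF g hg
  let P : Subgroup (Cfsg.SU 4 F 3) := φ.range.comap g
  let r : ↥P →* Cfsg.SU 3 F 3 :=
    (MonoidHom.ofInjective hφ).symm.toMonoidHom.comp ((g.comp P.subtype).codRestrict φ.range fun x => x.2)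
  have hr : ∀ x : ↥P, φ (r x) = g x.1 := fun x => MonoidHom.apply_ofInjective_symm hφ _
  have hrs : Function.Surjective r := fun y => by
    obtain ⟨x, hx⟩ := hle ⟨y, rfl⟩
    exact ⟨⟨x, ⟨y, hx.symm⟩⟩, hφ ((hr _).trans hx)⟩
  have hrc : r.ker ≤ Subgroup.center ↥P := fun x hx => by
    rw [Subgroup.mem_center_iff]
    intro y
    have hx' : x.1 ∈ g.ker := by rw [MonoidHom.mem_ker, ← hr, MonoidHom.mem_ker.1 hx, map_one]
    exact Subtype.ext (Subgroup.mem_center_iff.1 (hker hx') y.1)
  let C : Central ↥P (Cfsg.SU 3 F 3) := ⟨r, hrs, hrc⟩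
  set H : Subgroup ↥P := commutator ↥P with hH
  have hlift : ∀ y, ∃ a ∈ H, C.π a = y := fun y => by
    have : y ∈ H.map r := by
      rw [hH, commutator_def, Subgroup.map_commutator, ← MonoidHom.range_eq_map, MonoidHom.range_eq_top.2 hrs,
        ← commutator_def, hperf]
      exact Subgroup.mem_top y
    obtain ⟨a, ha, e⟩ := this
    exact ⟨a, ha, e⟩
  have hHperf : commutator ↥H = ⊤ := by
    rw [eq_top_iff, ← Subgroup.map_le_map_iff_of_injective H.subtype_injective, commutator_def,
      Subgroup.map_commutator, ← MonoidHom.range_eq_map, Subgroup.range_subtype]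
    conv_lhs => rw [hH, commutator_def]
    refine Subgroup.commutator_le.mpr fun x _ y _ => ?_
    obtain ⟨a, ha, ea⟩ := hlift (C.π x)
    obtain ⟨b, hb, eb⟩ := hlift (C.π y)
    rw [C.comm_indep ea.symm eb.symm]
    exact Subgroup.commutator_mem_commutator ha hb
  let C' : Central ↥H (Cfsg.SU 3 F 3) :=
    { π := r.comp H.subtype
      surj := fun y => by
        obtain ⟨a, ha, e⟩ := hlift y
        exact ⟨⟨a, ha⟩, e⟩
      central := fun x hx => by
        rw [Subgroup.mem_center_iff]
        intro y
        exact Subtype.ext (Subgroup.mem_center_iff.1 (hrc hx) y.1) }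
  haveI : Finite (Cfsg.SU 4 F 3) := Subtype.finite
  have hbot := three_triv (hstar := hstar) hF C' hHperf
  let e := MulEquiv.ofBijective C'.π ⟨(MonoidHom.ker_eq_bot_iff _).1 hbot, C'.surj⟩
  refine ⟨(P.subtype.comp H.subtype).comp e.symm.toMonoidHom,
    (Subtype.val_injective.comp Subtype.val_injective).comp e.symm.injective, fun x => ?_⟩
  show g (e.symm x).1.1 = φ x
  rw [← hr]
  exact congrArg φ (e.apply_symm_apply x)

end Cfsg.Agent.Small.Phan
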