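import Cfsg.Agent.Lib.Small.Phan.Embed
import Cfsg.Agent.Lib.Small.Phan.Lift

/-!
The four-dimensional level over nine elements.
-/

set_option autoImplicit false
set_option linter.unusedSectionVars false
set_option linter.style.haveILetI false

namespace Cfsg.Agent.Small.Phan

open Matrix Cfsg.Agent.Small.Unitary Cfsg.Agent.Small.UCover Cfsg.Agent.Small.SUPres

universe u v

variable {F : Type u} [Field F] [Fintype F] [StarRing F]

section Gen

variable {q : ℕ} (hstar : ∀ x : F, star x = x ^ q)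

theorem act_single_apply {n : ℕ} (g : Cfsg.SU n F q) (i k : Fin n) :
    act g (Pi.single k (1 : F)) i = g.1.1 i k := by
  simp [act, Matrix.mulVec_single]

theorem blkA4_val (x : Cfsg.SU 3 F q) : (blk hstar (seg 3 0 (by norm_num : 0 + 3 ≤ 4)) x).1.1 =
    !![x.1.1 0 0, x.1.1 0 1, x.1.1 0 2, 0; x.1.1 1 0, x.1.1 1 1, x.1.1 1 2, 0;
      x.1.1 2 0, x.1.1 2 1, x.1.1 2 2, 0; 0, 0, 0, 1] := by
  have h3 : ∀ a : Fin 3, seg 3 0 (by norm_num : 0 + 3 ≤ 4) a ≠ (3 : Fin 4) := fun a h => by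
    have := congrArg Fin.val h; rw [seg_val] at this; have := a.isLt; simp at *; omega
  ext i j
  fin_cases i <;> fin_cases j
  · exact blk_in hstar _ x 0 0
  · exact blk_in hstar _ x 0 1
  · exact blk_in hstar _ x 0 2
  · exact (blk_out_col hstar _ x h3 0).trans (by simp)
  · exact blk_in hstar _ x 1 0
  · exact blk_in hstar _ x 1 1
  · exact blk_in hstar _ x 1 2
  · exact (blk_out_col hstar _ x h3 1).trans (by simp)
  · exact blk_in hstar _ x 2 0
  · exact blk_in hstar _ x 2 1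
  · exact blk_in hstar _ x 2 2
  · exact (blk_out_col hstar _ x h3 2).trans (by simp)
  · exact blk_out_row hstar _ x h3 0
  · exact blk_out_row hstar _ x h3 1
  · exact blk_out_row hstar _ x h3 2
  · exact (blk_out_col hstar _ x h3 3).trans (by simp)

theorem blkB4_val (x : Cfsg.SU 3 F q) : (blk hstar (seg 3 1 (by norm_num : 1 + 3 ≤ 4)) x).1.1 =
    !![1, 0, 0, 0; 0, x.1.1 0 0, x.1.1 0 1, x.1.1 0 2; 0, x.1.1 1 0, x.1.1 1 1, x.1.1 1 2;
      0, x.1.1 2 0, x.1.1 2 1, x.1.1 2 2] := by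
  have h0 : ∀ a : Fin 3, seg 3 1 (by norm_num : 1 + 3 ≤ 4) a ≠ (0 : Fin 4) := fun a h => by
    have := congrArg Fin.val h; rw [seg_val] at this; simp at *
  ext i j
  fin_cases i <;> fin_cases j
  · exact (blk_out_col hstar _ x h0 0).trans (by simp)
  · exact blk_out_row hstar _ x h0 0
  · exact blk_out_row hstar _ x h0 1
  · exact blk_out_row hstar _ x h0 2
  · exact (blk_out_col hstar _ x h0 1).trans (by simp)
  · exact blk_in hstar _ x 0 0
  · exact blk_in hstar _ x 0 1
  · exact blk_in hstar _ x 0 2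
  · exact (blk_out_col hstar _ x h0 2).trans (by simp)
  · exact blk_in hstar _ x 1 0
  · exact blk_in hstar _ x 1 1
  · exact blk_in hstar _ x 1 2
  · exact (blk_out_col hstar _ x h0 3).trans (by simp)
  · exact blk_in hstar _ x 2 0
  · exact blk_in hstar _ x 2 1
  · exact blk_in hstar _ x 2 2

theorem fixS_four_last : fixS q ({Pi.single 3 1} : Set (Fin 4 → F)) =
    (blk hstar (seg 3 0 (by norm_num : 0 + 3 ≤ 4))).range := by
  rw [seg_zero, blk_castLE, range_inclHom (q := q) hstar]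
  ext g
  rw [mem_fixS, mem_Sk]
  simp only [Set.mem_singleton_iff, forall_eq]
  constructor
  · intro h i hi
    rw [show i = 3 from Fin.ext (by have := i.isLt; omega)]
    exact h
  · intro h
    exact h 3 le_rfl

variable (hF : Fintype.card F = q ^ 2)
include hF

theorem fixS_four_first : fixS q ({Pi.single 0 1} : Set (Fin 4 → F)) =
    (blk hstar (seg 3 1 (by norm_num : 1 + 3 ≤ 4))).range := by
  haveI : Finite (Cfsg.SU 4 F q) := Subtype.finite
  refine (Subgroup.eq_of_le_of_card_ge ?_ (le_of_eq ?_)).symm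
  · rintro _ ⟨x, rfl⟩ b hb
    rw [Set.mem_singleton_iff.1 hb]
    funext i
    rw [act_single_apply, blkB4_val]
    fin_cases i <;> simp
  · obtain ⟨g, hg⟩ := exists_move hstar hF
      (on_one (a := (Pi.single 3 1 : Fin 4 → F)) (by simp [herm_single_left]))
      (on_one (a := (Pi.single 0 1 : Fin 4 → F)) (by simp [herm_single_left])) (by norm_num : 1 < 4)
    have hg0 : act g (Pi.single 3 (1 : F)) = Pi.single 0 1 := hg 0
    rw [← hg0, ← Set.image_singleton, fixS_image, fixS_four_last hstar,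
      Subgroup.card_map_of_injective (MulAut.conj g).injective,
      ← Nat.card_congr (MonoidHom.ofInjective (blk_injective (q := q) hstar (seg 3 0 (by norm_num : 0 + 3 ≤ 4)))).toEquiv,
      ← Nat.card_congr (MonoidHom.ofInjective (blk_injective (q := q) hstar (seg 3 1 (by norm_num : 1 + 3 ≤ 4)))).toEquiv]

set_option maxHeartbeats 1000000 in
/-- The three blocks generate the four-dimensional group. -/
theorem gen_four (hq : 3 ≤ q) (h2 : (2 : F) ≠ 0) (M : Subgroup (Cfsg.SU 4 F q))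
    (hM : ∀ i (h : i + 2 ≤ 4) x, blk hstar (seg 2 i h) x ∈ M) : M = ⊤ := by
  classical
  have hA : ∀ y, blk hstar (seg 3 0 (by norm_num : 0 + 3 ≤ 4)) y ∈ M := fun y => by
    have hle : (bA (q := q) hstar).range ⊔ (bB hstar).range ≤
        M.comap (blk hstar (seg 3 0 (by norm_num : 0 + 3 ≤ 4))) := by
      refine sup_le ?_ ?_ <;> rintro _ ⟨x, rfl⟩ <;> rw [Subgroup.mem_comap]
      · rw [bA, blk_seg_seg hstar _ _ (add_zero 0) (by norm_num)]; exact hM 0 _ x
      · rw [bB, blk_seg_seg hstar _ _ (zero_add 1) (by norm_num)]; exact hM 1 _ x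
    exact hle (by rw [gen_three hstar hF hq]; exact Subgroup.mem_top y)
  have hB : ∀ y, blk hstar (seg 3 1 (by norm_num : 1 + 3 ≤ 4)) y ∈ M := fun y => by
    have hle : (bA (q := q) hstar).range ⊔ (bB hstar).range ≤
        M.comap (blk hstar (seg 3 1 (by norm_num : 1 + 3 ≤ 4))) := by
      refine sup_le ?_ ?_ <;> rintro _ ⟨x, rfl⟩ <;> rw [Subgroup.mem_comap]
      · rw [bA, blk_seg_seg hstar _ _ (add_zero 1) (by norm_num)]; exact hM 1 _ x
      · rw [bB, blk_seg_seg hstar _ _ (rfl : 1 + 1 = 2) (by norm_num)]; exact hM 2 _ x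
    exact hle (by rw [gen_three hstar hF hq]; exact Subgroup.mem_top y)
  have actA : ∀ (y : Cfsg.SU 3 F q) (v : Fin 4 → F),
      act (blk hstar (seg 3 0 (by norm_num : 0 + 3 ≤ 4)) y) v =
        ![act y ![v 0, v 1, v 2] 0, act y ![v 0, v 1, v 2] 1, act y ![v 0, v 1, v 2] 2, v 3] := fun y v => by
    funext i
    fin_cases i <;> simp [act, blkA4_val, Matrix.mulVec, dotProduct, Fin.sum_univ_three, Fin.sum_univ_four]
  have actB : ∀ (y : Cfsg.SU 3 F q) (v : Fin 4 → F),
      act (blk hstar (seg 3 1 (by norm_num : 1 + 3 ≤ 4)) y) v =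
        ![v 0, act y ![v 1, v 2, v 3] 0, act y ![v 1, v 2, v 3] 1, act y ![v 1, v 2, v 3] 2] := fun y v => by
    funext i
    fin_cases i <;> simp [act, blkB4_val, Matrix.mulVec, dotProduct, Fin.sum_univ_three, Fin.sum_univ_four]
  have e22 : herm (Pi.single 2 (1 : F) : Fin 3 → F) (Pi.single 2 1) = 1 := by simp [herm_single_left]
  let Good : (Fin 4 → F) → Prop := fun v => ∃ g ∈ M, act g v = Pi.single 3 1
  have step : ∀ g ∈ M, ∀ v, Good (act g v) → Good v := fun g hg v ⟨h, hh, e⟩ =>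
    ⟨h * g, mul_mem hh hg, by rw [act_mul]; exact e⟩
  have hv4 : ∀ v : Fin 4 → F, herm v v = star (v 0) * v 0 + herm ![v 1, v 2, v 3] ![v 1, v 2, v 3] := fun v => by
    simp [herm, dotProduct, Fin.sum_univ_four, Fin.sum_univ_three, add_assoc]
  have case1 : ∀ v, herm v v = 1 → star (v 0) * v 0 ≠ 1 → Good v := by
    intro v hv h0
    have hw : herm ![v 1, v 2, v 3] ![v 1, v 2, v 3] = 1 - star (v 0) * v 0 := by
      linear_combination (hv4 v).symm.trans hv
    have hne : herm ![v 1, v 2, v 3] ![v 1, v 2, v 3] ≠ 0 := by rw [hw]; exact sub_ne_zero.2 (Ne.symm h0)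
    obtain ⟨s, hs0, hs⟩ := exists_unit_smul hstar hF hne
    obtain ⟨y, hy⟩ := exists_move hstar hF (on_one hs) (on_one e22) (by norm_num : 1 < 3)
    have hy' : act y ![v 1, v 2, v 3] = s⁻¹ • Pi.single 2 1 := by
      have := hy 0
      simp only [Matrix.cons_val_fin_one, act_smul] at this
      rw [← this, smul_smul, inv_mul_cancel₀ hs0, one_smul]
    refine step _ (hB y) v ?_
    rw [actB, hy']
    obtain ⟨y', hy2⟩ := exists_move hstar hF
      (on_one (a := (Pi.single 0 1 : Fin 3 → F)) (by simp [herm_single_left])) (on_one e22) (by norm_num : 1 < 3)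
    have hy2' : act y' (Pi.single 0 (1 : F)) = Pi.single 2 1 := hy2 0
    refine step _ (hA y') _ ?_
    rw [actA]
    have e0 : (![v 0, (s⁻¹ • Pi.single 2 (1 : F) : Fin 3 → F) 0, (s⁻¹ • Pi.single 2 (1 : F) : Fin 3 → F) 1] :
        Fin 3 → F) = v 0 • Pi.single 0 1 := by funext i; fin_cases i <;> simp
    simp only [Matrix.cons_val_zero, Matrix.cons_val_one, Matrix.cons_val]
    rw [e0, act_smul, hy2']
    have hu : herm ![0, v 0, s⁻¹] ![0, v 0, s⁻¹] = (1 : F) := by
      have hs' : herm ![v 1, v 2, v 3] ![v 1, v 2, v 3] = star s⁻¹ * s⁻¹ := by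
        rw [← herm_act hstar y, hy', herm_smul_left, herm_smul_right, e22, mul_one]
      rw [hw] at hs'
      simp [herm, dotProduct, Fin.sum_univ_three] at hs' ⊢
      linear_combination -hs'
    obtain ⟨y'', hy3⟩ := exists_move hstar hF (on_one hu) (on_one e22) (by norm_num : 1 < 3)
    have hy3' : act y'' ![0, v 0, s⁻¹] = Pi.single 2 1 := hy3 0
    refine ⟨_, hB y'', ?_⟩
    rw [actB]
    simp [hy3']
    funext i
    fin_cases i <;> simp
  have all : ∀ v, herm v v = 1 → Good v := by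
    intro v hv
    by_cases h0 : star (v 0) * v 0 = 1
    swap; · exact case1 v hv h0
    have hblk : ∀ (x : Cfsg.SU 2 F q), act (blk hstar (seg 2 0 (by norm_num : 0 + 2 ≤ 4)) x) v 0 =
        act x ![v 0, v 1] 0 := fun x => by
      rw [← blk_seg_seg hstar (by norm_num : 0 + 3 ≤ 4) (by norm_num : 0 + 2 ≤ 3) (add_zero 0) (by norm_num) x,
        actA]
      have := act_bA_vec hstar x (v 0) (v 1) (v 2)
      rw [bA] at this
      simp [this]
    by_cases h01 : star (v 0) * v 0 + star (v 1) * v 1 = 0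
    · refine step _ (hM 0 (by norm_num) (w2 hstar)) v (case1 _ (by rw [herm_act hstar]; exact hv) ?_)
      rw [hblk]
      simp [act, Matrix.mulVec, dotProduct, Fin.sum_univ_two, w2, mkSU]
      intro h
      exact h2 (by linear_combination h01 - h0 - h)
    · obtain ⟨s, hs⟩ := exists_neg_norm hstar hF (r := star (v 0) * v 0 + star (v 1) * v 1)
        (by rw [star_add, star_mul', star_mul', star_star, star_star]; ring)
      obtain ⟨x, hx⟩ := exists_move_two hstar hF (u := ![v 0, v 1]) (u' := ![0, s])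
        (by rw [herm_two]; simpa using h01) (by rw [herm_two, herm_two]; simpa using hs.symm)
      refine step _ (hM 0 (by norm_num) x) v (case1 _ (by rw [herm_act hstar]; exact hv) ?_)
      rw [hblk, hx]
      simp
  rw [eq_top_iff]
  intro x _
  obtain ⟨g, hg, hgx⟩ := all (act x (Pi.single 3 1)) (by
    rw [herm_act hstar, herm_single_left, Pi.single_eq_same]; simp)
  have : g * x ∈ fixS q ({Pi.single 3 1} : Set (Fin 4 → F)) := fun b hb => by
    rw [Set.mem_singleton_iff.1 hb, act_mul, hgx]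
  rw [fixS_four_last hstar] at this
  obtain ⟨y, hy⟩ := this
  have hmem : g * x ∈ M := hy ▸ hA y
  simpa using mul_mem (inv_mem hg) hmem

end Gen

/-! ### The base level -/

variable {hstar : ∀ x : F, star x = x ^ 3} (hF : Fintype.card F = 3 ^ 2) {G : Type v} [Group G] {n : ℕ}

include hF in
theorem center_four_pow (z : Subgroup.center (Cfsg.SU 4 F 3)) : z ^ 4 = 1 := by
  obtain ⟨p, e, s, hp, hchar, hqp, he, hs⟩ := Classical.exists_usigma hF
  haveI : Finite (Cfsg.SU 4 F 3) := Subtype.finite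
  have h := pow_card_eq_one' (x := z)
  rwa [Classical.UCount.card_center_SU hs (by norm_num), show Nat.gcd 4 (3 + 1) = 4 from rfl] at h

set_option maxHeartbeats 2000000 in
include hF in
/-- A window inside an image of the four-dimensional group is standard. -/
theorem good_four (C : Chain G hstar n) (hn : 4 ≤ n) (g0 : Cfsg.SU 4 F 3 →* G)
    (hk0 : (C.ψ 0).ker ≤ Subgroup.center _) (hk1 : (C.ψ 1).ker ≤ Subgroup.center _)
    (hr0 : (C.ψ 0).range ≤ g0.range) (hr1 : (C.ψ 1).range ≤ g0.range) : C.Good 4 := by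
  classical
  have h2 := two_ne_zero' hstar hF
  rw [center_three hstar hF, le_bot_iff, MonoidHom.ker_eq_bot_iff] at hk0 hk1
  obtain ⟨θ0, hθ0, e0⟩ := exists_lift (hstar := hstar) hF g0 (C.ψ 0) hk0 hr0
  obtain ⟨θ1, hθ1, e1⟩ := exists_lift (hstar := hstar) hF g0 (C.ψ 1) hk1 hr1
  have hker : g0.ker ≤ Subgroup.center _ := ker_le_center (hstar := hstar) hF g0 fun h => by
    have h1 : C.ψ 0 (bA hstar (w2 hstar)) = C.ψ 0 1 := by rw [← e0, h, map_one]; rfl
    have h1' := congrArg (fun y => act y (Pi.single 1 (1 : F)) 0) (hk0 h1)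
    simp only [act_bA_one, act_one] at h1'
    simp at h1'
  letI : CommGroup ↥(Subgroup.center (Cfsg.SU 4 F 3)) :=
    { (inferInstance : Group ↥(Subgroup.center (Cfsg.SU 4 F 3))) with
      mul_comm := fun a b => Subtype.ext ((Subgroup.mem_center_iff.1 b.2 a.1)) }
  -- the middle agrees
  have middle : ∀ y, θ1 (bA hstar y) = θ0 (bB hstar y) := by
    have hz : ∀ y, θ1 (bA hstar y) * (θ0 (bB hstar y))⁻¹ ∈ Subgroup.center (Cfsg.SU 4 F 3) := fun y => hker (by
      rw [MonoidHom.mem_ker, map_mul, map_inv, e0, e1, C.compat 0 (by omega), mul_inv_cancel])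
    let f : Cfsg.SU 2 F 3 →* Subgroup.center (Cfsg.SU 4 F 3) :=
      { toFun := fun y => ⟨_, hz y⟩
        map_one' := Subtype.ext (by simp)
        map_mul' := fun x y => Subtype.ext (by
          show θ1 (bA hstar (x * y)) * (θ0 (bB hstar (x * y)))⁻¹ =
            θ1 (bA hstar x) * (θ0 (bB hstar x))⁻¹ * (θ1 (bA hstar y) * (θ0 (bB hstar y))⁻¹)
          rw [map_mul, map_mul, map_mul, map_mul, _root_.mul_inv_rev, mul_assoc (θ1 (bA hstar x)),
            ← mul_assoc (θ1 (bA hstar y)), ← Subgroup.mem_center_iff.1 (hz y) (θ0 (bB hstar x))⁻¹, ← mul_assoc]) }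
    intro y
    have := congrArg Subtype.val (DFunLike.congr_fun (char_trivial (A := ↥(Subgroup.center (Cfsg.SU 4 F 3))) hstar hF f fun x => center_four_pow hF _) y)
    exact mul_inv_eq_one.1 this
  -- distant blocks commute
  have outer : ∀ x y, Commute (θ0 (bA hstar x)) (θ1 (bB hstar y)) := by
    intro x
    have hz : ∀ y, θ0 (bA hstar x) * θ1 (bB hstar y) * (θ0 (bA hstar x))⁻¹ * (θ1 (bB hstar y))⁻¹ ∈
        Subgroup.center (Cfsg.SU 4 F 3) := fun y => hker (by
      have hc : Commute (C.ψ 0 (bA hstar x)) (C.ψ 1 (bB hstar y)) := by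
        rw [C.ψ_bA (by omega), C.ψ_bB (i := 1) (by omega), C.u_apply, C.u_apply]
        exact C.comm 0 2 (by omega) (by omega) x y
      rw [MonoidHom.mem_ker, map_mul, map_mul, map_mul, map_inv, map_inv, e0, e1, hc.eq, mul_inv_cancel_right,
        mul_inv_cancel])
    let f : Cfsg.SU 2 F 3 →* Subgroup.center (Cfsg.SU 4 F 3) :=
      { toFun := fun y => ⟨_, hz y⟩
        map_one' := Subtype.ext (by simp)
        map_mul' := fun y y' => Subtype.ext (by
          have hy := Subgroup.mem_center_iff.1 (hz y') (θ1 (bB hstar y))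
          simp only [map_mul, Subgroup.coe_mul, _root_.mul_inv_rev]
          calc θ0 (bA hstar x) * (θ1 (bB hstar y) * θ1 (bB hstar y')) * (θ0 (bA hstar x))⁻¹ *
                ((θ1 (bB hstar y'))⁻¹ * (θ1 (bB hstar y))⁻¹)
              = θ0 (bA hstar x) * (θ1 (bB hstar y) * ((θ0 (bA hstar x))⁻¹ *
                (θ0 (bA hstar x) * θ1 (bB hstar y') * (θ0 (bA hstar x))⁻¹ * (θ1 (bB hstar y'))⁻¹))) *
                (θ1 (bB hstar y))⁻¹ := by group
            _ = θ0 (bA hstar x) * θ1 (bB hstar y) * (θ0 (bA hstar x))⁻¹ *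
                ((θ0 (bA hstar x) * θ1 (bB hstar y') * (θ0 (bA hstar x))⁻¹ * (θ1 (bB hstar y'))⁻¹) *
                (θ1 (bB hstar y))⁻¹) := by simp only [mul_assoc]
            _ = _ := by rw [← Subgroup.mem_center_iff.1 (hz y') (θ1 (bB hstar y))⁻¹, ← mul_assoc]) }
    intro y
    have := congrArg Subtype.val (DFunLike.congr_fun (char_trivial (A := ↥(Subgroup.center (Cfsg.SU 4 F 3))) hstar hF f fun y => center_four_pow hF _) y)
    have h' : θ0 (bA hstar x) * θ1 (bB hstar y) * (θ0 (bA hstar x))⁻¹ * (θ1 (bB hstar y))⁻¹ = 1 := this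
    exact mul_inv_eq_iff_eq_mul.1 (mul_inv_eq_one.1 h')
  haveI : Finite (Cfsg.SU 3 F 3) := Subtype.finite
  -- normal form of the first window
  obtain ⟨g, hg⟩ := exists_fix_four hstar hF θ0 hθ0
  let blA := blk (F := F) (q := 3) hstar (seg 3 0 (by norm_num : 0 + 3 ≤ 4))
  let blB := blk (F := F) (q := 3) hstar (seg 3 1 (by norm_num : 1 + 3 ≤ 4))
  have hblA : Function.Injective blA := blk_injective hstar _
  have hblB : Function.Injective blB := blk_injective hstar _
  have hmem : ∀ x, g⁻¹ * θ0 x * g ∈ blA.range := fun x => by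
    show g⁻¹ * θ0 x * g ∈ (blk hstar (seg 3 0 (by norm_num : 0 + 3 ≤ 4))).range
    rw [← fixS_four_last hstar]
    intro b hb
    rw [Set.mem_singleton_iff.1 hb]; exact hg x
  let b0 : Cfsg.SU 3 F 3 →* Cfsg.SU 3 F 3 := (MonoidHom.ofInjective hblA).symm.toMonoidHom.comp
    (((MulAut.conj g⁻¹).toMonoidHom.comp θ0).codRestrict blA.range fun x => by simpa using hmem x)
  have hb0 : ∀ x, blA (b0 x) = g⁻¹ * θ0 x * g := fun x =>
    (MonoidHom.apply_ofInjective_symm hblA _).trans (by simp)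
  have hb0i : Function.Injective b0 := fun x y h => hθ0 (by
    have := (hb0 x).symm.trans ((congrArg blA h).trans (hb0 y))
    exact mul_left_cancel (mul_right_cancel this))
  let β0 : MulAut (Cfsg.SU 3 F 3) := MulEquiv.ofBijective b0 ⟨hb0i, Finite.injective_iff_surjective.1 hb0i⟩
  obtain ⟨ζ, hζ, hζ2⟩ := exists_zeta hstar hF (le_refl 3)
  have hord : orderOf (dia (q := 3) hstar ζ hζ) = 2 ^ (1 + 1) := by
    obtain ⟨hs, hζs⟩ := zeta_sq hstar hF hζ hζ2
    have hd2 : ((dia (q := 3) hstar ζ hζ) ^ 2).1.1 = !![-1, 0; 0, -1] := by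
      rw [pow_two]
      show (dia (q := 3) hstar ζ hζ).1.1 * (dia (q := 3) hstar ζ hζ).1.1 = _
      rw [dia_val]
      ext r s; fin_cases r <;> fin_cases s <;> simp [Matrix.mul_apply, Fin.sum_univ_two, hζs]
      all_goals linear_combination hs
    refine orderOf_eq_prime_pow (fun h => ?_) (eq_of_mat ?_)
    · have := congrArg (fun x : Cfsg.SU 2 F 3 => x.1.1 0 0) h
      simp only [pow_one, hd2] at this
      simp at this
      exact h2 (by linear_combination -this)
    · rw [show (2 : ℕ) ^ (1 + 1) = 2 * 2 from rfl, pow_mul, pow_two ((dia (q := 3) hstar ζ hζ) ^ 2)]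
      show ((dia (q := 3) hstar ζ hζ) ^ 2).1.1 * ((dia (q := 3) hstar ζ hζ) ^ 2).1.1 = 1
      rw [hd2]
      ext r s; fin_cases r <;> fin_cases s <;> simp [Matrix.mul_apply, Fin.sum_univ_two]
  obtain ⟨h, hhA, hhB⟩ := exists_conj_blocks hstar hF le_rfl
    (β0.toMonoidHom.comp (bA hstar)) (β0.toMonoidHom.comp (bB hstar))
    (β0.injective.comp (blk_injective hstar _)) (β0.injective.comp (blk_injective hstar _))
    (by rw [MonoidHom.range_comp, MonoidHom.range_comp, ← Subgroup.map_sup, gen_three hstar hF le_rfl,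
      ← MonoidHom.range_eq_map, MonoidHom.range_eq_top.2 β0.surjective])
    (d := β0 (bA hstar (dia hstar ζ hζ))) (e := β0 (bB hstar (dia hstar ζ hζ))) ⟨_, rfl⟩ ⟨_, rfl⟩
    ((orderOf_injective (β0.toMonoidHom.comp (bA hstar)) (β0.injective.comp (blk_injective hstar _)) _).trans hord)
    ((orderOf_injective (β0.toMonoidHom.comp (bB hstar)) (β0.injective.comp (blk_injective hstar _)) _).trans hord)
    (((show Commute (bA hstar (dia hstar ζ hζ)) (bB hstar (dia hstar ζ hζ)) from
      mul_inv_eq_iff_eq_mul.1 (bA_dia_fix hstar hζ (isDia_dia hstar ζ hζ))).map β0.toMonoidHom))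
  let β0' : MulAut (Cfsg.SU 3 F 3) := β0.trans (MulAut.conj h).symm
  have hsA : ∀ x, ∃ y, β0' (bA hstar x) = bA hstar y := fun x => by
    obtain ⟨_, ⟨y, rfl⟩, hy⟩ : β0 (bA hstar x) ∈ (bA hstar).range.map (MulAut.conj h).toMonoidHom :=
      hhA ▸ ⟨x, rfl⟩
    exact ⟨y, (MulAut.conj h).injective (((MulAut.conj h).apply_symm_apply _).trans hy.symm)⟩
  have hsB : ∀ x, ∃ y, β0' (bB hstar x) = bB hstar y := fun x => by
    obtain ⟨_, ⟨y, rfl⟩, hy⟩ : β0 (bB hstar x) ∈ (bB hstar).range.map (MulAut.conj h).toMonoidHom :=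
      hhB ▸ ⟨x, rfl⟩
    exact ⟨y, (MulAut.conj h).injective (((MulAut.conj h).apply_symm_apply _).trans hy.symm)⟩
  obtain ⟨d, φ, hd, hφ, hform⟩ := exists_form_three hstar hF le_rfl β0' hsA hsB
  obtain ⟨D4, hD4⟩ := exists_autD (q := 3) hstar ![d 0, d 1, d 2, 1]
    (by intro i; fin_cases i <;> simp [hd]) φ hφ
  have hD4A : ∀ x, D4 (blA x) = blA (β0' x) := fun x => eq_of_mat (by
    ext i j
    rw [hD4]
    show _ * φ ((blk hstar _ x).1.1 i j) * _ = (blk hstar _ (β0' x)).1.1 i j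
    rw [blkA4_val, blkA4_val]
    fin_cases i <;> fin_cases j <;> simp [hform])
  let Θ0 : MulAut (Cfsg.SU 4 F 3) := D4.trans (MulAut.conj (g * blA h))
  have hΘ0 : ∀ x, Θ0 (blA x) = θ0 x := fun x => by
    show MulAut.conj (g * blA h) (D4 (blA x)) = _
    rw [hD4A, MulAut.conj_apply]
    have e : h * β0' x * h⁻¹ = β0 x := (MulAut.conj h).apply_symm_apply _
    calc g * blA h * blA (β0' x) * (g * blA h)⁻¹ = g * blA (h * β0' x * h⁻¹) * g⁻¹ := by
          rw [map_mul, map_mul, map_inv]; group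
      _ = θ0 x := by
          rw [e, show blA (β0 x) = g⁻¹ * θ0 x * g from hb0 x]; group
  -- normal form of the second window
  let θ1' : Cfsg.SU 3 F 3 →* Cfsg.SU 4 F 3 := Θ0.symm.toMonoidHom.comp θ1
  have hθ1' : Function.Injective θ1' := Θ0.symm.injective.comp hθ1
  have hmid : ∀ y, θ1' (bA hstar y) = blA (bB hstar y) := fun y => Θ0.injective (by
    show Θ0 (Θ0.symm (θ1 (bA hstar y))) = _
    rw [Θ0.apply_symm_apply, hΘ0, middle])
  have hout : ∀ x y, blA (bA hstar x) * θ1' (bB hstar y) = θ1' (bB hstar y) * blA (bA hstar x) := fun x y =>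
    Θ0.injective (by
      show Θ0 (_ * Θ0.symm (θ1 (bB hstar y))) = Θ0 (Θ0.symm (θ1 (bB hstar y)) * _)
      rw [map_mul, map_mul, Θ0.apply_symm_apply, hΘ0]
      exact (outer x y).eq)
  obtain ⟨g1, hg1⟩ := exists_fix_four hstar hF θ1' hθ1'
  obtain ⟨b, hb⟩ : ∃ b, b = act g1 (Pi.single 3 (1 : F)) := ⟨_, rfl⟩
  have hbfix : ∀ x, act (θ1' x) b = b := fun x => by
    have := congrArg (act g1) (hg1 x)
    rwa [← act_mul, show g1 * (g1⁻¹ * θ1' x * g1) = θ1' x * g1 by group, act_mul, ← hb] at this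
  have hb12 : b 1 = 0 ∧ b 2 = 0 := by
    have hw := hbfix (bA hstar (w2 hstar))
    have hz := hbfix (bA hstar (w2 hstar * w2 hstar))
    rw [hmid] at hw hz
    have a := congrFun hw 1
    have c := congrFun hz 1
    have c' := congrFun hz 2
    simp [act, blA, blkA4_val, bB_val, Matrix.mulVec, dotProduct, Fin.sum_univ_four, w2, mkSU,
      Matrix.mul_apply, Fin.sum_univ_two] at a c c'
    exact ⟨(mul_eq_zero.1 (by linear_combination -c : (2 : F) * b 1 = 0)).resolve_left h2,
      (mul_eq_zero.1 (by linear_combination -c' : (2 : F) * b 2 = 0)).resolve_left h2⟩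
  obtain ⟨hs, hζs⟩ := zeta_sq hstar hF hζ hζ2
  have hζ0 : ζ ≠ 0 := fun h => by rw [h, mul_zero] at hζ; exact zero_ne_one hζ
  have hζne : ∀ c : F, (c = 1 ∨ c = -1) → ζ ≠ c ∧ -ζ ≠ c := by
    intro c hc
    constructor <;> intro h <;> apply hζ2 <;> rcases hc with rfl | rfl <;>
      first | linear_combination (ζ + 1) * h | linear_combination (ζ - 1) * h |
        linear_combination (-ζ - 1) * h | linear_combination (-ζ + 1) * h
  have hAd : (blA (bA hstar (dia hstar ζ hζ))).1.1 = Matrix.diagonal ![ζ, -ζ, 1, 1] := by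
    show (blk hstar _ _).1.1 = _
    rw [blkA4_val, bA_val, dia_val]
    ext i j
    fin_cases i <;> fin_cases j <;> simp [hζs]
  have hY : ∀ z, ∀ i j : Fin 4, ![ζ, -ζ, 1, 1] i ≠ ![ζ, -ζ, 1, 1] j → (θ1' (bB hstar z)).1.1 i j = 0 := by
    intro z i j hij
    refine comm_diag hstar hF ?_ hij
    rw [← hAd]
    exact (congrArg (fun y : Cfsg.SU 4 F 3 => y.1.1) (hout (dia hstar ζ hζ) z)).symm
  have n2 := hζne 1 (Or.inl rfl)
  have nn : ζ ≠ -ζ := fun h => hζ0 ((mul_eq_zero.1 (by linear_combination h : (2 : F) * ζ = 0)).resolve_left h2)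
  have zeros : ∀ z, (θ1' (bB hstar z)).1.1 0 1 = 0 ∧ (θ1' (bB hstar z)).1.1 0 2 = 0 ∧
      (θ1' (bB hstar z)).1.1 0 3 = 0 ∧ (θ1' (bB hstar z)).1.1 1 0 = 0 ∧ (θ1' (bB hstar z)).1.1 1 2 = 0 ∧
      (θ1' (bB hstar z)).1.1 1 3 = 0 ∧ (θ1' (bB hstar z)).1.1 2 0 = 0 ∧ (θ1' (bB hstar z)).1.1 2 1 = 0 ∧
      (θ1' (bB hstar z)).1.1 3 0 = 0 ∧ (θ1' (bB hstar z)).1.1 3 1 = 0 := fun z =>
    ⟨hY z 0 1 (by simpa using nn), hY z 0 2 (by simpa using n2.1), hY z 0 3 (by simpa using n2.1),
      hY z 1 0 (by simpa using nn.symm), hY z 1 2 (by simpa using n2.2), hY z 1 3 (by simpa using n2.2),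
      hY z 2 0 (by simpa using n2.1.symm), hY z 2 1 (by simpa using n2.2.symm),
      hY z 3 0 (by simpa using n2.1.symm), hY z 3 1 (by simpa using n2.2.symm)⟩
  have same : ∀ z, (θ1' (bB hstar z)).1.1 0 0 = (θ1' (bB hstar z)).1.1 1 1 := fun z => by
    have e := congrFun (congrFun (congrArg (fun y : Cfsg.SU 4 F 3 => y.1.1) (hout (w2 hstar) z)) 0) 1
    change ((blA (bA hstar (w2 hstar))).1.1 * (θ1' (bB hstar z)).1.1) 0 1 =
      ((θ1' (bB hstar z)).1.1 * (blA (bA hstar (w2 hstar))).1.1) 0 1 at e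
    simp [Matrix.mul_apply, Fin.sum_univ_four, blA, blkA4_val, bA_val, w2, mkSU, zeros z] at e
    exact e.symm
  let χ : Cfsg.SU 2 F 3 →* F :=
    { toFun := fun z => (θ1' (bB hstar z)).1.1 0 0
      map_one' := by simp
      map_mul' := fun z z' => by
        rw [map_mul, map_mul]
        show ((θ1' (bB hstar z)).1.1 * (θ1' (bB hstar z')).1.1) 0 0 = _
        simp [Matrix.mul_apply, Fin.sum_univ_four, zeros z] }
  have hχ : χ.toHomUnits = 1 := norm_char_trivial hstar hF le_rfl _ fun z => Units.ext (by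
    rw [Units.val_pow_eq_pow_val, MonoidHom.coe_toHomUnits, Units.val_one, pow_succ, ← hstar]
    have := congrFun (congrFun (conjTranspose_mul_self hstar (θ1' (bB hstar z))) 0) 0
    simpa [Matrix.mul_apply, Fin.sum_univ_four, zeros z, χ] using this)
  have one00 : ∀ z, (θ1' (bB hstar z)).1.1 0 0 = 1 := fun z => congrArg Units.val (DFunLike.congr_fun hχ z)
  have hb3 : b 3 = 0 := by
    by_contra h3
    have hz1 : ∀ z, θ1' (bB hstar z) = 1 := by
      intro z
      obtain ⟨z01, z02, z03, z10, z12, z13, z20, z21, z30, z31⟩ := zeros z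
      have z11 : (θ1' (bB hstar z)).1.1 1 1 = 1 := (same z).symm.trans (one00 z)
      have hb' := hbfix (bB hstar z)
      have a := congrFun hb' 2
      have c := congrFun hb' 3
      simp [act, Matrix.mulVec, dotProduct, Fin.sum_univ_four, hb12, z20, z30] at a c
      have z23 : (θ1' (bB hstar z)).1.1 2 3 = 0 := a.resolve_right h3
      have z33 : (θ1' (bB hstar z)).1.1 3 3 = 1 := mul_right_cancel₀ h3 (c.trans (one_mul _).symm)
      have z32 : (θ1' (bB hstar z)).1.1 3 2 = 0 := by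
        have := congrFun (congrFun (conjTranspose_mul_self hstar (θ1' (bB hstar z))) 3) 2
        simpa [Matrix.mul_apply, Fin.sum_univ_four, z03, z13, z23, z33] using this
      have hdet := (θ1' (bB hstar z)).1.2
      have hM : (θ1' (bB hstar z)).1.1 = Matrix.diagonal ![1, 1, (θ1' (bB hstar z)).1.1 2 2, 1] := by
        ext i j
        fin_cases i <;> fin_cases j <;>
          simp [z01, z02, z03, z10, z11, z12, z13, z20, z21, z30, z31, z23, z32, z33, one00]
      rw [hM, Matrix.det_diagonal, Fin.prod_univ_four] at hdet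
      simp at hdet
      refine eq_of_mat ?_
      rw [hM, hdet]
      exact (by
        ext i j
        fin_cases i <;> fin_cases j <;> simp :
        (Matrix.diagonal ![(1 : F), 1, 1, 1]) = (1 : Matrix (Fin 4) (Fin 4) F))
    have := blk_injective hstar _ (hθ1' ((hz1 (w2 hstar)).trans
      (by rw [map_one, map_one] : (1 : Cfsg.SU 4 F 3) = θ1' (bB hstar 1))))
    have := congrArg (fun y : Cfsg.SU 2 F 3 => y.1.1 0 0) this
    simp [w2, mkSU] at this
  have hb0' : b 0 ≠ 0 := fun h => by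
    have hbb : herm b b = 1 := by rw [hb, herm_act hstar, herm_single_left, Pi.single_eq_same]; simp
    rw [show b = 0 by funext i; fin_cases i <;> simp [h, hb12, hb3], herm_zero_left] at hbb
    exact zero_ne_one hbb
  have hfix0 : ∀ x, θ1' x ∈ blB.range := fun x => by
    show θ1' x ∈ (blk hstar (seg 3 1 (by norm_num : 1 + 3 ≤ 4))).range
    rw [← fixS_four_first hstar hF]
    intro c hc
    rw [Set.mem_singleton_iff.1 hc]
    have e : b = b 0 • Pi.single 0 1 := by funext i; fin_cases i <;> simp [hb12, hb3]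
    have := hbfix x
    rw [e, act_smul] at this
    exact smul_right_injective _ hb0' this
  let b1 : Cfsg.SU 3 F 3 →* Cfsg.SU 3 F 3 :=
    (MonoidHom.ofInjective hblB).symm.toMonoidHom.comp (θ1'.codRestrict blB.range hfix0)
  have hb1 : ∀ x, blB (b1 x) = θ1' x := fun x => MonoidHom.apply_ofInjective_symm hblB _
  have hb1i : Function.Injective b1 := fun x y h => hθ1' ((hb1 x).symm.trans ((congrArg blB h).trans (hb1 y)))
  let β1 : MulAut (Cfsg.SU 3 F 3) := MulEquiv.ofBijective b1 ⟨hb1i, Finite.injective_iff_surjective.1 hb1i⟩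
  obtain ⟨c, hc, hrig⟩ := rigid hstar hF le_rfl β1
    (fun x => hblB (by
      show blB (b1 (bA hstar x)) = _
      rw [hb1, hmid]
      show blk hstar _ (blk hstar _ x) = blk hstar _ (blk hstar _ x)
      rw [blk_seg_seg hstar (by norm_num : 0 + 3 ≤ 4) _ (zero_add 1) (by norm_num),
        blk_seg_seg hstar (by norm_num : 1 + 3 ≤ 4) _ (add_zero 1) (by norm_num)]))
    (fun z => by
      suffices h : β1 (bB hstar z) ∈ (bB hstar).range by
        obtain ⟨y, hy⟩ := h
        exact ⟨y, hy.symm⟩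
      rw [← fixS_zero hstar]
      intro v hv
      rw [Set.mem_singleton_iff.1 hv]
      have e : (θ1' (bB hstar z)).1.1 = (blB (β1 (bB hstar z))).1.1 := by rw [← hb1]; rfl
      obtain ⟨z01, z02, z03, z10, z12, z13, z20, z21, z30, z31⟩ := zeros z
      have z11 : (θ1' (bB hstar z)).1.1 1 1 = 1 := (same z).symm.trans (one00 z)
      rw [e] at z11 z21 z31
      change (blk hstar (seg 3 1 (by norm_num : 1 + 3 ≤ 4)) (β1 (bB hstar z))).1.1 _ _ = _ at z11 z21 z31
      rw [blkB4_val] at z11 z21 z31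
      simp at z11 z21 z31
      funext i
      rw [act_single_apply]
      fin_cases i <;> simp [z11, z21, z31])
  obtain ⟨D1, hD1⟩ := exists_autD (q := 3) hstar ![1, 1, 1, c] (by intro i; fin_cases i <;> simp [hc])
    (RingHom.id F) (fun a => rfl)
  have hc' : c * star c = 1 := by rw [mul_comm]; exact hc
  have hD1A : ∀ x, D1 (blA x) = blA x := fun x => eq_of_mat (by
    ext i j
    rw [hD1]
    show _ * (blk hstar _ x).1.1 i j * _ = (blk hstar _ x).1.1 i j
    rw [blkA4_val]
    fin_cases i <;> fin_cases j <;> simp [hc'])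
  have hD1B : ∀ x, D1 (blB x) = θ1' x := fun x => by
    rw [← hb1 x]
    refine eq_of_mat ?_
    ext i j
    rw [hD1]
    show _ * (blk hstar _ x).1.1 i j * _ = (blk hstar _ (β1 x)).1.1 i j
    rw [blkB4_val, blkB4_val]
    fin_cases i <;> fin_cases j <;> simp [hrig]
  let Φ : Cfsg.SU 4 F 3 →* G := g0.comp (D1.trans Θ0).toMonoidHom
  have hΦA : ∀ x, Φ (blA x) = C.ψ 0 x := fun x => by
    show g0 (Θ0 (D1 (blA x))) = _
    rw [hD1A, hΘ0, e0]
  have hΦB : ∀ x, Φ (blB x) = C.ψ 1 x := fun x => by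
    show g0 (Θ0 (D1 (blB x))) = _
    rw [hD1B]
    show g0 (Θ0 (Θ0.symm (θ1 x))) = _
    rw [Θ0.apply_symm_apply, e1]
  let f : Cfsg.SU 4 F 3 →* G × Cfsg.SU n F 3 := Φ.prod (blk hstar (seg 4 0 (by omega)))
  have hu : ∀ i (h : i + 2 ≤ 4) x, f (blk hstar (seg 2 i h) x) = C.U i (by omega) x := by
    intro i h x
    refine Prod.ext ?_ (blk_seg_seg hstar _ _ (zero_add i) _ x)
    show Φ (blk hstar (seg 2 i h) x) = C.u i x
    rcases (by omega : i = 0 ∨ i = 1 ∨ i = 2) with rfl | rfl | rfl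
    · rw [← blk_seg_seg hstar (by norm_num : 0 + 3 ≤ 4) (by norm_num : 0 + 2 ≤ 3) (add_zero 0) h x]
      exact (hΦA _).trans (C.ψ_bA (by omega) x)
    · rw [← blk_seg_seg hstar (by norm_num : 0 + 3 ≤ 4) (by norm_num : 1 + 2 ≤ 3) (zero_add 1) h x]
      exact (hΦA _).trans (C.ψ_bB (i := 0) (by omega) x)
    · rw [← blk_seg_seg hstar (by norm_num : 1 + 3 ≤ 4) (by norm_num : 1 + 2 ≤ 3) (rfl : 1 + 1 = 2) h x]
      exact (hΦB _).trans (C.ψ_bB (i := 1) (by omega) x)
  refine C.good_range (by omega) f (fun _ => rfl) (le_antisymm (C.Hk_le fun i h hi x => ?_) ?_)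
  · exact ⟨_, hu i hi x⟩
  · rw [MonoidHom.range_eq_map, Subgroup.map_le_iff_le_comap,
      ← gen_four hstar hF le_rfl h2 ((C.Hk 4).comap f) fun i h x => by
        rw [Subgroup.mem_comap, hu i h x]; exact C.U_mem _ h x]

end Cfsg.Agent.Small.Phan
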