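import Cfsg.Agent.Lib.Small.Phan.Blocks
import Cfsg.Agent.Lib.Small.Phan.Field

/-!
Generation of the three-dimensional special unitary group by its two coordinate blocks.
-/

set_option autoImplicit false
set_option linter.unusedSectionVars false
set_option linter.style.haveILetI false

namespace Cfsg.Agent.Small.Phan

open Matrix Cfsg.Agent.Small.Unitary Cfsg.Agent.Small.UCover Cfsg.Agent.Small.SUPres

variable {F : Type*} [Field F] [Fintype F] [StarRing F] {q : ℕ} (hstar : ∀ x : F, star x = x ^ q)
  (hF : Fintype.card F = q ^ 2)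
theorem herm_two (u v : Fin 2 → F) : herm u v = star (u 0) * v 0 + star (u 1) * v 1 := by
  simp [herm, dotProduct, Fin.sum_univ_two]

theorem eA_vec (v : Fin 2 → F) : eMat (seg 2 0 (by norm_num : 0 + 2 ≤ 3)) *ᵥ v = ![v 0, v 1, 0] := by
  have ev : v = v 0 • Pi.single 0 1 + v 1 • Pi.single 1 1 := by funext i; fin_cases i <;> simp
  conv_lhs => rw [ev]
  simp only [Matrix.mulVec_add, Matrix.mulVec_smul, eMat_single, seg20]
  funext i; fin_cases i <;> simp

theorem eB_vec (v : Fin 2 → F) : eMat (seg 2 1 (by norm_num : 1 + 2 ≤ 3)) *ᵥ v = ![0, v 0, v 1] := by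
  have ev : v = v 0 • Pi.single 0 1 + v 1 • Pi.single 1 1 := by funext i; fin_cases i <;> simp
  conv_lhs => rw [ev]
  simp only [Matrix.mulVec_add, Matrix.mulVec_smul, eMat_single, seg21]
  funext i; fin_cases i <;> simp

theorem act_bA_vec (g : Cfsg.SU 2 F q) (x y z : F) :
    act (bA hstar g) ![x, y, z] = ![act g ![x, y] 0, act g ![x, y] 1, z] := by
  have e : (![x, y, z] : Fin 3 → F) = eMat (seg 2 0 (by norm_num : 0 + 2 ≤ 3)) *ᵥ ![x, y] + z • Pi.single 2 1 := by
    rw [eA_vec]; funext i; fin_cases i <;> simp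
  rw [e, act_add, act_smul, act_bA_two]
  show act (blk hstar _ g) _ + _ = _
  rw [act_blk, eA_vec]
  funext i; fin_cases i <;> simp

theorem act_bB_vec (g : Cfsg.SU 2 F q) (x y z : F) :
    act (bB hstar g) ![x, y, z] = ![x, act g ![y, z] 0, act g ![y, z] 1] := by
  have e : (![x, y, z] : Fin 3 → F) = eMat (seg 2 1 (by norm_num : 1 + 2 ≤ 3)) *ᵥ ![y, z] + x • Pi.single 0 1 := by
    rw [eB_vec]; funext i; fin_cases i <;> simp
  rw [e, act_add, act_smul, act_bB_zero]
  show act (blk hstar _ g) _ + _ = _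
  rw [act_blk, eB_vec]
  funext i; fin_cases i <;> simp

include hstar hF


/-- Vectors of the same nonzero norm are conjugate in the plane. -/
theorem exists_move_two {u u' : Fin 2 → F} (hu : herm u u ≠ 0) (h : herm u u = herm u' u') :
    ∃ g : Cfsg.SU 2 F q, act g u = u' := by
  obtain ⟨s, hs0, hs⟩ := Hermitian.exists_norm hstar hF (inv_ne_zero hu) (by rw [star_inv₀, star_herm])
  obtain ⟨g, hg⟩ := exists_move hstar hF
    (on_one (a := s • u) (by rw [herm_smul_left, herm_smul_right, ← mul_assoc, hs, inv_mul_cancel₀ hu]))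
    (on_one (a := s • u') (by rw [herm_smul_left, herm_smul_right, ← mul_assoc, hs, ← h, inv_mul_cancel₀ hu]))
    (by norm_num)
  have := hg 0
  simp only [Matrix.cons_val_fin_one, act_smul] at this
  exact ⟨g, smul_right_injective _ hs0 this⟩

/-- A nonzero element whose norm is not one. -/
theorem exists_norm_ne_one (hq : 3 ≤ q) : ∃ x : F, x ≠ 0 ∧ N x ≠ 1 := by
  obtain ⟨g, hg⟩ := IsCyclic.exists_ofOrder_eq_natCard (α := Fˣ)
  rw [Nat.card_units, Nat.card_eq_fintype_card, hF] at hg
  refine ⟨g, g.ne_zero, fun h => ?_⟩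
  rw [N, hstar, ← pow_succ, ← Units.val_pow_eq_pow_val, Units.val_eq_one] at h
  have := Nat.le_of_dvd (by omega) (orderOf_dvd_of_pow_eq_one h)
  rw [hg] at this
  nlinarith [Nat.sub_add_cancel (Nat.one_le_pow 2 q (by omega))]

/-- An isotropic vector of the plane can change the norm of its first coordinate. -/
theorem exists_change (hq : 3 ≤ q) {a b : F} (ha : a ≠ 0) (hab : N a + N b = 0) :
    ∃ g : Cfsg.SU 2 F q, N (act g ![a, b] 0) ≠ N a := by
  obtain ⟨x, hx0, hx1⟩ := exists_norm_ne_one hstar hF hq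
  obtain ⟨y, hy0, hy⟩ := Hermitian.exists_norm hstar hF (a := 1 - N x) (sub_ne_zero.2 (Ne.symm hx1))
    (by rw [star_sub, star_one, star_N])
  have hxy : star x * x + star y * y = 1 := by
    show N x + star y * y = 1
    rw [hy]; ring
  obtain ⟨z, hz⟩ := IsCyclic.exists_ofOrder_eq_natCard (α := Fˣ)
  rw [Nat.card_units, Nat.card_eq_fintype_card, hF] at hz
  obtain ⟨m, rfl⟩ : ∃ m, q = m + 1 := ⟨q - 1, by omega⟩
  rw [show (m + 1) ^ 2 - 1 = (m + 2) * m by rw [show (m + 1) ^ 2 = (m + 2) * m + 1 by ring]; omega] at hz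
  set ζ : F := (z : F) ^ m with hζ
  have hζ1 : star ζ * ζ = 1 := by
    rw [hstar, ← pow_succ, hζ, ← pow_mul, ← Units.val_pow_eq_pow_val, show m * (m + 1 + 1) = (m + 2) * m by ring,
      ← hz, pow_orderOf_eq_one, Units.val_one]
  have hpow : ∀ i : ℕ, 0 < i → i < 3 → ζ ^ i ≠ 1 := fun i hi hi' h => by
    rw [hζ, ← pow_mul, ← Units.val_pow_eq_pow_val, Units.val_eq_one] at h
    have := Nat.le_of_dvd (Nat.mul_pos (by omega) hi) (orderOf_dvd_of_pow_eq_one h)
    rw [hz, mul_comm m i] at this
    have := Nat.le_of_mul_le_mul_right this (by omega : 0 < m)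
    omega
  have hb : b ≠ 0 := fun h => by rw [h, N_zero, add_zero, N_eq_zero] at hab; exact ha hab
  set w := star x * star a * star y * b with hw
  have hw0 : w ≠ 0 := mul_ne_zero (mul_ne_zero (mul_ne_zero (star_ne_zero.2 hx0) (star_ne_zero.2 ha))
    (star_ne_zero.2 hy0)) hb
  by_contra hcon
  push Not at hcon
  -- the trace of `w` times a norm one element is constant
  have key : ∀ l : F, star l * l = 1 → w * l + star (w * l) = -(N a + N a) * N y := by
    intro l hl
    have hu : (!![x, -(l * star y); star l * y, star x] : Matrix (Fin 2) (Fin 2) F)ᴴ *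
        !![x, -(l * star y); star l * y, star x] = 1 := by
      ext i j
      fin_cases i <;> fin_cases j <;> simp [Matrix.mul_apply, Fin.sum_univ_two, star_mul', star_star]
      · linear_combination hxy + (star y * y) * hl
      · ring
      · ring
      · linear_combination hxy + (star y * y) * hl
    have hd : (!![x, -(l * star y); star l * y, star x] : Matrix (Fin 2) (Fin 2) F).det = 1 := by
      rw [Matrix.det_fin_two_of]; linear_combination hxy + (star y * y) * hl
    have e := hcon (mkSU hstar _ hu hd)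
    have e0 : act (mkSU hstar _ hu hd : Cfsg.SU 2 F (m + 1)) ![a, b] 0 = x * a - l * star y * b := by
      show ((!![x, -(l * star y); star l * y, star x] : Matrix (Fin 2) (Fin 2) F) *ᵥ ![a, b]) 0 = _
      simp [Matrix.mulVec, dotProduct, Fin.sum_univ_two]; ring
    rw [e0] at e
    have hb' : star b * b = -(star a * a) := by simp only [N] at hab; linear_combination hab
    simp only [N, hw, star_sub, star_mul', star_star] at e ⊢
    linear_combination -e + (star y * y * star l * l) * hb' - (star a * a * star y * y) * hl +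
      (star a * a) * hxy
  have e1 := key 1 (by simp)
  have e2 := key ζ hζ1
  have e3 := key (ζ ^ 2) (by rw [star_pow, ← mul_pow, hζ1, one_pow])
  have q2 : ∀ l : F, star l * l = 1 → w * l + star (w * l) = -(N a + N a) * N y →
      w * l ^ 2 + star w = -(N a + N a) * N y * l := fun l hl h => by
    rw [star_mul'] at h
    linear_combination l * h - star w * hl
  have f1 := q2 1 (by simp) e1
  have f2 := q2 ζ hζ1 e2
  have f3 := q2 (ζ ^ 2) (by rw [star_pow, ← mul_pow, hζ1, one_pow]) e3
  set C := -(N a + N a) * N y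
  have g2 : w * (1 + ζ) = C := mul_left_cancel₀ (sub_ne_zero.2 (by simpa using hpow 1 (by norm_num) (by norm_num)))
    (show (ζ - 1) * (w * (1 + ζ)) = (ζ - 1) * C by linear_combination f2 - f1)
  have g3 : w * (1 + ζ ^ 2) = C := mul_left_cancel₀ (sub_ne_zero.2 (hpow 2 (by norm_num) (by norm_num)))
    (show (ζ ^ 2 - 1) * (w * (1 + ζ ^ 2)) = (ζ ^ 2 - 1) * C by linear_combination f3 - f1)
  have hζζ : ζ * ζ = ζ * 1 := by
    have := add_left_cancel (mul_left_cancel₀ hw0 (g3.trans g2.symm))
    rw [mul_one, ← pow_two]; exact this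
  have hζ0 : ζ ≠ 0 := fun h => by rw [h, mul_zero] at hζ1; exact zero_ne_one hζ1
  exact hpow 1 (by norm_num) (by norm_num) (by rw [pow_one]; exact mul_left_cancel₀ hζ0 hζζ)

/-- The two blocks generate. -/
theorem gen_three (hq : 3 ≤ q) : (bA (q := q) hstar).range ⊔ (bB hstar).range = ⊤ := by
  classical
  set M := (bA (q := q) hstar).range ⊔ (bB hstar).range
  let Good : (Fin 3 → F) → Prop := fun v => ∃ g ∈ M, act g v = Pi.single 2 1
  have step : ∀ g ∈ M, ∀ v, Good (act g v) → Good v := fun g hg v ⟨h, hh, e⟩ =>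
    ⟨h * g, mul_mem hh hg, by rw [act_mul]; exact e⟩
  have hA : ∀ g, bA hstar g ∈ M := fun g => Subgroup.mem_sup_left ⟨g, rfl⟩
  have hB : ∀ g, bB hstar g ∈ M := fun g => Subgroup.mem_sup_right ⟨g, rfl⟩
  have last : ∀ y z : F, N y + N z = 1 → Good ![0, y, z] := by
    intro y z h
    have h' : herm ![y, z] ![y, z] = (1 : F) := by rw [herm_two]; simpa [N] using h
    obtain ⟨g, hg⟩ := exists_move_two hstar hF (u := ![y, z]) (u' := ![0, 1])
      (by rw [h']; exact one_ne_zero) (by rw [h', herm_two]; simp)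
    refine ⟨bB hstar g, hB g, ?_⟩
    rw [act_bB_vec hstar, hg]
    funext i; fin_cases i <;> simp
  have first : ∀ x y z : F, N x + N y + N z = 1 → N x + N y ≠ 0 → Good ![x, y, z] := by
    intro x y z h hne
    obtain ⟨s, hs0, hs⟩ := Hermitian.exists_norm hstar hF hne (by rw [star_add, star_N, star_N])
    have hm : herm ![x, y] ![x, y] = N x + N y := by rw [herm_two]; simp [N]
    obtain ⟨g, hg⟩ := exists_move_two hstar hF (u := ![x, y]) (u' := ![0, s])
      (by rw [hm]; exact hne) (by rw [hm, herm_two]; simpa using hs.symm)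
    refine step _ (hA g) _ ?_
    rw [act_bA_vec hstar, hg]
    refine last _ _ ?_
    show N s + N z = 1
    rw [show N s = N x + N y from hs, h]
  have all : ∀ v, herm v v = 1 → Good v := by
    intro v hv
    have ev : v = ![v 0, v 1, v 2] := by funext i; fin_cases i <;> rfl
    have hn : N (v 0) + N (v 1) + N (v 2) = 1 := by
      rw [← hv]; simp [herm, dotProduct, Fin.sum_univ_three, N]
    rw [ev]
    by_cases h01 : N (v 0) + N (v 1) = 0
    swap; · exact first _ _ _ hn h01
    by_cases h0 : v 0 = 0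
    · rw [h0]
      exact last _ _ (by rw [h0, N_zero, zero_add] at hn; exact hn)
    by_cases h12 : N (v 1) + N (v 2) = 0
    · have h1 : v 1 ≠ 0 := fun h => by rw [h, N_zero, add_zero, N_eq_zero] at h01; exact h0 h01
      obtain ⟨g, hg⟩ := exists_change hstar hF hq h1 h12
      refine step _ (hB g) _ ?_
      rw [act_bB_vec hstar]
      refine first _ _ _ ?_ fun h => hg (by linear_combination h - h01)
      have := herm_act hstar g ![v 1, v 2] ![v 1, v 2]
      rw [herm_two, herm_two] at this
      simp only [N] at hn ⊢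
      simp at this
      linear_combination hn + this
    · obtain ⟨s, hs0, hs⟩ := Hermitian.exists_norm hstar hF h12 (by rw [star_add, star_N, star_N])
      have hm : herm ![v 1, v 2] ![v 1, v 2] = N (v 1) + N (v 2) := by rw [herm_two]; simp [N]
      obtain ⟨g, hg⟩ := exists_move_two hstar hF (u := ![v 1, v 2]) (u' := ![0, s])
        (by rw [hm]; exact h12) (by rw [hm, herm_two]; simpa using hs.symm)
      refine step _ (hB g) _ ?_
      rw [act_bB_vec hstar, hg]
      refine first _ _ _ ?_ ?_
      · show N (v 0) + N 0 + N s = 1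
        rw [N_zero, show N s = N (v 1) + N (v 2) from hs]; linear_combination hn
      · show N (v 0) + N 0 ≠ 0
        rw [N_zero, add_zero]
        exact fun h => h0 (N_eq_zero.1 h)
  rw [eq_top_iff]
  intro x _
  obtain ⟨g, hg, hgx⟩ := all (act x (Pi.single 2 1)) (by
    rw [herm_act hstar, herm_single_left, Pi.single_eq_same]; simp)
  have hmem : g * x ∈ Sk 3 q 2 := mem_Sk.2 fun i hi => by
    rw [show i = 2 from Fin.ext (by have := i.isLt; omega), act_mul, hgx]
  rw [← range_inclHom (q := q) hstar (by norm_num : 2 ≤ 3), ← blk_castLE hstar, ← seg_zero (by norm_num : 0 + 2 ≤ 3)] at hmem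
  have : g * x ∈ M := Subgroup.mem_sup_left hmem
  simpa using mul_mem (inv_mem hg) this

end Cfsg.Agent.Small.Phan
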