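import Cfsg.Agent.Lib.Small.Phan.Gen
import Cfsg.Agent.Lib.Small.Phan.Criterion

/-!
A chain of three-dimensional special unitary groups with commuting distant blocks generates a quotient of
the large special unitary group.
-/

set_option autoImplicit false
set_option linter.unusedSectionVars false
set_option linter.style.haveILetI false

namespace Cfsg.Agent.Small.SUPres.CoverData

variable {H G X : Type*} [Group H] [Group G] [MulAction G X] (D : CoverData H G X)

/-- Commuting elements fill a square. -/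
theorem agree_of_comm {y g h : H} (hy : y ∈ D.A) (hg : g ∈ D.A) (hgh : Commute g h)
    (hs : (y * D.t)⁻¹ * h * (y * D.t) ∈ D.A) :
    D.Agree D.a₀ (D.π h • D.a₀) (D.π (y * D.t) • D.a₀) (D.π (g * (y * D.t)) • D.a₀) := by
  obtain ⟨s, hs'⟩ : ∃ s, s = y * D.t := ⟨_, rfl⟩
  rw [← hs'] at hs ⊢
  have e1 : D.E ((1 : H) : H ⧸ D.A) (s : H ⧸ D.A) :=
    ⟨y, (QuotientGroup.eq.2 (by rw [inv_one, one_mul]; exact hy) : ((1 : H) : H ⧸ D.A) = _), by rw [hs']⟩
  have hmul : ∀ (x z : H), x • ((z : H) : H ⧸ D.A) = ((x * z : H) : H ⧸ D.A) := fun x z => rfl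
  have e2 : D.E (s : H ⧸ D.A) (h : H ⧸ D.A) := by
    have := D.E_smul (D.E_symm e1) h
    rw [hmul, hmul, mul_one, show h * s = s * (s⁻¹ * h * s) by group, D.mk_mul_mem _ hs] at this
    exact this
  have e3 : D.E ((g * s : H) : H ⧸ D.A) (h : H ⧸ D.A) := by
    have := D.E_smul e2 g
    rw [hmul, hmul, hgh.eq, D.mk_mul_mem _ hg] at this
    exact this
  have e4 : D.E ((1 : H) : H ⧸ D.A) ((g * s : H) : H ⧸ D.A) := by
    have := D.E_smul e1 g
    rw [hmul, hmul, mul_one, (QuotientGroup.eq.2 (by rw [mul_one]; exact inv_mem hg) :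
      ((g : H) : H ⧸ D.A) = ((1 : H) : H ⧸ D.A))] at this
    exact this
  intro P Q R Q' R' hP h1 h2 h3 h4 h5 h6 h7 h8
  obtain ⟨u, rfl⟩ := QuotientGroup.mk_surjective P
  obtain ⟨x₀, hx₀, hx₀'⟩ := D.onto (D.π u) (by rwa [p_mk] at hP)
  set k := u * x₀⁻¹ with hk
  have hk1 : D.π k = 1 := by rw [hk, map_mul, map_inv, hx₀', mul_inv_cancel]
  have hPk : ((u : H) : H ⧸ D.A) = k • ((1 : H) : H ⧸ D.A) := by
    rw [hmul, mul_one, hk, D.mk_mul_mem _ (inv_mem hx₀)]
  rw [hPk] at h1 h5
  have hp : ∀ S : H ⧸ D.A, D.p (k • S) = D.p S := fun S => by rw [D.p_smul, hk1, one_smul]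
  have eQ : Q = k • (s : H ⧸ D.A) := D.lift_unique h1 (D.E_smul e1 k) (by rw [h2, hp, p_mk])
  subst eQ
  have eR : R = k • (h : H ⧸ D.A) := D.lift_unique h3 (D.E_smul e2 k) (by rw [h4, hp, p_mk])
  have eQ' : Q' = k • ((g * s : H) : H ⧸ D.A) := D.lift_unique h5 (D.E_smul e4 k) (by rw [h6, hp, p_mk])
  subst eQ'
  exact eR.trans (D.lift_unique h7 (D.E_smul e3 k) (by rw [h8, hp, p_mk])).symm

end Cfsg.Agent.Small.SUPres.CoverData

namespace Cfsg.Agent.Small.Phan

open Matrix Cfsg.Agent.Small.Unitary Cfsg.Agent.Small.UCover Cfsg.Agent.Small.SUPres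

variable {F : Type*} [Field F] [Fintype F] [StarRing F] {q : ℕ}

/-- Compatible three-dimensional groups along the coordinates `0, …, n - 1`. -/
structure Chain (G : Type*) [Group G] (hstar : ∀ x : F, star x = x ^ q) (n : ℕ) where
  ψ : ℕ → (Cfsg.SU 3 F q →* G)
  compat : ∀ i, i + 4 ≤ n → ∀ x, ψ (i + 1) (bA hstar x) = ψ i (bB hstar x)
  comm : ∀ i j, i + 2 ≤ j → j + 2 ≤ n → ∀ x y : Cfsg.SU 2 F q,
    Commute (if i + 3 ≤ n then ψ i (bA hstar x) else ψ (i - 1) (bB hstar x))
      (if j + 3 ≤ n then ψ j (bA hstar y) else ψ (j - 1) (bB hstar y))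

variable {G : Type*} [Group G] {hstar : ∀ x : F, star x = x ^ q} {n : ℕ} (C : Chain G hstar n)

namespace Chain

/-- The `i`-th plane group. -/
noncomputable def u (i : ℕ) : Cfsg.SU 2 F q →* G :=
  if i + 3 ≤ n then (C.ψ i).comp (bA hstar) else (C.ψ (i - 1)).comp (bB hstar)

theorem u_apply (i : ℕ) (x : Cfsg.SU 2 F q) :
    C.u i x = if i + 3 ≤ n then C.ψ i (bA hstar x) else C.ψ (i - 1) (bB hstar x) := by
  unfold u; split_ifs <;> rfl

theorem ψ_bA {i : ℕ} (h : i + 3 ≤ n) (x : Cfsg.SU 2 F q) : C.ψ i (bA hstar x) = C.u i x := by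
  rw [u_apply, if_pos h]

theorem ψ_bB {i : ℕ} (h : i + 3 ≤ n) (x : Cfsg.SU 2 F q) : C.ψ i (bB hstar x) = C.u (i + 1) x := by
  rw [u_apply]
  split_ifs with h'
  · exact (C.compat i (by omega) x).symm
  · rw [Nat.add_sub_cancel]

/-- The plane group over the large group. -/
noncomputable def U (i : ℕ) (h : i + 2 ≤ n) : Cfsg.SU 2 F q →* G × Cfsg.SU n F q :=
  (C.u i).prod (blk hstar (seg 2 i h))

/-- The three-dimensional group over the large group. -/
noncomputable def Ψ (i : ℕ) (h : i + 3 ≤ n) : Cfsg.SU 3 F q →* G × Cfsg.SU n F q :=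
  (C.ψ i).prod (blk hstar (seg 3 i h))

theorem Ψ_bA {i : ℕ} (h : i + 3 ≤ n) (x : Cfsg.SU 2 F q) :
    C.Ψ i h (bA hstar x) = C.U i (by omega) x :=
  Prod.ext (C.ψ_bA h x) (blk_seg_seg hstar h _ (add_zero i) _ x)

theorem Ψ_bB {i : ℕ} (h : i + 3 ≤ n) (x : Cfsg.SU 2 F q) :
    C.Ψ i h (bB hstar x) = C.U (i + 1) (by omega) x :=
  Prod.ext (C.ψ_bB h x) (blk_seg_seg hstar h _ rfl _ x)

theorem U_commute {i j : ℕ} (hi : i + 2 ≤ n) (hj : j + 2 ≤ n) (hij : i + 2 ≤ j) (x y : Cfsg.SU 2 F q) :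
    Commute (C.U i hi x) (C.U j hj y) :=
  Prod.ext
    (by
      show C.u i x * C.u j y = C.u j y * C.u i x
      rw [u_apply, u_apply]; exact C.comm i j hij hj x y)
    (blk_seg_commute hstar hi hj hij x y)

/-- The group on the first `k` coordinates. -/
noncomputable def Hk (k : ℕ) : Subgroup (G × Cfsg.SU n F q) :=
  ⨆ (i : ℕ) (h : i + 2 ≤ n) (_ : i + 2 ≤ k), (C.U i h).range

theorem U_mem {k i : ℕ} (h : i + 2 ≤ n) (hk : i + 2 ≤ k) (x : Cfsg.SU 2 F q) : C.U i h x ∈ C.Hk k :=
  (le_iSup_of_le i (le_iSup_of_le h (le_iSup_of_le hk le_rfl)) : (C.U i h).range ≤ C.Hk k) ⟨x, rfl⟩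

theorem Hk_le {k : ℕ} {M : Subgroup (G × Cfsg.SU n F q)}
    (hM : ∀ i (h : i + 2 ≤ n), i + 2 ≤ k → ∀ x, C.U i h x ∈ M) : C.Hk k ≤ M :=
  iSup_le fun i => iSup_le fun h => iSup_le fun hk => fun _ ⟨x, e⟩ => e ▸ hM i h hk x

theorem Hk_mono {k l : ℕ} (hkl : k ≤ l) : C.Hk k ≤ C.Hk l :=
  C.Hk_le fun _ h hk x => C.U_mem h (hk.trans hkl) x

/-- The projection. -/
noncomputable def π : G × Cfsg.SU n F q →* Cfsg.SU n F q := MonoidHom.snd G _

theorem map_Hk_le {k : ℕ} : (C.Hk k).map π ≤ Sk n q k := by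
  rw [Subgroup.map_le_iff_le_comap]
  refine C.Hk_le fun i h hk x => mem_Sk.2 fun l hl => ?_
  exact act_blk_out hstar _ x fun a ha => by
    have := congrArg Fin.val ha
    rw [seg_val] at this; have := a.isLt; omega

/-- The statement at level `k`. -/
def Good (k : ℕ) : Prop := (∀ x ∈ C.Hk k, π x = 1 → x = 1) ∧ (C.Hk k).map π = Sk n q k

theorem good_range {k : ℕ} (h : 0 + k ≤ n) (f : Cfsg.SU k F q →* G × Cfsg.SU n F q)
    (hf : ∀ x, π (f x) = blk hstar (seg k 0 h) x) (he : C.Hk k = f.range) : C.Good k := by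
  refine ⟨fun x hx h1 => ?_, ?_⟩
  · rw [he] at hx
    obtain ⟨y, rfl⟩ := hx
    rw [hf] at h1
    rw [show y = 1 from blk_injective hstar _ (h1.trans (map_one _).symm), map_one]
  · rw [he, MonoidHom.map_range, ← range_inclHom (q := q) hstar (by omega : k ≤ n), ← blk_castLE hstar,
      ← seg_zero h]
    exact congrArg MonoidHom.range (MonoidHom.ext hf)

theorem good_two (hn : 3 ≤ n) : C.Good 2 :=
  C.good_range (by omega) (C.U 0 (by omega)) (fun _ => rfl)
    (le_antisymm (C.Hk_le fun i h hk x => by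
        obtain rfl : i = 0 := by omega
        exact ⟨x, rfl⟩)
      (by rintro _ ⟨x, rfl⟩; exact C.U_mem _ le_rfl x))

variable (hF : Fintype.card F = q ^ 2) (hq : 3 ≤ q)
include hF hq

theorem good_three (hn : 3 ≤ n) : C.Good 3 := by
  refine C.good_range (by omega) (C.Ψ 0 (by omega)) (fun _ => rfl) (le_antisymm (C.Hk_le fun i h hk x => ?_) ?_)
  · rcases (by omega : i = 0 ∨ i = 1) with rfl | rfl
    · exact ⟨_, C.Ψ_bA _ x⟩
    · exact ⟨_, C.Ψ_bB (i := 0) _ x⟩
  · rw [MonoidHom.range_eq_map, Subgroup.map_le_iff_le_comap, ← gen_three hstar hF hq]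
    refine sup_le ?_ ?_ <;> rintro _ ⟨x, rfl⟩ <;> show C.Ψ 0 _ _ ∈ C.Hk 3
    · rw [C.Ψ_bA]; exact C.U_mem _ (by omega) x
    · rw [C.Ψ_bB]; exact C.U_mem _ (by omega) x

set_option maxHeartbeats 1000000 in
theorem step {k : ℕ} (hk : 3 ≤ k) (hkn : k + 1 ≤ n) (hbase : 4 ≤ q ∨ 4 ≤ k) (hgood : C.Good k) (hgood' : C.Good (k - 1)) :
    C.Good (k + 1) := by
  classical
  obtain ⟨j, rfl⟩ : ∃ j, k = j + 2 := ⟨k - 2, by omega⟩
  let ι := inclHom (F := F) (q := q) hstar hkn
  have hιr : ι.range = Sk n q (j + 2 + 1) := range_inclHom hstar hkn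
  let H' := ↥(C.Hk (j + 2 + 1))
  let ρ : H' →* ↥ι.range := (π.comp (C.Hk (j + 2 + 1)).subtype).codRestrict _ fun x => by
    rw [hιr]; exact C.map_Hk_le (Subgroup.mem_map_of_mem _ x.2)
  let π' : H' →* Cfsg.SU (j + 2 + 1) F q :=
    (MonoidHom.ofInjective (inclHom_injective hstar hkn)).symm.toMonoidHom.comp ρ
  have hπ' : ∀ x : H', ι (π' x) = π x.1 := fun x =>
    congrArg Subtype.val ((MonoidHom.ofInjective (inclHom_injective (q := q) hstar hkn)).apply_symm_apply (ρ x))
  have hw : j + 3 ≤ n := by omega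
  -- the window
  let Y : Cfsg.SU 3 F q →* H' := (C.Ψ j hw).codRestrict _ fun y => by
    have : (⊤ : Subgroup (Cfsg.SU 3 F q)) ≤ (C.Hk (j + 2 + 1)).comap (C.Ψ j hw) := by
      rw [← gen_three hstar hF hq]
      refine sup_le ?_ ?_ <;> rintro _ ⟨x, rfl⟩ <;> show C.Ψ j hw _ ∈ C.Hk _
      · rw [C.Ψ_bA]; exact C.U_mem _ (by omega) x
      · rw [C.Ψ_bB]; exact C.U_mem _ (by omega) x
    exact this (Subgroup.mem_top y)
  let loc : Fin 3 ↪ Fin (j + 2 + 1) := seg 3 j (by omega)
  have hπY : ∀ y, π' (Y y) = blk hstar loc y := fun y => by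
    refine inclHom_injective hstar hkn ((hπ' _).trans ?_)
    show blk hstar (seg 3 j hw) y = _
    rw [← blk_castLE hstar, blk_blk]
    rfl
  have hactY : ∀ y (a : Fin 3) (v : Fin 3 → F), act y (Pi.single a 1) = v →
      act (π' (Y y)) (Pi.single (loc a) 1) = eMat loc *ᵥ v := fun y a v hv => by
    rw [hπY, act_blk_single, hv]
  let last : Fin (j + 2 + 1) := loc 2
  let a₀ : UVec (j + 2 + 1) hstar := ⟨Pi.single last 1, by rw [herm_single_left, Pi.single_eq_same]; simp⟩
  let A : Subgroup H' := (C.Hk (j + 2)).subgroupOf (C.Hk (j + 2 + 1))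
  let t : H' := Y (bB hstar (w2 hstar))
  have hlastv : (last : ℕ) = j + 2 := rfl
  have hfixA : ∀ g : Cfsg.SU (j + 2 + 1) F q, act g a₀.1 = a₀.1 ↔ ι g ∈ Sk n q (j + 2) := by
    intro g
    have hsingle : incl n (j + 2 + 1) *ᵥ Pi.single last 1 = Pi.single (Fin.castLE hkn last) (1 : F) :=
      incl_mulVec_single hkn last
    constructor
    · intro h
      refine mem_Sk.2 fun i hi => ?_
      rcases eq_or_lt_of_le hi with e | hlt
      · rw [show i = Fin.castLE hkn last from Fin.ext (by rw [Fin.val_castLE, hlastv]; omega), ← hsingle, act_inclHom]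
        exact congrArg _ h
      · have : ι g ∈ Sk n q (j + 2 + 1) := hιr ▸ ⟨g, rfl⟩
        exact mem_Sk.1 this i hlt
    · intro h
      have := mem_Sk.1 h (Fin.castLE hkn last) (by rw [Fin.val_castLE, hlastv])
      rw [← hsingle, act_inclHom] at this
      have := congrArg ((incl (F := F) n (j + 2 + 1))ᴴ *ᵥ ·) this
      simpa only [Matrix.mulVec_mulVec, incl_form hkn, Matrix.one_mulVec] using this
  have hmap : A.map π' = fixS q {a₀.1} := by
    ext g
    rw [mem_fixS]
    simp only [Set.mem_singleton_iff, forall_eq]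
    rw [hfixA, ← hgood.2]
    constructor
    · rintro ⟨x, hx, rfl⟩
      exact ⟨x.1, hx, (hπ' x).symm⟩
    · rintro ⟨x, hx, hxg⟩
      refine ⟨⟨x, C.Hk_mono (by omega) hx⟩, hx, inclHom_injective hstar hkn ?_⟩
      exact (hπ' _).trans hxg
  have hYA : ∀ x : Cfsg.SU 2 F q, Y (bA hstar x) ∈ A := fun x => by
    show C.Ψ j hw (bA hstar x) ∈ C.Hk (j + 2)
    rw [C.Ψ_bA]; exact C.U_mem _ le_rfl x
  have hta : act (π' t) a₀.1 = Pi.single (loc 1) 1 := by
    rw [← eMat_single]; exact hactY _ 2 _ (act_bB_two hstar)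
  have hne : loc 2 ≠ loc 1 := fun e => absurd (loc.injective e) (by decide)
  have hgen : Subgroup.closure ((A : Set H') ∪ {t}) = ⊤ := by
    rw [← Subgroup.map_injective (C.Hk (j + 2 + 1)).subtype_injective |>.eq_iff, ← MonoidHom.range_eq_map,
      Subgroup.range_subtype]
    set T := Subgroup.closure ((A : Set H') ∪ {t})
    refine le_antisymm (Subgroup.map_subtype_le _) (C.Hk_le fun i h hi x => ?_)
    by_cases hik : i + 2 ≤ j + 2
    · exact ⟨⟨_, C.Hk_mono (by omega) (C.U_mem h hik x)⟩,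
        Subgroup.subset_closure (Or.inl (C.U_mem h hik x)), rfl⟩
    obtain rfl : i = j + 1 := by omega
    refine ⟨Y (bB hstar x), ?_, C.Ψ_bB hw x⟩
    rw [show bB hstar x = bA hstar (w2 hstar) * bB hstar (w2 hstar) * bA hstar x *
      (bA hstar (w2 hstar) * bB hstar (w2 hstar))⁻¹ by rw [conj_blocks, mul_inv_cancel_right]]
    have hA' : ∀ z, Y (bA hstar z) ∈ T := fun z => Subgroup.subset_closure (Or.inl (hYA z))
    have ht' : Y (bB hstar (w2 hstar)) ∈ T := Subgroup.subset_closure (Or.inr rfl)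
    have hg' : Y (bA hstar (w2 hstar) * bB hstar (w2 hstar)) ∈ T := by rw [map_mul]; exact mul_mem (hA' _) ht'
    rw [map_mul, map_mul _ _ (bA hstar x), map_inv]
    exact mul_mem (mul_mem hg' (hA' x)) (inv_mem hg')
  let D : CoverData H' (Cfsg.SU (j + 2 + 1) F q) (UVec (j + 2 + 1) hstar) :=
    coverData π' hF (by omega) a₀ A t
      (fun x hx h1 => Subtype.ext (hgood.1 x.1 hx (by rw [← hπ', h1, map_one])))
      hmap
      (by
        show herm a₀.1 (act (π' t) a₀.1) = 0
        rw [hta, herm_single_left, Pi.single_eq_of_ne hne, mul_zero])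
      (fun g h1 h2 => by
        have h2' : act g (Pi.single (loc 1) 1) = Pi.single (loc 1) 1 := by
          have : act g (act (π' t) a₀.1) = act (π' t) a₀.1 := h2
          rwa [hta] at this
        have hg : ι g ∈ Sk n q (j + 1) := mem_Sk.2 fun i hi => by
          rcases eq_or_lt_of_le hi with e | hlt
          · rw [show i = Fin.castLE hkn (loc 1) from Fin.ext (by rw [Fin.val_castLE]; exact e.symm),
              ← incl_mulVec_single hkn, act_inclHom, h2']
          · exact mem_Sk.1 ((hfixA g).1 h1) i hlt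
        rw [show j + 1 = j + 2 - 1 by omega, ← hgood'.2] at hg
        obtain ⟨x, hx, hxg⟩ := hg
        have hc : Commute x (C.Ψ j hw (bB hstar (w2 hstar))) := by
          have : C.Hk (j + 2 - 1) ≤ Subgroup.centralizer {C.Ψ j hw (bB hstar (w2 hstar))} :=
            C.Hk_le fun i h hi y => Subgroup.mem_centralizer_singleton_iff.2 (by
              rw [C.Ψ_bB]
              exact (C.U_commute h (by omega) (by omega) y (w2 hstar)).eq)
          exact Subgroup.mem_centralizer_singleton_iff.1 (this hx)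
        refine ⟨⟨x, C.Hk_mono (by omega) hx⟩, C.Hk_mono (by omega) hx,
          inclHom_injective hstar hkn ((hπ' _).trans hxg), ?_⟩
        show (C.Ψ j hw (bB hstar (w2 hstar)))⁻¹ * x * C.Ψ j hw (bB hstar (w2 hstar)) ∈ C.Hk (j + 2)
        rw [mul_assoc, hc.eq, inv_mul_cancel_left]
        exact C.Hk_mono (by omega) hx)
      ⟨Y (bA hstar (w2 hstar * w2 hstar)), hYA _, by
        rw [← map_mul, ← map_mul, back_three]
        exact hYA _⟩
      hgen
  have htri : D.TriOK := by
    refine triOK_coverData D rfl hF (by omega) ?_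
    refine ⟨((t * Y (bA hstar (w2 hstar)) * t : H') : H' ⧸ D.A),
      ⟨t * Y (bA hstar (w2 hstar)), (D.mk_mul_mem t (hYA _)).symm, rfl⟩, D.E_symm ?_⟩
    refine ⟨Y (bA hstar (w2 hstar)), (QuotientGroup.eq.2 (by rw [inv_one, one_mul]; exact hYA _) :
      ((1 : H') : H' ⧸ D.A) = _), QuotientGroup.eq.2 ?_⟩
    set g := (bB hstar (w2 hstar) * bA hstar (w2 hstar) * bB hstar (w2 hstar))⁻¹ *
      (bA hstar (w2 hstar) * bB hstar (w2 hstar)) with hg
    have hfix : act g (Pi.single 2 (1 : F)) = Pi.single 2 1 := by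
      rw [hg, act_mul, act_mul, act_bB_two, act_bA_one]
      have e : act (bB hstar (w2 hstar) * bA hstar (w2 hstar) * bB hstar (w2 hstar)) (Pi.single 2 (1 : F)) =
          Pi.single 0 1 := by rw [act_mul, act_mul, act_bB_two, act_bA_one, act_bB_zero]
      conv_lhs => arg 2; rw [← e]
      rw [act_inv_act]
    have hmem : g ∈ Sk 3 q 2 := mem_Sk.2 fun i hi => by
      rw [show i = 2 from Fin.ext (by have := i.isLt; omega)]; exact hfix
    rw [← range_inclHom (q := q) hstar (by norm_num : 2 ≤ 3), ← blk_castLE hstar,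
      ← seg_zero (by norm_num : 0 + 2 ≤ 3)] at hmem
    obtain ⟨x, hx⟩ := hmem
    show (t * Y (bA hstar (w2 hstar)) * t)⁻¹ * (Y (bA hstar (w2 hstar)) * t) ∈ A
    rw [← map_mul, ← map_mul, ← map_mul, ← map_inv, ← map_mul, ← hg, ← hx]
    exact hYA x
  have hbij : Function.Bijective D.π := by
    rcases eq_or_lt_of_le hk with hk3 | hk4
    swap
    · exact bijective_of_squares D rfl htri hF (by omega) fun a b v v' h1 h2 h3 h4 =>
        agree_all D rfl htri hF (by omega) (Or.inl (by omega)) h1 h2 h3 h4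
    obtain rfl : j = 1 := by omega
    refine bijective_four D rfl hF (hbase.resolve_right (by omega)) htri fun a b v v' y hy hay hyv hyv' ⟨c, d, hbd⟩ hav hvb hav' hvb' => ?_
    -- move to the standard position
    have hl2 : loc 2 = (3 : Fin 4) := Fin.ext rfl
    have hl1 : loc 1 = (2 : Fin 4) := Fin.ext rfl
    obtain ⟨e2, he2⟩ : ∃ e2 : Fin 4 → F, e2 = Pi.single 2 1 := ⟨_, rfl⟩
    have h22 : herm e2 e2 = 1 := by rw [he2, herm_single_left, Pi.single_eq_same]; simp
    obtain ⟨m, hm⟩ := exists_move hstar hF (on_two a.2 hy hay)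
      (on_two (a := a₀.1) (b := e2) a₀.2 h22
        (by show herm (Pi.single (loc 2) (1 : F)) e2 = 0; rw [he2, hl2]; simp [herm_single_left]))
      (by norm_num)
    have hma : m • a = a₀ := Subtype.ext (hm 0)
    have hmy : act m y = e2 := hm 1
    have hlow : ∀ w : UVec 4 hstar, herm a.1 w.1 = 0 → herm y w.1 = 0 → (m • w).1 2 = 0 ∧ (m • w).1 3 = 0 := by
      intro w h1 h2
      rw [← herm_act hstar m, hmy] at h2
      rw [← herm_act hstar m, show act m a.1 = a₀.1 from congrArg Subtype.val hma] at h1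
      rw [show a₀.1 = Pi.single (3 : Fin 4) (1 : F) from congrArg (fun i => Pi.single i (1 : F)) hl2,
        herm_single_left, star_one, one_mul] at h1
      rw [he2, herm_single_left, star_one, one_mul] at h2
      exact ⟨h2, h1⟩
    obtain ⟨hb0, hb1⟩ : (m • b).1 0 = 0 ∧ (m • b).1 1 = 0 := by
      rw [smul_val, hbd, act_add, act_smul, act_smul, hmy,
        show act m a.1 = a₀.1 from congrArg Subtype.val hma,
        show a₀.1 = Pi.single (3 : Fin 4) (1 : F) from congrArg (fun i => Pi.single i (1 : F)) hl2]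
      constructor <;> simp [he2, Pi.single_apply]
    let s : H' := Y (bA hstar (w2 hstar)) * D.t
    let sv : UVec 4 hstar := D.π s • D.a₀
    have hsv : sv.1 = Pi.single 1 1 := by
      show act (π' (Y (bA hstar (w2 hstar)) * Y (bB hstar (w2 hstar)))) (Pi.single (loc 2) 1) = _
      rw [← map_mul Y, hactY _ 2 (Pi.single 0 1) (by rw [act_mul, act_bB_two, act_bA_one]), eMat_single]
      rfl
    have sq : ∀ w : UVec 4 hstar, w.1 2 = 0 → w.1 3 = 0 → D.Agree D.a₀ (m • b) sv w := by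
      intro w w2' w3
      have hw1 : herm ![w.1 0, w.1 1] ![w.1 0, w.1 1] = (1 : F) := by
        refine Eq.trans ?_ w.2
        simp [herm, dotProduct, Fin.sum_univ_two, Fin.sum_univ_four, w2', w3]
      have hb23 : herm ![(m • b).1 2, (m • b).1 3] ![(m • b).1 2, (m • b).1 3] = (1 : F) := by
        refine Eq.trans ?_ (m • b).2
        simp [herm, dotProduct, Fin.sum_univ_two, Fin.sum_univ_four, hb0, hb1]
      have h11 : herm (Pi.single 1 (1 : F)) (Pi.single (1 : Fin 2) (1 : F)) = 1 := by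
        rw [herm_single_left, Pi.single_eq_same]; simp
      obtain ⟨x, hx⟩ := exists_move hstar hF (on_one h11) (on_one hw1) (by norm_num)
      obtain ⟨z, hz⟩ := exists_move hstar hF (on_one h11) (on_one hb23) (by norm_num)
      let g : H' := ⟨C.U 0 (by omega) x, C.U_mem _ (by omega) x⟩
      let h : H' := Y (bB hstar z)
      have hπg : π' g = blk hstar (seg 2 0 (by omega)) x := by
        refine inclHom_injective hstar hkn ((hπ' _).trans ?_)
        show blk hstar (seg 2 0 _) x = _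
        rw [← blk_castLE hstar, blk_blk]
        rfl
      have key := D.agree_of_comm (y := Y (bA hstar (w2 hstar))) (g := g) (h := h) (hYA _)
        (C.U_mem _ (by omega) x)
        (Subtype.ext (by
          show C.U 0 _ x * C.Ψ 1 hw (bB hstar z) = C.Ψ 1 hw (bB hstar z) * C.U 0 _ x
          rw [C.Ψ_bB]
          exact (C.U_commute _ _ (by omega) x z).eq))
        (by
          show (Y _ * Y _)⁻¹ * Y _ * (Y _ * Y _) ∈ A
          rw [← map_mul, ← map_inv, ← map_mul, ← map_mul, mul_assoc, ← conj_blocks, inv_mul_cancel_left]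
          exact hYA z)
      have eb : D.π h • D.a₀ = m • b := Subtype.ext (by
        show act (π' (Y (bB hstar z))) (Pi.single (loc 2) 1) = _
        have ez : act (bB hstar z) (Pi.single 2 (1 : F)) = ![0, (m • b).1 2, (m • b).1 3] := by
          have := act_blk_single hstar (seg 2 1 (by norm_num : 1 + 2 ≤ 3)) z 1
          rw [show act z (Pi.single 1 1) = ![(m • b).1 2, (m • b).1 3] from hz 0, eB_vec] at this
          simpa [bB, seg21] using this
        rw [hactY _ 2 _ ez, show (![0, (m • b).1 2, (m • b).1 3] : Fin 3 → F) =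
          (m • b).1 2 • Pi.single 1 1 + (m • b).1 3 • Pi.single 2 1 by funext i; fin_cases i <;> simp]
        simp only [Matrix.mulVec_add, Matrix.mulVec_smul, eMat_single, hl1, hl2]
        funext i
        fin_cases i <;> simp [hb0, hb1])
      have ew : D.π (g * s) • D.a₀ = w := by
        rw [map_mul, mul_smul]
        refine Subtype.ext ?_
        show act (π' g) sv.1 = _
        rw [hsv, hπg, show (1 : Fin 4) = seg 2 0 (by omega : 0 + 2 ≤ 1 + 2 + 1) 1 from rfl, act_blk_single,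
          show act x (Pi.single 1 1) = ![w.1 0, w.1 1] from hx 0]
        funext i
        fin_cases i <;>
          simp [eMat, seg, Matrix.mulVec, dotProduct, Fin.sum_univ_two, Fin.ext_iff] <;>
          first | exact w2'.symm | exact w3.symm | rfl
      rw [eb, ew] at key
      exact key
    obtain ⟨v2, v3⟩ := hlow v hav hyv
    obtain ⟨v2', v3'⟩ := hlow v' hav' hyv'
    have o1 : Orth D.a₀ sv := by
      show herm (Pi.single (loc 2) (1 : F)) sv.1 = 0
      rw [hsv, hl2]; simp [herm_single_left]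
    have o2 : Orth sv (m • b) := by
      show herm sv.1 (m • b).1 = 0
      rw [hsv, herm_single_left, hb1, mul_zero]
    have := D.agree_trans (w := sv) o1 o2 (D.agree_symm (sq _ v2 v3)) (sq _ v2' v3')
    have h' := D.agree_smul this m⁻¹
    rwa [inv_smul_smul, inv_smul_smul, inv_smul_smul, show D.a₀ = m • a from hma.symm, inv_smul_smul] at h'
  refine ⟨fun x hx h1 => ?_, ?_⟩
  · have : (⟨x, hx⟩ : H') = 1 := hbij.1 (by
      show π' ⟨x, hx⟩ = π' 1
      rw [map_one]
      exact inclHom_injective hstar hkn ((hπ' _).trans (h1.trans (map_one ι).symm)))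
    exact congrArg Subtype.val this
  · refine le_antisymm C.map_Hk_le fun g hg => ?_
    rw [← hιr] at hg
    obtain ⟨g', rfl⟩ := hg
    obtain ⟨x, hx⟩ := hbij.2 g'
    exact ⟨x.1, x.2, by rw [← hπ']; exact congrArg ι hx⟩

theorem good_all (hn : 3 ≤ n) (hbase : 4 ≤ q ∨ C.Good 4) : ∀ k, 2 ≤ k → k ≤ n → C.Good k := by
  intro k
  induction k using Nat.strong_induction_on with
  | _ k ih =>
    intro h2 hkn
    rcases (by omega : k = 2 ∨ k = 3 ∨ 4 ≤ k) with rfl | rfl | h4
    · exact C.good_two hn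
    · exact C.good_three hF hq hn
    · by_cases hk4 : k = 4 ∧ q < 4
      · obtain ⟨rfl, hq4⟩ := hk4
        exact hbase.resolve_left (by omega)
      obtain ⟨l, rfl⟩ : ∃ l, k = l + 1 := ⟨k - 1, by omega⟩
      exact C.step hF hq (by omega) hkn (by omega) (ih l (by omega) (by omega) (by omega))
        (ih (l - 1) (by omega) (by omega) (by omega))

/-- The chain spans a quotient of the special unitary group. -/
theorem exists_hom (hn : 3 ≤ n) (hbase : 4 ≤ q ∨ C.Good 4) : ∃ f : Cfsg.SU n F q →* G, ∀ i, i + 2 ≤ n → (C.u i).range ≤ f.range := by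
  obtain ⟨h1, h2⟩ := C.good_all hF hq hn hbase n (by omega) le_rfl
  let r : ↥(C.Hk n) →* Cfsg.SU n F q := π.comp (C.Hk n).subtype
  have hr : Function.Bijective r := by
    refine ⟨(injective_iff_map_eq_one _).2 fun x hx => Subtype.ext (h1 x.1 x.2 hx), fun g => ?_⟩
    obtain ⟨x, hx, hxg⟩ : g ∈ (C.Hk n).map π := by rw [h2, Sk_top le_rfl]; exact Subgroup.mem_top g
    exact ⟨⟨x, hx⟩, hxg⟩
  let e := MulEquiv.ofBijective r hr
  refine ⟨((MonoidHom.fst G _).comp (C.Hk n).subtype).comp e.symm.toMonoidHom, fun i h => ?_⟩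
  rintro _ ⟨x, rfl⟩
  refine ⟨e ⟨C.U i h x, C.U_mem h h x⟩, ?_⟩
  simp only [MonoidHom.comp_apply, MulEquiv.coe_toMonoidHom, MulEquiv.symm_apply_apply]
  rfl

end Chain

end Cfsg.Agent.Small.Phan
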