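import Cfsg.Agent.Lib.Small.Phan.Standard
import Cfsg.Agent.Lib.Small.PSL2
import Cfsg.Agent.Lib.Classical.LinBasic

/-!
Two plane groups spanning the three-dimensional group, with commuting tori, form a standard pair.
-/

set_option autoImplicit false
set_option linter.unusedSectionVars false
set_option linter.style.haveILetI false

namespace Cfsg.Agent.Small.Phan

open Matrix Cfsg.Agent.Small.Unitary Cfsg.Agent.Small.UCover Cfsg.Agent.Small.SUPres

universe u v

variable {F : Type u} [Field F] [Fintype F] [StarRing F] {q : ℕ} (hstar : ∀ x : F, star x = x ^ q)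

theorem on_empty : ON (![] : Fin 0 → Fin 3 → F) := fun i => i.elim0

/-- Totally isotropic subspaces in dimension three are lines. -/
theorem iso_line {z w : Fin 3 → F} (hz : z ≠ 0) (hzz : herm z z = 0) (hww : herm w w = 0) (hzw : herm z w = 0) :
    ∃ c : F, w = c • z := by
  have hwz : herm w z = 0 := herm_comm_zero hzw
  have hb := isotropic_bound (on_empty (F := F)) (Submodule.span F {z, w})
    (fun x hx y hy => by
      obtain ⟨a, b, rfl⟩ := Submodule.mem_span_pair.1 hx
      obtain ⟨c, d, rfl⟩ := Submodule.mem_span_pair.1 hy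
      simp only [herm_add_left, herm_add_right, herm_smul_left, herm_smul_right, hzz, hww, hzw, hwz]
      ring)
    (fun x _ i => i.elim0)
  have hle : Submodule.span F {z} ≤ Submodule.span F {z, w} := Submodule.span_mono (by simp)
  have he := Submodule.eq_of_le_of_finrank_le hle (by rw [finrank_span_singleton hz]; omega)
  have hw : w ∈ Submodule.span F {z} := he ▸ Submodule.subset_span (by simp)
  obtain ⟨c, hc⟩ := Submodule.mem_span_singleton.1 hw
  exact ⟨c, hc.symm⟩

theorem exists_unit_smul (hst : ∀ x : F, star x = x ^ q) (hF : Fintype.card F = q ^ 2) {v : Fin 3 → F}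
    (hv : herm v v ≠ 0) : ∃ c : F, c ≠ 0 ∧ herm (c • v) (c • v) = 1 := by
  obtain ⟨c, hc0, hc⟩ := Hermitian.exists_norm hst hF (inv_ne_zero hv) (by rw [star_inv₀, star_herm])
  exact ⟨c, hc0, by rw [herm_smul_left, herm_smul_right, ← mul_assoc, hc, inv_mul_cancel₀ hv]⟩

theorem eq_zero_of_herm {v : Fin 3 → F} (h : ∀ u, herm u v = 0) : v = 0 := by
  funext i
  simpa [herm_single_left] using h (Pi.single i 1)

/-! ### Involutions in even characteristic -/

/-- `g` is a transvection with centre `z`. -/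
def Centre (g : Cfsg.SU 3 F q) (z : Fin 3 → F) : Prop :=
  z ≠ 0 ∧ herm z z = 0 ∧ (∀ u, ∃ c : F, act g u = u + c • z) ∧ (∀ u, herm z u = 0 → act g u = u) ∧
    ∃ w, z = act g w - w

include hstar in
theorem exists_centre (h2 : (2 : F) = 0) {g : Cfsg.SU 3 F q} (hgg : g * g = 1) (hg : g ≠ 1) :
    ∃ z, Centre g z := by
  obtain ⟨w, hw⟩ : ∃ w, act g w - w ≠ 0 := by
    by_contra h
    push Not at h
    exact hg (eq_one_of_act fun k => sub_eq_zero.1 (h _))
  have hadj : ∀ u v, herm (act g u) v = herm u (act g v) := fun u v => by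
    conv_lhs => rw [← act_one (q := q) v, ← hgg, act_mul, herm_act hstar]
  have hiso : ∀ u v, herm (act g u - u) (act g v - v) = 0 := fun u v => by
    rw [herm_sub_left, herm_sub_right, herm_sub_right, herm_act hstar, hadj u v]
    linear_combination (herm u v - herm u (act g v)) * h2
  have hline : ∀ u, ∃ c : F, act g u = u + c • (act g w - w) := fun u => by
    obtain ⟨c, hc⟩ := iso_line hw (hiso w w) (hiso u u) (hiso w u)
    exact ⟨c, by rw [← hc]; abel⟩
  refine ⟨act g w - w, hw, hiso w w, hline, fun u hu => sub_eq_zero.1 (eq_zero_of_herm fun v => ?_), w, rfl⟩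
  obtain ⟨c, hc⟩ := hline v
  rw [herm_sub_right, ← hadj, hc, herm_add_left, herm_smul_left, hu]
  ring

include hstar in
theorem Centre.fix_self {g : Cfsg.SU 3 F q} {z : Fin 3 → F} (h : Centre g z) : act g z = z := h.2.2.2.1 z h.2.1

include hstar in
theorem Centre.prop_of_commute {g g' : Cfsg.SU 3 F q} {z z' : Fin 3 → F} (h : Centre g z) (h' : Centre g' z')
    (hc : Commute g g') : ∃ c : F, c ≠ 0 ∧ z' = c • z := by
  obtain ⟨hz, hzz, hline, -, w, hw⟩ := h
  obtain ⟨hz', hzz', hline', -, w', hw'⟩ := h'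
  have e : act g' z = act g (act g' w) - act g' w := by
    rw [← act_mul, hc.eq, act_mul, ← act_sub, ← hw]
  obtain ⟨a, ha⟩ := hline (act g' w)
  obtain ⟨b, hb⟩ := hline' z
  rw [ha, add_sub_cancel_left, hb] at e
  by_cases hb0 : b = 0
  · rw [hb0, zero_smul, add_zero] at hb
    have : herm z z' = 0 := by
      rw [hw', herm_sub_right]
      conv_lhs => arg 1; rw [← hb, herm_act hstar]
      exact sub_self _
    obtain ⟨c, hc'⟩ := iso_line hz hzz hzz' this
    exact ⟨c, fun hc0 => hz' (by rw [hc', hc0, zero_smul]), hc'⟩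
  · have e' : z' = (b⁻¹ * (a - 1)) • z := by
      have : b • z' = (a - 1) • z := by rw [sub_smul, one_smul, ← e]; abel
      rw [mul_smul, ← this, smul_smul, inv_mul_cancel₀ hb0, one_smul]
    exact ⟨_, fun hc0 => hz' (by rw [e', hc0, zero_smul]), e'⟩

include hstar in
theorem Centre.commute {g g' : Cfsg.SU 3 F q} {z z' : Fin 3 → F} (h : Centre g z) (h' : Centre g' z')
    {k : F} (hk : k ≠ 0) (e : z' = k • z) : Commute g g' := by
  have h1 := h.fix_self hstar
  have h2 : act g' z = z := by
    have := h'.fix_self hstar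
    rw [e, act_smul] at this
    exact smul_right_injective _ hk this
  refine eq_of_act fun u => ?_
  obtain ⟨a, ha⟩ := h.2.2.1 u
  obtain ⟨b, hb⟩ := h'.2.2.1 u
  rw [act_mul, act_mul, hb, ha, act_add, act_add, act_smul, act_smul, ha, hb, h2, e, act_smul, h1]
  abel

include hstar in
theorem exists_fixed_even {L : Type*} [Field L] (hL2 : (2 : L) = 0) (h2 : (2 : F) = 0)
    (hF : Fintype.card F = q ^ 2) (ρ : Matrix.SpecialLinearGroup (Fin 2) L →* Cfsg.SU 3 F q)
    (hρ : Function.Injective ρ) : ∃ a, herm a a = 1 ∧ ∀ A, act (ρ A) a = a := by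
  classical
  have hU : ∀ x : L, PSL2.uS x * PSL2.uS x = 1 := fun x => by
    rw [← PSL2.uS_add, show x + x = 0 by linear_combination x * hL2]
    apply Subtype.ext
    ext i j; fin_cases i <;> fin_cases j <;> simp [PSL2.uS]
  have hV : ∀ x : L, PSL2.vS x * PSL2.vS x = 1 := fun x => by
    apply Subtype.ext
    rw [PSL2.val_mul]
    ext i j; fin_cases i <;> fin_cases j <;> simp [PSL2.vS, Matrix.mul_apply, Fin.sum_univ_two]
    linear_combination x * hL2
  have hUU : ∀ x y : L, Commute (PSL2.uS x) (PSL2.uS y) := fun x y => by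
    show _ * _ = _ * _
    rw [← PSL2.uS_add, ← PSL2.uS_add, add_comm]
  have hVV : ∀ x y : L, Commute (PSL2.vS x) (PSL2.vS y) := fun x y => by
    apply Subtype.ext
    rw [PSL2.val_mul, PSL2.val_mul]
    ext i j; fin_cases i <;> fin_cases j <;> simp [PSL2.vS, Matrix.mul_apply, Fin.sum_univ_two, add_comm]
  have hne : ¬ Commute (PSL2.uS (1 : L)) (PSL2.vS 1) := fun h => by
    have := congrArg (fun A : Matrix.SpecialLinearGroup (Fin 2) L => A.1 0 0) h.eq
    simp only [PSL2.val_mul] at this
    simp [PSL2.uS, PSL2.vS, Matrix.mul_apply, Fin.sum_univ_two] at this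
  have hu1 : ρ (PSL2.uS 1) ≠ 1 := fun h => hne (by
    rw [hρ (h.trans ρ.map_one.symm)]; exact Commute.one_left _)
  have hv1 : ρ (PSL2.vS 1) ≠ 1 := fun h => hne (by
    rw [hρ (h.trans ρ.map_one.symm)]; exact Commute.one_right _)
  obtain ⟨z, hz⟩ := exists_centre hstar h2 (by rw [← map_mul, hU, map_one]) hu1
  obtain ⟨z', hz'⟩ := exists_centre hstar h2 (by rw [← map_mul, hV, map_one]) hv1
  have hnp : ∀ k : F, k ≠ 0 → z' ≠ k • z := fun k hk e => hne (by
    have := (hz.commute hstar hz' hk e).eq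
    rw [← map_mul, ← map_mul] at this
    exact hρ this)
  obtain ⟨a, ha, ha0⟩ : ∃ a ∈ perpF ![z, z'], a ≠ 0 := by
    by_contra hno
    push Not at hno
    have h := finrank_perpF ![z, z']
    rw [show perpF ![z, z'] = ⊥ from eq_bot_iff.2 fun x hx => hno x hx, finrank_bot] at h
    omega
  have haz : herm z a = 0 := ha 0
  have haz' : herm z' a = 0 := ha 1
  have haa : herm a a ≠ 0 := fun h => by
    obtain ⟨c, hc⟩ := iso_line hz.1 hz.2.1 h haz
    have hc0 : c ≠ 0 := fun hc0 => ha0 (by rw [hc, hc0, zero_smul])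
    obtain ⟨d, hd⟩ := iso_line hz'.1 hz'.2.1 h haz'
    have hd0 : d ≠ 0 := fun hd0 => ha0 (by rw [hd, hd0, zero_smul])
    exact hnp (d⁻¹ * c) (mul_ne_zero (inv_ne_zero hd0) hc0) (by
      rw [mul_smul, ← hc, hd, smul_smul, inv_mul_cancel₀ hd0, one_smul])
  obtain ⟨c, hc0, hc⟩ := exists_unit_smul hstar hF haa
  refine ⟨c • a, hc, ?_⟩
  have key : ∀ (g₀ g : Matrix.SpecialLinearGroup (Fin 2) L) (y : Fin 3 → F), Centre (ρ g₀) y → herm y a = 0 →
      g * g = 1 → Commute g₀ g → act (ρ g) a = a := fun g₀ g y hy hya hgg hcomm => by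
    by_cases h1 : ρ g = 1
    · rw [h1, act_one]
    obtain ⟨y', hy'⟩ := exists_centre hstar h2 (by rw [← map_mul, hgg, map_one]) h1
    obtain ⟨k, -, hk⟩ := hy.prop_of_commute hstar hy' (hcomm.map ρ)
    exact hy'.2.2.2.1 a (by rw [hk, herm_smul_left, hya, mul_zero])
  intro A
  rw [act_smul]
  congr 1
  have hA : A ∈ (fixS q ({a} : Set (Fin 3 → F))).comap ρ := by
    have htop : (fixS q ({a} : Set (Fin 3 → F))).comap ρ = ⊤ := by
      rw [eq_top_iff, ← Classical.sl_closure_transvections, Subgroup.closure_le]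
      rintro _ ⟨i, j, hij, c, rfl⟩
      refine Subgroup.mem_comap.2 fun b hb => ?_
      rw [Set.mem_singleton_iff.1 hb]
      fin_cases i <;> fin_cases j
      · exact absurd rfl hij
      · rw [show Matrix.SpecialLinearGroup.transvection _ c = PSL2.uS c from Subtype.ext (by
          rw [Matrix.SpecialLinearGroup.transvection_coe]
          ext r s; fin_cases r <;> fin_cases s <;> simp [PSL2.uS])]
        exact key _ _ z hz haz (hU c) (hUU 1 c)
      · rw [show Matrix.SpecialLinearGroup.transvection _ c = PSL2.vS c from Subtype.ext (by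
          rw [Matrix.SpecialLinearGroup.transvection_coe]
          ext r s; fin_cases r <;> fin_cases s <;> simp [PSL2.vS])]
        exact key _ _ z' hz' haz' (hV c) (hVV 1 c)
      · exact absurd rfl hij
    rw [htop]; exact Subgroup.mem_top A
  exact hA a rfl

/-! ### The fixed vector -/

theorem fixS_two : fixS q ({Pi.single 2 1} : Set (Fin 3 → F)) = (bA hstar).range := by
  refine le_antisymm (fun g hg => ?_) ?_
  · rw [← suBlock_left hstar]
    refine Subgroup.subset_closure fun k hk => ?_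
    obtain rfl : k = 2 := by fin_cases k <;> simp at hk ⊢
    have e : act g (Pi.single 2 (1 : F)) = Pi.single 2 1 := hg _ rfl
    have c : ∀ j, g.1.1 j 2 = (Pi.single 2 (1 : F) : Fin 3 → F) j := fun j => by
      rw [← e]; simp [act, Matrix.mulVec_single]
    have r : ∀ j, g.1.1 2 j = (Pi.single 2 (1 : F) : Fin 3 → F) j := fun j => by
      have h := congrFun (congrFun (conjTranspose_mul_self hstar g) 2) j
      simpa [Matrix.mul_apply, Fin.sum_univ_three, c, Matrix.one_apply, Pi.single_apply, eq_comm] using h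
    exact ⟨by rw [c]; simp, fun l hl => ⟨by rw [r, Pi.single_eq_of_ne hl], by rw [c, Pi.single_eq_of_ne hl]⟩⟩
  · rintro _ ⟨x, rfl⟩ b hb
    rw [Set.mem_singleton_iff.1 hb, act_bA_two]

theorem fixS_zero : fixS q ({Pi.single 0 1} : Set (Fin 3 → F)) = (bB hstar).range := by
  refine le_antisymm (fun g hg => ?_) ?_
  · rw [← suBlock_right hstar]
    refine Subgroup.subset_closure fun k hk => ?_
    obtain rfl : k = 0 := by fin_cases k <;> simp at hk ⊢
    have e : act g (Pi.single 0 (1 : F)) = Pi.single 0 1 := hg _ rfl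
    have c : ∀ j, g.1.1 j 0 = (Pi.single 0 (1 : F) : Fin 3 → F) j := fun j => by
      rw [← e]; simp [act, Matrix.mulVec_single]
    have r : ∀ j, g.1.1 0 j = (Pi.single 0 (1 : F) : Fin 3 → F) j := fun j => by
      have h := congrFun (congrFun (conjTranspose_mul_self hstar g) 0) j
      simpa [Matrix.mul_apply, Fin.sum_univ_three, c, Matrix.one_apply, Pi.single_apply, eq_comm] using h
    exact ⟨by rw [c]; simp, fun l hl => ⟨by rw [r, Pi.single_eq_of_ne hl], by rw [c, Pi.single_eq_of_ne hl]⟩⟩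
  · rintro _ ⟨x, rfl⟩ b hb
    rw [Set.mem_singleton_iff.1 hb, act_bB_zero]

include hstar in
theorem exists_to (hF : Fintype.card F = q ^ 2) {a : Fin 3 → F} (ha : herm a a = 1) :
    ∃ g : Cfsg.SU 3 F q, act g (Pi.single 2 (1 : F)) = a := by
  have h1 : herm (Pi.single 2 (1 : F) : Fin 3 → F) (Pi.single 2 1) = 1 := by simp [herm_single_left]
  obtain ⟨g, hg⟩ := exists_move hstar hF (on_one h1) (on_one ha) (by norm_num : 1 < 3)
  exact ⟨g, hg 0⟩

include hstar in
theorem fixS_eq_map (g : Cfsg.SU 3 F q) {a : Fin 3 → F} (hg : act g (Pi.single 2 (1 : F)) = a) :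
    fixS q ({a} : Set (Fin 3 → F)) = (bA hstar).range.map (MulAut.conj g).toMonoidHom := by
  rw [← fixS_two hstar, ← fixS_image, Set.image_singleton, hg]

include hstar in
theorem exists_fixed_odd (hF : Fintype.card F = q ^ 2) (hq : 3 ≤ q) (h2 : (2 : F) ≠ 0)
    (θ : Cfsg.SU 2 F q →* Cfsg.SU 3 F q) (hθ : Function.Injective θ) :
    ∃ a, herm a a = 1 ∧ ∀ x, act (θ x) a = a := by
  classical
  obtain ⟨z, hzv⟩ : ∃ z : Cfsg.SU 2 F q, ∀ v, act z v = -v := ⟨_, sq_w2 hstar⟩
  have hzc : ∀ x, z * x = x * z := fun x => eq_of_act fun v => by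
    rw [act_mul, act_mul, hzv, hzv, act_neg']
  have hzz : z * z = 1 := eq_of_act fun v => by rw [act_mul, hzv, hzv, neg_neg, act_one]
  have hz1 : z ≠ 1 := fun h => h2 (by
    have := congrFun (hzv (Pi.single 0 1)) 0
    rw [h, act_one] at this
    simp at this
    linear_combination this)
  set t := θ z with ht
  have htt : ∀ v, act t (act t v) = v := fun v => by rw [← act_mul, ← map_mul, hzz, map_one, act_one]
  -- the fixed space is not totally isotropic
  obtain ⟨a₀, ha₀, ha₀'⟩ : ∃ v, act t v = v ∧ herm v v ≠ 0 := by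
    by_contra hno
    push Not at hno
    have hiso : ∀ u v, act t u = u → act t v = v → herm u v = 0 := by
      intro u v hu hv
      by_contra huv
      obtain ⟨c, hc⟩ := Hermitian.exists_trace_ne hstar hF huv
      apply hc
      have := hno (c • u + v) (by rw [act_add, act_smul, hu, hv])
      rw [herm_add_left, herm_add_right, herm_add_right, herm_smul_left, herm_smul_left, herm_smul_right,
        herm_smul_right, hno u hu, hno v hv, ← star_herm u v] at this
      rw [star_mul', star_star]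
      linear_combination this
    have hfix0 : ∀ v, act t v = v → v = 0 := fun v hv => eq_zero_of_herm fun u => by
      have h1 := hiso (u + act t u) v (by rw [act_add, htt, add_comm]) hv
      rw [herm_add_left] at h1
      have h3 : herm (act t u) v = herm u v := by conv_lhs => rw [← hv, herm_act hstar]
      rw [h3] at h1
      exact (mul_eq_zero.1 (by linear_combination h1 : (2 : F) * herm u v = 0)).resolve_left h2
    have hneg : ∀ v, act t v = -v := fun v => by
      have := hfix0 (v + act t v) (by rw [act_add, htt, add_comm])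
      exact eq_neg_of_add_eq_zero_right this
    have hm : t.1.1 = -1 := Matrix.ext_of_mulVec_single fun i => by
      rw [Matrix.neg_mulVec, Matrix.one_mulVec]; exact hneg _
    have hd := t.1.2
    rw [hm, Matrix.det_neg, Matrix.det_one] at hd
    norm_num at hd
    exact h2 (by linear_combination -hd)
  obtain ⟨c, hc0, hc⟩ := exists_unit_smul hstar hF ha₀'
  have hta : act t (c • a₀) = c • a₀ := by rw [act_smul, ha₀]
  generalize c • a₀ = a at hc hta
  obtain ⟨g, hg⟩ := exists_to hstar hF hc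
  obtain ⟨_, ⟨x, rfl⟩, hx⟩ : t ∈ (bA hstar).range.map (MulAut.conj g).toMonoidHom := by
    rw [← fixS_eq_map hstar g hg]; exact fun b hb => by rw [Set.mem_singleton_iff.1 hb, hta]
  have hx2 : x * x = 1 := blk_injective hstar _ ((MulAut.conj g).injective (by
    show (MulAut.conj g).toMonoidHom (bA hstar (x * x)) = MulAut.conj g (bA hstar 1)
    rw [map_mul, map_mul, hx, map_one, map_one, ht, ← map_mul, hzz, map_one]))
  obtain ⟨x11, x10, xn⟩ := entries hstar x
  have hinv : x⁻¹ = x := inv_eq_of_mul_eq_one_right hx2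
  have hxt : x.1.1ᴴ = x.1.1 := by
    have h := congrArg (· * x.1.1) (conjTranspose_mul_self hstar x)
    simp only [Matrix.one_mul, Matrix.mul_assoc] at h
    rw [show x.1.1 * x.1.1 = (x * x).1.1 from rfl, hx2] at h
    simpa using h
  have e00 : star (x.1.1 0 0) = x.1.1 0 0 := congrFun (congrFun hxt 0) 0
  have e01 : star (x.1.1 1 0) = x.1.1 0 1 := congrFun (congrFun hxt 0) 1
  have h01 : x.1.1 0 1 = 0 := by
    rw [x10, star_neg, star_star] at e01
    exact (mul_eq_zero.1 (by linear_combination -e01 : (2 : F) * x.1.1 0 1 = 0)).resolve_left h2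
  rw [e00] at x11 xn
  rw [h01, star_zero, neg_zero] at x10
  rw [h01, mul_zero, add_zero] at xn
  have hxneg : x.1.1 0 0 = -1 := by
    rcases mul_self_eq_one_iff.1 xn with h | h
    · refine absurd ?_ hz1
      have hx1 : x = 1 := eq_of_mat (by
        ext r s; fin_cases r <;> fin_cases s <;> simp [h, h01, x10, x11])
      refine hθ ?_
      rw [← ht, ← hx, hx1, map_one, map_one, map_one]
    · exact h
  refine ⟨a, hc, ?_⟩
  -- the group fixes the line
  have hline : ∀ v, act t v = v → ∃ k : F, v = k • a := fun v hv => by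
    refine ⟨act g⁻¹ v 2, act_injective g⁻¹ ?_⟩
    have hu : act (bA hstar x) (act g⁻¹ v) = act g⁻¹ v := by
      rw [← hx] at hv
      simp only [MulEquiv.coe_toMonoidHom, MulAut.conj_apply, act_mul] at hv
      conv_rhs => rw [← hv, act_inv_act]
    rw [act_smul, ← hg, act_inv_act]
    obtain ⟨p, q', r, hw⟩ : ∃ p q' r, act g⁻¹ v = ![p, q', r] :=
      ⟨_, _, _, by funext i; fin_cases i <;> rfl⟩
    rw [hw] at hu ⊢
    rw [act_bA_vec] at hu
    have h0 := congrFun hu 0
    have h1 := congrFun hu 1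
    simp [act, Matrix.mulVec, dotProduct, Fin.sum_univ_two, hxneg, h01, x10, x11] at h0 h1
    have p0 : p = 0 := (mul_eq_zero.1 (by linear_combination -h0 : (2 : F) * p = 0)).resolve_left h2
    have q0 : q' = 0 := (mul_eq_zero.1 (by linear_combination -h1 : (2 : F) * q' = 0)).resolve_left h2
    funext i; fin_cases i <;> simp [p0, q0]
  have hsc : ∀ y, ∃ k : F, act (θ y) a = k • a := fun y => hline _ (by
    rw [← act_mul, ht, ← map_mul, hzc, map_mul, act_mul, ← ht, hta])
  choose χ hχ using hsc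
  have hal : ∀ k l : F, k • a = l • a → k = l := fun k l h => by
    have := congrArg (herm a) h
    rwa [herm_smul_right, herm_smul_right, hc, mul_one, mul_one] at this
  let φ : Cfsg.SU 2 F q →* F :=
    { toFun := χ
      map_one' := hal _ _ (by rw [← hχ, map_one, act_one, one_smul])
      map_mul' := fun y y' => hal _ _ (by rw [← hχ, map_mul, act_mul, hχ, act_smul, hχ, smul_smul, mul_comm]) }
  have hnorm : ∀ y, star (χ y) * χ y = 1 := fun y => by
    have := herm_act hstar (θ y) a a
    rwa [hχ, herm_smul_left, herm_smul_right, hc, mul_one] at this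
  have hφ1 : φ.toHomUnits = 1 := norm_char_trivial hstar hF hq _ fun y => Units.ext (by
    rw [Units.val_pow_eq_pow_val, MonoidHom.coe_toHomUnits, Units.val_one, pow_succ, ← hstar]
    exact hnorm y)
  intro y
  rw [hχ, show χ y = 1 from congrArg Units.val (DFunLike.congr_fun hφ1 y), one_smul]

include hstar in
/-- A plane group inside the three-dimensional group is the stabiliser of a norm one vector. -/
theorem exists_fixed (hF : Fintype.card F = q ^ 2) (hq : 3 ≤ q) (θ : Cfsg.SU 2 F q →* Cfsg.SU 3 F q)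
    (hθ : Function.Injective θ) :
    ∃ a, herm a a = 1 ∧ θ.range = fixS q ({a} : Set (Fin 3 → F)) := by
  classical
  obtain ⟨a, ha, hfix⟩ : ∃ a, herm a a = 1 ∧ ∀ x, act (θ x) a = a := by
    by_cases h2 : (2 : F) = 0
    · obtain ⟨L, P, e, -, -, -⟩ := exists_model hstar hF
      have hL2 : (2 : L) = 0 := L.subtype.injective (by rw [map_ofNat, map_zero]; exact h2)
      obtain ⟨a, ha, hfix⟩ := exists_fixed_even hstar hL2 h2 hF (θ.comp e.toMonoidHom) (hθ.comp e.injective)
      exact ⟨a, ha, fun x => by simpa using hfix (e.symm x)⟩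
    · exact exists_fixed_odd hstar hF hq h2 θ hθ
  refine ⟨a, ha, ?_⟩
  haveI : Finite (Cfsg.SU 3 F q) := Subtype.finite
  refine Subgroup.eq_of_le_of_card_ge ?_ (le_of_eq ?_)
  · rintro _ ⟨x, rfl⟩ b hb
    rw [Set.mem_singleton_iff.1 hb, hfix]
  · obtain ⟨g, hg⟩ := exists_to hstar hF ha
    rw [fixS_eq_map hstar g hg, Subgroup.card_map_of_injective (MulAut.conj g).injective,
      ← Nat.card_congr (MonoidHom.ofInjective hθ).toEquiv,
      ← Nat.card_congr (MonoidHom.ofInjective (f := bA (q := q) hstar) (blk_injective hstar _)).toEquiv]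

include hstar in
/-- An element of order `q + 1` fixing a norm one vector fixes nothing else. -/
theorem fixed_line (hF : Fintype.card F = q ^ 2) {a v : Fin 3 → F} (ha : herm a a = 1) {d : Cfsg.SU 3 F q}
    (hd : act d a = a) (hord : orderOf d = q + 1) (hv : act d v = v) : ∃ k : F, v = k • a := by
  classical
  obtain ⟨g, hg⟩ := exists_to hstar hF ha
  obtain ⟨_, ⟨x, rfl⟩, hx⟩ : d ∈ (bA hstar).range.map (MulAut.conj g).toMonoidHom := by
    rw [← fixS_eq_map hstar g hg]; exact fun b hb => by rw [Set.mem_singleton_iff.1 hb, hd]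
  have hxo : orderOf x = q + 1 := by
    rw [← hord, ← hx, ← orderOf_injective ((MulAut.conj g).toMonoidHom.comp (bA hstar))
      ((MulAut.conj g).injective.comp (blk_injective hstar _)) x]
    rfl
  have hu : act (bA hstar x) (act g⁻¹ v) = act g⁻¹ v := by
    rw [← hx] at hv
    simp only [MulEquiv.coe_toMonoidHom, MulAut.conj_apply, act_mul] at hv
    conv_rhs => rw [← hv, act_inv_act]
  refine ⟨act g⁻¹ v 2, act_injective g⁻¹ ?_⟩
  rw [act_smul, ← hg, act_inv_act]
  obtain ⟨s, t, r, hw⟩ : ∃ s t r, act g⁻¹ v = ![s, t, r] := ⟨_, _, _, by funext i; fin_cases i <;> rfl⟩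
  rw [hw] at hu ⊢
  rw [act_bA_vec] at hu
  have h0 := congrFun hu 0
  have h1 := congrFun hu 1
  simp [act, Matrix.mulVec, dotProduct, Fin.sum_univ_two] at h0 h1
  suffices hst0 : s = 0 ∧ t = 0 by
    funext i; fin_cases i <;> simp [hst0.1, hst0.2]
  by_contra hne
  have hdet : (x.1.1 0 0 - 1) * (x.1.1 1 1 - 1) - x.1.1 0 1 * x.1.1 1 0 = 0 := by
    have e1 : ((x.1.1 0 0 - 1) * (x.1.1 1 1 - 1) - x.1.1 0 1 * x.1.1 1 0) * s = 0 := by
      linear_combination (x.1.1 1 1 - 1) * h0 - x.1.1 0 1 * h1
    have e2 : ((x.1.1 0 0 - 1) * (x.1.1 1 1 - 1) - x.1.1 0 1 * x.1.1 1 0) * t = 0 := by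
      linear_combination (x.1.1 0 0 - 1) * h1 - x.1.1 1 0 * h0
    by_contra hD
    exact hne ⟨(mul_eq_zero.1 e1).resolve_left hD, (mul_eq_zero.1 e2).resolve_left hD⟩
  have hd1 := x.1.2
  rw [Matrix.det_fin_two] at hd1
  have hN : (x.1.1 - 1) * (x.1.1 - 1) = 0 := by
    ext i j
    fin_cases i <;> fin_cases j <;> simp [Matrix.mul_apply, Fin.sum_univ_two]
    · linear_combination (x.1.1 0 0 - 1) * (hd1 - hdet) - hdet
    · linear_combination x.1.1 0 1 * (hd1 - hdet)
    · linear_combination x.1.1 1 0 * (hd1 - hdet)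
    · linear_combination (x.1.1 1 1 - 1) * (hd1 - hdet) - hdet
  obtain ⟨p, hp⟩ := CharP.exists F
  haveI := hp
  haveI : Fact p.Prime := ⟨CharP.char_is_prime F p⟩
  have hpq : p ∣ q := by
    obtain ⟨k, -, hk⟩ := FiniteField.card F p
    refine (Fact.out : p.Prime).dvd_of_dvd_pow (n := 2) ?_
    rw [← hF, hk]; exact dvd_pow_self p k.2.ne'
  have hxp : x ^ p = 1 := eq_of_mat (by
    rw [show (x ^ p).1.1 = x.1.1 ^ p from by simp]
    have hp2 : 2 ≤ p := (Fact.out : p.Prime).two_le
    conv_lhs => rw [← add_sub_cancel (1 : Matrix (Fin 2) (Fin 2) F) x.1.1,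
      add_pow_char_of_commute p (Commute.one_left _), one_pow,
      show p = 2 + (p - 2) by omega, pow_add, pow_two, hN, Matrix.zero_mul, add_zero]
    rfl)
  have h1' := orderOf_dvd_of_pow_eq_one hxp
  rw [hxo] at h1'
  rcases (Nat.dvd_prime (Fact.out : p.Prime)).1 h1' with h | h
  · have := Nat.pos_of_ne_zero (fun h0 : q = 0 => by
      rw [h0] at hF; exact Fintype.card_ne_zero (hF.trans (by norm_num)))
    omega
  · exact (Fact.out : p.Prime).one_lt.ne' (Nat.dvd_one.1 ((Nat.dvd_add_right hpq).1 (h ▸ dvd_rfl)))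

include hstar in
/-- Two plane groups with commuting tori spanning the three-dimensional group are conjugate to the blocks. -/
theorem exists_conj_blocks (hF : Fintype.card F = q ^ 2) (hq : 3 ≤ q) (θA θB : Cfsg.SU 2 F q →* Cfsg.SU 3 F q)
    (hA : Function.Injective θA) (hB : Function.Injective θB) (htop : θA.range ⊔ θB.range = ⊤)
    {d e : Cfsg.SU 3 F q} (hd : d ∈ θA.range) (he : e ∈ θB.range) (hdo : orderOf d = q + 1)
    (heo : orderOf e = q + 1) (hde : Commute d e) :
    ∃ g : Cfsg.SU 3 F q, θA.range = (bA hstar).range.map (MulAut.conj g).toMonoidHom ∧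
      θB.range = (bB hstar).range.map (MulAut.conj g).toMonoidHom := by
  classical
  obtain ⟨a, ha, hAa⟩ := exists_fixed hstar hF hq θA hA
  obtain ⟨b, hb, hBb⟩ := exists_fixed hstar hF hq θB hB
  rw [hAa] at hd
  rw [hBb] at he
  have hda : act d a = a := hd a rfl
  have heb : act e b = b := he b rfl
  -- the two vectors are independent
  have hne : ∀ k : F, b ≠ k • a := fun k hk => by
    have hle : fixS q ({a} : Set (Fin 3 → F)) ≤ fixS q ({b} : Set (Fin 3 → F)) := fun g hg c hc => by
      rw [Set.mem_singleton_iff.1 hc, hk, act_smul, hg a rfl]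
    rw [hAa, hBb, sup_eq_right.2 hle] at htop
    obtain ⟨g, hg⟩ := exists_to hstar hF hb
    have h2 : fixS q ({Pi.single 2 (1 : F)} : Set (Fin 3 → F)) = ⊤ := by
      rw [eq_top_iff]
      intro y _ c hc
      rw [Set.mem_singleton_iff.1 hc]
      have hm : g * y * g⁻¹ ∈ fixS q ({b} : Set (Fin 3 → F)) := by rw [htop]; exact Subgroup.mem_top _
      have := hm b rfl
      rw [← hg, act_mul, act_mul, act_inv_act] at this
      exact act_injective g this
    have hm : bB hstar (w2 hstar) ∈ fixS q ({Pi.single 2 (1 : F)} : Set (Fin 3 → F)) := by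
      rw [h2]; exact Subgroup.mem_top _
    have := congrFun (hm _ rfl) 1
    rw [act_bB_two] at this
    simp at this
  obtain ⟨l, hl⟩ := fixed_line hstar hF hb heb heo (v := act d b) (by
    rw [← act_mul, ← hde.eq, act_mul, heb])
  have hab : herm a b = 0 := by
    by_contra h
    have h1 : herm a b = l * herm a b := by
      conv_lhs => rw [← herm_act hstar d a b, hda, hl, herm_smul_right]
    have hl1 : l = 1 := mul_right_cancel₀ h (by rw [one_mul]; exact h1.symm)
    obtain ⟨k, hk⟩ := fixed_line hstar hF ha hda hdo (v := b) (by rw [hl, hl1, one_smul])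
    exact hne k hk
  have h0 : herm (Pi.single 0 (1 : F) : Fin 3 → F) (Pi.single 0 1) = 1 := by simp [herm_single_left]
  have h2 : herm (Pi.single 2 (1 : F) : Fin 3 → F) (Pi.single 2 1) = 1 := by simp [herm_single_left]
  have h02 : herm (Pi.single 2 (1 : F) : Fin 3 → F) (Pi.single 0 1) = 0 := by simp [herm_single_left]
  obtain ⟨g, hg⟩ := exists_move hstar hF (on_two h2 h0 h02) (on_two ha hb hab) (by norm_num : 2 < 3)
  have hga : act g (Pi.single 2 (1 : F)) = a := hg 0
  have hgb : act g (Pi.single 0 (1 : F)) = b := hg 1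
  refine ⟨g, ?_, ?_⟩
  · rw [hAa, fixS_eq_map hstar g hga]
  · rw [hBb, ← fixS_zero hstar, ← fixS_image, Set.image_singleton, hgb]

variable {G : Type v} [Group G]

include hstar in
/-- A copy of the three-dimensional group spanned by two plane groups with commuting tori gives a window. -/
theorem exists_window_of_iso (hF : Fintype.card F = q ^ 2) (hq : 3 ≤ q) {A B : Subgroup G}
    (eA : Cfsg.SU 2 F q ≃* A) (eB : Cfsg.SU 2 F q ≃* B) (θ : ↥(A ⊔ B) ≃* Cfsg.SU 3 F q)
    {d e : G} (hd : d ∈ A) (he : e ∈ B) (hdo : orderOf d = q + 1) (heo : orderOf e = q + 1) (hde : Commute d e) :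
    ∃ ψ : Cfsg.SU 3 F q →* G, ψ.ker ≤ Subgroup.center _ ∧ (ψ.comp (bA hstar)).range = A ∧
      (ψ.comp (bB hstar)).range = B := by
  classical
  let ι : Cfsg.SU 3 F q →* G := (A ⊔ B).subtype.comp θ.symm.toMonoidHom
  have hι : Function.Injective ι := Subtype.val_injective.comp θ.symm.injective
  let θA : Cfsg.SU 2 F q →* Cfsg.SU 3 F q :=
    θ.toMonoidHom.comp ((Subgroup.inclusion le_sup_left).comp eA.toMonoidHom)
  let θB : Cfsg.SU 2 F q →* Cfsg.SU 3 F q :=
    θ.toMonoidHom.comp ((Subgroup.inclusion le_sup_right).comp eB.toMonoidHom)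
  have hA : θA.range.map ι = A := by
    ext z
    constructor
    · rintro ⟨_, ⟨x, rfl⟩, rfl⟩; simp [θA, ι]
    · intro hz; exact ⟨_, ⟨eA.symm ⟨z, hz⟩, rfl⟩, by simp [θA, ι]⟩
  have hB : θB.range.map ι = B := by
    ext z
    constructor
    · rintro ⟨_, ⟨x, rfl⟩, rfl⟩; simp [θB, ι]
    · intro hz; exact ⟨_, ⟨eB.symm ⟨z, hz⟩, rfl⟩, by simp [θB, ι]⟩
  have htop : θA.range ⊔ θB.range = ⊤ := by
    refine Subgroup.map_injective hι ?_
    rw [Subgroup.map_sup, hA, hB, ← MonoidHom.range_eq_map, MonoidHom.range_comp,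
      MonoidHom.range_eq_top.2 θ.symm.surjective, ← MonoidHom.range_eq_map, Subgroup.range_subtype]
  set d' : Cfsg.SU 3 F q := θ ⟨d, Subgroup.mem_sup_left hd⟩
  set e' : Cfsg.SU 3 F q := θ ⟨e, Subgroup.mem_sup_right he⟩
  have hdd : ι d' = d := by simp [ι, d']
  have hee : ι e' = e := by simp [ι, e']
  obtain ⟨g, hgA, hgB⟩ := exists_conj_blocks hstar hF hq θA θB
    (θ.injective.comp ((Subgroup.inclusion_injective (le_sup_left (a := A) (b := B))).comp eA.injective))
    (θ.injective.comp ((Subgroup.inclusion_injective (le_sup_right (a := A) (b := B))).comp eB.injective)) htop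
    (d := d') (e := e') ⟨eA.symm ⟨d, hd⟩, by simp [θA, d']; rfl⟩ ⟨eB.symm ⟨e, he⟩, by simp [θB, e']; rfl⟩
    (by rw [← hdo, ← hdd, orderOf_injective ι hι]) (by rw [← heo, ← hee, orderOf_injective ι hι])
    (hι (by rw [map_mul, map_mul, hdd, hee, hde.eq]))
  refine ⟨ι.comp (MulAut.conj g).toMonoidHom, ?_, ?_, ?_⟩
  · intro x hx
    rw [(hι.comp (MulAut.conj g).injective) (a₁ := x) (a₂ := 1) (by
      simpa using (MonoidHom.mem_ker.1 hx))]
    exact one_mem _
  · rw [MonoidHom.range_comp, ← Subgroup.map_map, ← hgA, hA]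
  · rw [MonoidHom.range_comp, ← Subgroup.map_map, ← hgB, hB]

end Cfsg.Agent.Small.Phan
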