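import Cfsg.Agent.Lib.Small.Phan.Field
import Cfsg.Agent.Lib.Small.SUPres.Graph

/-!
Squares of orthogonal norm one vectors in the four-dimensional unitary space, for Phan's theorem.
-/

set_option autoImplicit false
set_option linter.unusedSectionVars false
set_option linter.style.haveILetI false

namespace Cfsg.Agent.Small.Phan

open Matrix Cfsg.Agent.Small.Unitary Cfsg.Agent.Small.UCover Cfsg.Agent.Small.SUPres

variable {F : Type*} [Field F] [Fintype F] [StarRing F] {q : ℕ} {hstar : ∀ x : F, star x = x ^ q}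
  {H : Type*} [Group H]

/-- Squares with a pair of opposite corners in a plane orthogonal to the other pair agree. -/
def BaseSq (D : CoverData H (Cfsg.SU 4 F q) (UVec 4 hstar)) : Prop :=
  ∀ (a b v v' : UVec 4 hstar) (y : Fin 4 → F), herm y y = 1 → herm a.1 y = 0 → herm y v.1 = 0 →
    herm y v'.1 = 0 → (∃ c d : F, b.1 = c • y + d • a.1) → Orth a v → Orth v b → Orth a v' → Orth v' b →
    D.Agree a b v v'

theorem mul_ne_one {k x : F} (h : k ≠ x⁻¹) : k * x ≠ 1 := fun e => h (eq_inv_of_mul_eq_one_left e)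

section Parallel

variable (hF : Fintype.card F = q ^ 2)
include hstar hF

theorem parallel {a v : UVec 4 hstar} (hav : Orth a v) {z w : Fin 4 → F} (hz0 : z ≠ 0) (hzz : herm z z = 0)
    (hza : herm a.1 z = 0) (hzv : herm v.1 z = 0) (hwa : herm a.1 w = 0) (hwv : herm v.1 w = 0)
    (hzw : herm z w = 0) : ∃ r : F, w = r • z := by
  obtain ⟨x, hx, hax, hvx, hzx⟩ := exists_plane_unit hstar hF (on_two a.2 v.2 hav) hz0 hzz hza hzv (one_ne_zero (α := F))
  obtain ⟨y, hy, hyp⟩ := exists_unit_perp hstar hF (on_three a.2 v.2 hx hav hax hvx) (by norm_num)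
  have h0 : herm a.1 y = 0 := hyp 0
  have h1 : herm v.1 y = 0 := hyp 1
  have h2 : herm x y = 0 := hyp 2
  have hon : ON ![a.1, v.1, x, y] := SUPres.on_four a.2 v.2 hx hy hav hax h0 hvx h1 h2
  have hxz : herm x z = 1 := by rw [← star_herm, hzx, star_one]
  have ez := expand_plane hon hza hzv
  have ew := expand_plane hon hwa hwv
  rw [hxz, one_smul] at ez
  set z₂ := herm y z
  set w₁ := herm x w
  set w₂ := herm y w
  have hN : 1 + star z₂ * z₂ = 0 := by
    have := hzz
    rw [ez] at this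
    simp only [herm_add_left, herm_add_right, herm_smul_left, herm_smul_right, hx, hy, h2, herm_comm_zero h2] at this
    linear_combination this
  have ho : w₁ + star z₂ * w₂ = 0 := by
    have := hzw
    rw [ez, ew] at this
    simp only [herm_add_left, herm_add_right, herm_smul_left, herm_smul_right, hx, hy, h2, herm_comm_zero h2] at this
    linear_combination this
  refine ⟨w₁, ?_⟩
  rw [ew, ez, smul_add, smul_smul, show w₂ = w₁ * z₂ by linear_combination w₂ * hN - z₂ * ho]

end Parallel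

section

variable (D : CoverData H (Cfsg.SU 4 F q) (UVec 4 hstar)) (hadj : D.adj = Orth) (htri : D.TriOK)
  (hF : Fintype.card F = q ^ 2) (hb : BaseSq D)
include hadj htri hF hb

theorem agree_nondeg {a b v v' : UVec 4 hstar} (hab : star (herm a.1 b.1) * herm a.1 b.1 ≠ 1)
    (hav : Orth a v) (hvb : Orth v b) (hav' : Orth a v') (hvb' : Orth v' b) : D.Agree a b v v' := by
  obtain ⟨y, hy, hay, hbd, hyz⟩ := exists_second hF hab
  exact hb a b v v' y hy hay (hyz _ hav (orth_symm hvb)) (hyz _ hav' (orth_symm hvb')) hbd hav hvb hav' hvb'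

/-- A degenerate square is filled when some norm avoids three values. -/
theorem agree_deg {a b v v' : UVec 4 hstar} (hav : Orth a v) {z : Fin 4 → F} (hz0 : z ≠ 0)
    (hzz : herm z z = 0) (hza : herm a.1 z = 0) (hzv : herm v.1 z = 0) {μ r α c K : F}
    (_hμ : star μ * μ = 1) (_hα : star α * α = 1) (hbe : b.1 = μ • a.1 + r • z) (hve : v'.1 = α • v.1 + c • z)
    (hK : K ≠ 0) (hKr : N K * N r ≠ 1) (hKc : N K * N c ≠ 1) (hKs : N K * (N r + N c) ≠ 1) :
    D.Agree a b v v' := by
  have hva : herm v.1 a.1 = 0 := herm_comm_zero hav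
  have hvb : Orth v b := by
    show herm v.1 b.1 = 0
    rw [hbe, herm_add_right, herm_smul_right, herm_smul_right, hva, hzv]; ring
  have hav' : Orth a v' := by
    show herm a.1 v'.1 = 0
    rw [hve, herm_add_right, herm_smul_right, herm_smul_right, hza, show herm a.1 v.1 = 0 from hav]; ring
  have hbv' : herm b.1 v'.1 = 0 := by
    rw [hbe, hve]
    simp only [herm_add_left, herm_add_right, herm_smul_left, herm_smul_right]
    rw [show herm a.1 v.1 = 0 from hav, hza, hzz, herm_comm_zero hzv]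
    ring
  have hvb' : Orth v' b := herm_comm_zero hbv'
  obtain ⟨x, hx, hax, hvx, hzx⟩ := exists_plane_unit hstar hF (on_two a.2 v.2 hav) hz0 hzz hza hzv hK
  have hbx : herm b.1 x = star r * K := by
    rw [hbe, herm_add_left, herm_smul_left, herm_smul_left, hax, hzx]; ring
  have hv'x : herm v'.1 x = star c * K := by
    rw [hve, herm_add_left, herm_smul_left, herm_smul_left, hvx, hzx]; ring
  set w := x - herm b.1 x • b.1 - herm v'.1 x • v'.1 with hw
  have hbw : herm b.1 w = 0 := by
    rw [hw, herm_sub_right, herm_sub_right, herm_smul_right, herm_smul_right, b.2, hbv']; ring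
  have hv'w : herm v'.1 w = 0 := by
    rw [hw, herm_sub_right, herm_sub_right, herm_smul_right, herm_smul_right, v'.2, herm_comm_zero hbv']; ring
  have hxb : herm x b.1 = r * star K := by rw [← star_herm, hbx, star_mul', star_star]
  have hxv' : herm x v'.1 = c * star K := by rw [← star_herm, hv'x, star_mul', star_star]
  have hww : herm w w = 1 - N K * (N r + N c) := by
    have e : herm w w = herm x w := by
      conv_lhs => arg 1; rw [hw]
      rw [herm_sub_left, herm_sub_left, herm_smul_left, herm_smul_left, hbw, hv'w]; ring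
    rw [e, hw, herm_sub_right, herm_sub_right, herm_smul_right, herm_smul_right, hx, hbx, hv'x, hxb, hxv']
    simp only [N]; ring
  have hne : herm w w ≠ 0 := by rw [hww]; exact sub_ne_zero.2 (Ne.symm hKs)
  obtain ⟨s, hs0, hs⟩ := Hermitian.exists_norm hstar hF (inv_ne_zero hne) (by rw [star_inv₀, star_herm])
  have hu : herm (s • w) (s • w) = 1 := by
    rw [herm_smul_left, herm_smul_right, ← mul_assoc, hs, inv_mul_cancel₀ hne]
  obtain ⟨y, hy, hyp⟩ := exists_unit_perp hstar hF (on_three b.2 v'.2 hu hbv'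
    (by rw [herm_smul_right, hbw, mul_zero]) (by rw [herm_smul_right, hv'w, mul_zero])) (by norm_num)
  have hby : herm b.1 y = 0 := hyp 0
  have hv'y : herm v'.1 y = 0 := hyp 1
  have hwy : herm w y = 0 := by
    have h : herm (s • w) y = 0 := hyp 2
    rw [herm_smul_left] at h
    exact (mul_eq_zero.1 h).resolve_left (star_ne_zero.2 hs0)
  have hxy : herm x y = 0 := by
    have e : x = w + herm b.1 x • b.1 + herm v'.1 x • v'.1 := by rw [hw]; abel
    rw [e, herm_add_left, herm_add_left, herm_smul_left, herm_smul_left, hwy, hby, hv'y]; ring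
  obtain ⟨X, hX⟩ : ∃ X : UVec 4 hstar, X.1 = x := ⟨⟨x, hx⟩, rfl⟩
  obtain ⟨Y, hY⟩ : ∃ Y : UVec 4 hstar, Y.1 = y := ⟨⟨y, hy⟩, rfl⟩
  have oaX : Orth a X := by show herm a.1 X.1 = 0; rw [hX]; exact hax
  have oXv : Orth X v := by show herm X.1 v.1 = 0; rw [hX]; exact herm_comm_zero hvx
  have oXY : Orth X Y := by show herm X.1 Y.1 = 0; rw [hX, hY]; exact hxy
  have oYb : Orth Y b := by show herm Y.1 b.1 = 0; rw [hY]; exact herm_comm_zero hby
  have oYv' : Orth Y v' := by show herm Y.1 v'.1 = 0; rw [hY]; exact herm_comm_zero hv'y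
  have sq1 : D.Agree X b v Y := agree_nondeg D hadj htri hF hb
    (by rw [hX, hxb]; exact fun h => hKr (by simp only [N, star_mul', star_star] at h ⊢; linear_combination h))
    oXv hvb oXY oYb
  have sq2 : D.Agree a Y X v' := D.agree_swap (agree_nondeg D hadj htri hF hb
    (by rw [hX, hxv']; exact fun h => hKc (by simp only [N, star_mul', star_star] at h ⊢; linear_combination h))
    (orth_symm oaX) hav' oXY oYv')
  have adjI : ∀ {u u' : UVec 4 hstar}, Orth u u' → D.adj u u' := fun {u u'} h => by rw [hadj]; exact h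
  intro P Q R Q' R' hP h1 h2 h3 h4 h5 h6 h7 h8
  obtain ⟨WX, hWX, hWXp⟩ := D.exists_lift (P := P) (b := X) (by rw [hP]; exact adjI oaX)
  have eXQ : D.E WX Q := htri Q P WX (D.E_symm h1) hWX (by rw [hWXp, h2]; exact adjI oXv)
  obtain ⟨WY, hWY, hWYp⟩ := D.exists_lift (P := WX) (b := Y) (by rw [hWXp]; exact adjI oXY)
  obtain ⟨S, hS, hSp⟩ := D.exists_lift (P := WY) (b := b) (by rw [hWYp]; exact adjI oYb)
  have eR : R = S := sq1 WX Q R WY S hWXp eXQ h2 h3 h4 hWY hWYp hS hSp
  obtain ⟨Z, hZ, hZp⟩ := D.exists_lift (P := Q') (b := Y) (by rw [h6]; exact adjI (orth_symm oYv'))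
  have eY : WY = Z := sq2 P WX WY Q' Z hP hWX hWXp hWY hWYp h5 h6 hZ hZp
  subst eY
  have eR' : D.E R' WY := htri WY Q' R' (D.E_symm hZ) h7 (by rw [h8, hWYp]; exact adjI (orth_symm oYb))
  exact eR.trans (D.lift_unique hS (D.E_symm eR') (hSp.trans h8.symm))

theorem agree_radical (hq : 4 ≤ q) {a b v v' : UVec 4 hstar} (hav : Orth a v) {z : Fin 4 → F} (hz0 : z ≠ 0)
    (hzz : herm z z = 0) (hza : herm a.1 z = 0) (hzv : herm v.1 z = 0) {μ r α c : F}
    (hμ : star μ * μ = 1) (hα : star α * α = 1) (hbe : b.1 = μ • a.1 + r • z) (hve : v'.1 = α • v.1 + c • z) :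
    D.Agree a b v v' := by
  rcases eq_or_ne r 0 with rfl | hr
  · obtain ⟨K, hK, h1, -⟩ := exists_norm_avoid hstar hF hq (N c)⁻¹ (N c)⁻¹
    exact agree_deg D hadj htri hF hb hav hz0 hzz hza hzv hμ hα hbe hve hK
      (by rw [N_zero, mul_zero]; exact zero_ne_one) (mul_ne_one h1)
      (by rw [N_zero, zero_add]; exact mul_ne_one h1)
  have hzv_shift : ∀ (u : UVec 4 hstar) (δ : F), herm a.1 u.1 = 0 → herm u.1 z = 0 →
      ∃ w : UVec 4 hstar, w.1 = u.1 + δ • z ∧ herm a.1 w.1 = 0 ∧ herm w.1 z = 0 ∧ herm w.1 b.1 = 0 := by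
    intro u δ h1 h2
    refine ⟨⟨u.1 + δ • z, ?_⟩, rfl, ?_, ?_, ?_⟩
    · simp only [herm_add_left, herm_add_right, herm_smul_left, herm_smul_right, u.2, h2, hzz,
        show herm z u.1 = 0 from herm_comm_zero h2]
      ring
    · rw [herm_add_right, herm_smul_right, h1, hza]; ring
    · rw [herm_add_left, herm_smul_left, h2, hzz]; ring
    · rw [hbe]
      simp only [herm_add_left, herm_add_right, herm_smul_left, herm_smul_right, herm_comm_zero h1,
        herm_comm_zero hza, h2, hzz]
      ring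
  let S : AddSubgroup F :=
    { carrier := {δ | ∀ u w : UVec 4 hstar, herm a.1 u.1 = 0 → herm u.1 z = 0 → w.1 = u.1 + δ • z →
        D.Agree a b u w}
      zero_mem' := fun u w _ _ e => by
        obtain rfl : w = u := Subtype.ext (by rw [e, zero_smul, add_zero])
        exact D.agree_refl a b w
      add_mem' := fun {δ δ'} h h' u w h1 h2 e => by
        obtain ⟨m, hm, m1, m2, m3⟩ := hzv_shift u δ h1 h2
        exact D.agree_trans (w := m) (by rw [hadj]; exact m1) (by rw [hadj]; exact m3) (h u m h1 h2 hm)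
          (h' m w m1 m2 (by rw [e, hm, add_smul, add_assoc]))
      neg_mem' := fun {δ} h u w h1 h2 e => by
        obtain ⟨m, hm, m1, m2, -⟩ := hzv_shift u (-δ) h1 h2
        obtain rfl : w = m := Subtype.ext (e.trans hm.symm)
        exact D.agree_symm (h w u m1 m2 (by rw [e, neg_smul]; abel)) }
  have hS : S = ⊤ := addClosure_norm_one hstar hF S r hr fun δ hδ u w h1 h2 e => by
    obtain ⟨K, hK, k1, k2⟩ := exists_norm_avoid hstar hF hq (N r)⁻¹ (N r + N r)⁻¹
    exact agree_deg D hadj htri hF hb h1 hz0 hzz hza h2 hμ (show star (1 : F) * 1 = 1 by simp) hbe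
      (by rw [e, one_smul]) hK (mul_ne_one k1) (by rw [hδ]; exact mul_ne_one k1)
      (by rw [hδ]; exact mul_ne_one k2)
  have hα0 : α ≠ 0 := fun h => by rw [h, mul_zero] at hα; exact zero_ne_one hα
  obtain ⟨m, hm, m1, m2, m3⟩ := hzv_shift v (α⁻¹ * c) hav hzv
  have s1 : D.Agree a b v m := (show α⁻¹ * c ∈ S from hS ▸ AddSubgroup.mem_top _) v m hav hzv hm
  obtain ⟨K, hK, k1, -⟩ := exists_norm_avoid hstar hF hq (N r)⁻¹ (N r)⁻¹
  have s2 : D.Agree a b m v' := agree_deg D hadj htri hF hb m1 hz0 hzz hza m2 hμ hα (c := 0) hbe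
    (by rw [hve, hm, smul_add, smul_smul, ← mul_assoc, mul_inv_cancel₀ hα0, one_mul, zero_smul, add_zero])
    hK (mul_ne_one k1) (by rw [N_zero, mul_zero]; exact zero_ne_one) (by rw [N_zero, add_zero]; exact mul_ne_one k1)
  exact D.agree_trans (w := m) (by rw [hadj]; exact m1) (by rw [hadj]; exact m3) s1 s2

theorem agree_four (hq : 4 ≤ q) {a b v v' : UVec 4 hstar} (hav : Orth a v) (hvb : Orth v b)
    (hav' : Orth a v') (hvb' : Orth v' b) : D.Agree a b v v' := by
  by_cases hab : star (herm a.1 b.1) * herm a.1 b.1 = 1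
  swap; · exact agree_nondeg D hadj htri hF hb hab hav hvb hav' hvb'
  by_cases hvv : star (herm v.1 v'.1) * herm v.1 v'.1 = 1
  swap
  · exact D.agree_swap (agree_nondeg D hadj htri hF hb hvv (orth_symm hav) hav' hvb (orth_symm hvb'))
  -- both diagonals are degenerate
  suffices key : ∀ a b v v' : UVec 4 hstar, star (herm a.1 b.1) * herm a.1 b.1 = 1 →
      star (herm v.1 v'.1) * herm v.1 v'.1 = 1 → Orth a v → Orth v b → Orth a v' → Orth v' b →
      v'.1 - herm v.1 v'.1 • v.1 ≠ 0 → D.Agree a b v v' by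
    by_cases hz : v'.1 - herm v.1 v'.1 • v.1 = 0
    · by_cases hz' : b.1 - herm a.1 b.1 • a.1 = 0
      · obtain ⟨y, hy, hyp⟩ := exists_unit_perp hstar hF (on_two a.2 v.2 hav) (by norm_num)
        refine hb a b v v' y hy (hyp 0) (herm_comm_zero (hyp 1)) ?_ ⟨0, herm a.1 b.1, ?_⟩ hav hvb hav' hvb'
        · rw [sub_eq_zero.1 hz, herm_smul_right, show herm y v.1 = 0 from herm_comm_zero (hyp 1), mul_zero]
        · rw [zero_smul, zero_add]; exact sub_eq_zero.1 hz'
      · exact D.agree_swap (key v v' a b hvv hab (orth_symm hav) hav' hvb (orth_symm hvb') hz')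
    · exact key a b v v' hab hvv hav hvb hav' hvb' hz
  intro a b v v' hab hvv hav hvb hav' hvb' hz
  set α := herm v.1 v'.1 with hα
  set μ := herm a.1 b.1 with hμ
  set z := v'.1 - α • v.1 with hzdef
  have hva : herm v.1 a.1 = 0 := herm_comm_zero hav
  have hzv : herm v.1 z = 0 := by rw [hzdef, herm_sub_right, herm_smul_right, v.2, ← hα]; ring
  have hza : herm a.1 z = 0 := by
    rw [hzdef, herm_sub_right, herm_smul_right, show herm a.1 v'.1 = 0 from hav', show herm a.1 v.1 = 0 from hav]; ring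
  have hzb : herm b.1 z = 0 := by
    rw [hzdef, herm_sub_right, herm_smul_right, show herm b.1 v'.1 = 0 from herm_comm_zero hvb',
      show herm b.1 v.1 = 0 from herm_comm_zero hvb]; ring
  have hzz : herm z z = 0 := by
    rw [hzdef]
    simp only [herm_sub_left, herm_sub_right, herm_smul_left, herm_smul_right, v.2, v'.2, ← star_herm v.1 v'.1, ← hα]
    linear_combination (-1 : F) * hvv
  obtain ⟨r, hr⟩ := parallel hF hav hz hzz hza hzv (w := b.1 - μ • a.1)
    (by rw [herm_sub_right, herm_smul_right, a.2, ← hμ]; ring)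
    (by rw [herm_sub_right, herm_smul_right, show herm v.1 b.1 = 0 from hvb, hva]; ring)
    (by rw [herm_sub_right, herm_smul_right, herm_comm_zero hzb, herm_comm_zero hza]; ring)
  exact agree_radical D hadj htri hF hb hq hav hz hzz hza hzv hab hvv (c := 1)
    (by rw [← hr]; abel) (by rw [one_smul, hzdef]; abel)

end

end Cfsg.Agent.Small.Phan
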