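import Cfsg.Agent.Lib.Small.Phan.Torus
import Cfsg.Prelude.Def_PhanSystems

/-!
Standard pairs in terms of the block embeddings.
-/

set_option autoImplicit false
set_option linter.unusedSectionVars false
set_option maxHeartbeats 1000000

namespace Cfsg.Agent.Small.Phan

open Matrix Cfsg.Agent.Small.Unitary Cfsg.Agent.Small.UCover Cfsg.Agent.Small.SUPres

universe u v

/-- The field with `q²` elements has the involution `x ↦ x^q`. -/
theorem exists_conjugation {K : Type u} [Field K] [Fintype K] {q : ℕ} (hF : Fintype.card K = q ^ 2) :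
    ∃ S : StarRing K, ∀ x : K, @star K S.toStar x = x ^ q := by
  obtain ⟨p, hp⟩ := CharP.exists K
  haveI := hp
  haveI hpf : Fact p.Prime := ⟨CharP.char_is_prime K p⟩
  obtain ⟨k, -, hk⟩ := FiniteField.card K p
  obtain ⟨i, -, hi⟩ := (Nat.dvd_prime_pow hpf.out).1
    (show q ∣ p ^ (k : ℕ) by rw [← hk, hF]; exact dvd_pow_self _ (by norm_num))
  haveI : ExpChar K p := ExpChar.prime hpf.out
  have hσ : ∀ x : K, iterateFrobenius K p i x = x ^ q := fun x => by rw [hi]; exact iterateFrobenius_def ..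
  exact ⟨Hermitian.starRingOfInvolution (iterateFrobenius K p i) (fun x => by
    rw [hσ, hσ, ← pow_mul, ← sq, ← hF, FiniteField.pow_card]), hσ⟩

variable {F : Type u} [Field F] [Fintype F] [StarRing F] {q : ℕ} (hstar : ∀ x : F, star x = x ^ q)

theorem suBlock_left : Cfsg.suBlock 3 F q {0, 1} = (bA hstar).range := by
  apply le_antisymm
  · rw [Cfsg.suBlock, Subgroup.closure_le]
    intro g hg
    obtain ⟨g22, hz⟩ := hg 2 (by simp)
    obtain ⟨g20, g02⟩ := hz 0 (by decide)
    obtain ⟨g21, g12⟩ := hz 1 (by decide)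
    have hu := conjTranspose_mul_self hstar g
    have hd := g.1.2
    rw [Matrix.det_fin_three] at hd
    have e := fun i j => congrFun (congrFun hu i) j
    have e00 := e 0 0
    have e01 := e 0 1
    have e10 := e 1 0
    have e11 := e 1 1
    simp [Matrix.mul_apply, Fin.sum_univ_three, g20, g21] at e00 e01 e10 e11
    refine ⟨mkSU hstar !![g.1.1 0 0, g.1.1 0 1; g.1.1 1 0, g.1.1 1 1] ?_ ?_, eq_of_vec fun a b c => ?_⟩
    · ext r s
      fin_cases r <;> fin_cases s <;> simp [Matrix.mul_apply, Fin.sum_univ_two, e00, e01, e10, e11]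
    · rw [Matrix.det_fin_two_of]
      simp [g20, g21, g22] at hd
      linear_combination hd
    rw [act_bA_vec]
    funext r
    fin_cases r <;>
      simp [act, Matrix.mulVec, dotProduct, Fin.sum_univ_two, Fin.sum_univ_three, mkSU, g20, g21, g22, g02, g12]
  · rintro _ ⟨x, rfl⟩
    refine Subgroup.subset_closure fun k hk => ?_
    obtain rfl : k = 2 := by fin_cases k <;> simp at hk ⊢
    have c : ∀ j, (bA hstar x).1.1 2 j = (act (bA hstar x) (Pi.single j (1 : F))) 2 := fun j => by
      simp [act, Matrix.mulVec_single]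
    have r : ∀ j, (bA hstar x).1.1 j 2 = (act (bA hstar x) (Pi.single 2 (1 : F))) j := fun j => by
      simp [act, Matrix.mulVec_single]
    refine ⟨?_, fun l hl => ⟨?_, ?_⟩⟩
    · exact (r 2).trans (by rw [act_bA_two]; simp)
    · rcases (show l = 0 ∨ l = 1 by fin_cases l <;> simp at hl ⊢) with rfl | rfl
      · exact (c 0).trans (by rw [show (Pi.single 0 (1 : F) : Fin 3 → F) = ![1, 0, 0] by
          funext j; fin_cases j <;> rfl, act_bA_vec]; simp)
      · exact (c 1).trans (by rw [show (Pi.single 1 (1 : F) : Fin 3 → F) = ![0, 1, 0] by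
          funext j; fin_cases j <;> rfl, act_bA_vec]; simp)
    · exact (r l).trans (by rw [act_bA_two]; simp [Pi.single_eq_of_ne hl])

theorem suBlock_right : Cfsg.suBlock 3 F q {1, 2} = (bB hstar).range := by
  apply le_antisymm
  · rw [Cfsg.suBlock, Subgroup.closure_le]
    intro g hg
    obtain ⟨g00, hz⟩ := hg 0 (by simp)
    obtain ⟨g01, g10⟩ := hz 1 (by decide)
    obtain ⟨g02, g20⟩ := hz 2 (by decide)
    have hu := conjTranspose_mul_self hstar g
    have hd := g.1.2
    rw [Matrix.det_fin_three] at hd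
    have e := fun i j => congrFun (congrFun hu i) j
    have e11 := e 1 1
    have e12 := e 1 2
    have e21 := e 2 1
    have e22 := e 2 2
    simp [Matrix.mul_apply, Fin.sum_univ_three, g01, g02] at e11 e12 e21 e22
    refine ⟨mkSU hstar !![g.1.1 1 1, g.1.1 1 2; g.1.1 2 1, g.1.1 2 2] ?_ ?_, eq_of_vec fun a b c => ?_⟩
    · ext r s
      fin_cases r <;> fin_cases s <;> simp [Matrix.mul_apply, Fin.sum_univ_two, e11, e12, e21, e22]
    · rw [Matrix.det_fin_two_of]
      simp [g01, g02, g00] at hd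
      linear_combination hd
    rw [act_bB_vec]
    funext r
    fin_cases r <;>
      simp [act, Matrix.mulVec, dotProduct, Fin.sum_univ_two, Fin.sum_univ_three, mkSU, g01, g02, g00, g10, g20]
  · rintro _ ⟨x, rfl⟩
    refine Subgroup.subset_closure fun k hk => ?_
    obtain rfl : k = 0 := by fin_cases k <;> simp at hk ⊢
    have c : ∀ j, (bB hstar x).1.1 0 j = (act (bB hstar x) (Pi.single j (1 : F))) 0 := fun j => by
      simp [act, Matrix.mulVec_single]
    have r : ∀ j, (bB hstar x).1.1 j 0 = (act (bB hstar x) (Pi.single 0 (1 : F))) j := fun j => by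
      simp [act, Matrix.mulVec_single]
    refine ⟨?_, fun l hl => ⟨?_, ?_⟩⟩
    · exact (r 0).trans (by rw [act_bB_zero]; simp)
    · rcases (show l = 1 ∨ l = 2 by fin_cases l <;> simp at hl ⊢) with rfl | rfl
      · exact (c 1).trans (by rw [show (Pi.single 1 (1 : F) : Fin 3 → F) = ![0, 1, 0] by
          funext j; fin_cases j <;> rfl, act_bB_vec]; simp)
      · exact (c 2).trans (by rw [show (Pi.single 2 (1 : F) : Fin 3 → F) = ![0, 0, 1] by
          funext j; fin_cases j <;> rfl, act_bB_vec]; simp)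
    · exact (r l).trans (by rw [act_bB_zero]; simp [Pi.single_eq_of_ne hl])

/-- A standard pair is a window. -/
theorem exists_window {G : Type v} [Group G] (hF : Fintype.card F = q ^ 2) (hq : 3 ≤ q) {V A B : Subgroup G}
    (h : Cfsg.IsStandardUnitaryPair V A B F q) :
    ∃ ψ : Cfsg.SU 3 F q →* G, ψ.ker ≤ Subgroup.center _ ∧ (ψ.comp (bA hstar)).range = A ∧
      (ψ.comp (bB hstar)).range = B ∧ V ≤ A ⊔ B := by
  have key : ∀ ψ : Cfsg.SU 3 F q →* G, ψ.ker ≤ Subgroup.center _ → ψ.range = V →
      (Cfsg.suBlock 3 F q {0, 1}).map ψ = A → (Cfsg.suBlock 3 F q {1, 2}).map ψ = B →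
      ∃ ψ : Cfsg.SU 3 F q →* G, ψ.ker ≤ Subgroup.center _ ∧ (ψ.comp (bA hstar)).range = A ∧
        (ψ.comp (bB hstar)).range = B ∧ V ≤ A ⊔ B := by
    intro ψ hk hV hA hB
    rw [suBlock_left hstar] at hA
    rw [suBlock_right hstar] at hB
    refine ⟨ψ, hk, by rw [MonoidHom.range_comp, hA], by rw [MonoidHom.range_comp, hB], le_of_eq ?_⟩
    rw [← hV, ← hA, ← hB, ← Subgroup.map_sup, gen_three hstar hF hq, MonoidHom.range_eq_map]
  rcases h with ⟨ψ, hA, hB⟩ | ⟨ψ, hA, hB⟩
  · refine key _ ?_ ?_ hA hB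
    · intro x hx
      rw [ψ.injective (Subtype.ext (hx.trans (V.subtype.map_one).symm) |>.trans ψ.map_one.symm)]
      exact one_mem _
    · rw [MonoidHom.range_comp, MonoidHom.range_eq_top.2 ψ.surjective, ← MonoidHom.range_eq_map,
        Subgroup.range_subtype]
  · refine key _ ?_ ?_ hA hB
    · intro x hx
      have e : ψ (QuotientGroup.mk x) = ψ 1 := by
        rw [map_one]; exact Subtype.ext hx
      exact (QuotientGroup.eq_one_iff x).1 (ψ.injective e)
    · rw [MonoidHom.range_comp, MonoidHom.range_comp, QuotientGroup.range_mk',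
        ← MonoidHom.range_eq_map, MonoidHom.range_eq_top.2 ψ.surjective, ← MonoidHom.range_eq_map,
        Subgroup.range_subtype]

end Cfsg.Agent.Small.Phan
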