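import Cfsg.Agent.Lib.Small.Phan.Align
import Cfsg.Agent.Lib.Classical.UnitaryOrders

/-!
The plane group over the field with nine elements.
-/

set_option autoImplicit false
set_option linter.unusedSectionVars false
set_option linter.style.haveILetI false

namespace Cfsg.Agent.Small.Phan

open Matrix Cfsg.Agent.Small.Unitary Cfsg.Agent.Small.UCover Cfsg.Agent.Small.SUPres

universe u

variable {F : Type u} [Field F] [Fintype F] [StarRing F]

section Diag

variable {n q : ℕ} (hstar : ∀ x : F, star x = x ^ q)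
include hstar

/-- Diagonal field automorphisms. -/
theorem exists_autD (d : Fin n → F) (hd : ∀ i, star (d i) * d i = 1) (φ : F →+* F)
    (hφ : ∀ a, φ (star a) = star (φ a)) :
    ∃ β : MulAut (Cfsg.SU n F q), ∀ g i j, (β g).1.1 i j = d i * φ (g.1.1 i j) * star (d j) := by
  classical
  set D : Matrix (Fin n) (Fin n) F := Matrix.diagonal d
  set D' : Matrix (Fin n) (Fin n) F := Matrix.diagonal fun i => star (d i)
  have hDD : D' * D = 1 := by
    rw [Matrix.diagonal_mul_diagonal, ← Matrix.diagonal_one]; congr 1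
    funext i; exact hd i
  have hD'D : D * D' = 1 := mul_eq_one_comm.1 hDD
  have hDs : Dᴴ = D' := by rw [Matrix.diagonal_conjTranspose]; rfl
  let Φ := RingHom.mapMatrix (m := Fin n) φ
  have hΦs : ∀ X : Matrix (Fin n) (Fin n) F, (Φ X)ᴴ = Φ Xᴴ := fun X => by
    ext r s; exact (hφ _).symm
  let b : Cfsg.SU n F q →* Cfsg.SU n F q :=
    { toFun := fun g => mkSU hstar (D * Φ g.1.1 * D')
        (by
          rw [Matrix.conjTranspose_mul, Matrix.conjTranspose_mul, hΦs, hDs, ← hDs, Matrix.conjTranspose_conjTranspose,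
            hDs]
          rw [show D * (Φ g.1.1ᴴ * D') * (D * Φ g.1.1 * D') = D * Φ g.1.1ᴴ * (D' * D) * Φ g.1.1 * D' by
            simp only [Matrix.mul_assoc], hDD, Matrix.mul_one, Matrix.mul_assoc D (Φ _), ← map_mul,
            conjTranspose_mul_self hstar g, map_one, Matrix.mul_one, hD'D])
        (by
          rw [Matrix.det_mul, Matrix.det_mul, mul_right_comm, ← Matrix.det_mul, hD'D, Matrix.det_one, one_mul,
            show (Φ g.1.1).det = φ g.1.1.det from (RingHom.map_det φ _).symm, g.1.2, map_one])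
      map_one' := eq_of_mat (by
        show D * Φ 1 * D' = 1
        rw [map_one, Matrix.mul_one, hD'D])
      map_mul' := fun g h => eq_of_mat (by
        show D * Φ (g.1.1 * h.1.1) * D' = (D * Φ g.1.1 * D') * (D * Φ h.1.1 * D')
        rw [map_mul, show (D * Φ g.1.1 * D') * (D * Φ h.1.1 * D') = D * Φ g.1.1 * (D' * D) * Φ h.1.1 * D' by
          simp only [Matrix.mul_assoc], hDD, Matrix.mul_one]
        simp only [Matrix.mul_assoc]) }
  have hb : ∀ g i j, (b g).1.1 i j = d i * φ (g.1.1 i j) * star (d j) := fun g i j => by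
    show (D * Φ g.1.1 * D') i j = _
    rw [Matrix.mul_diagonal, Matrix.diagonal_mul]
    rfl
  have hd0 : ∀ i, d i ≠ 0 := fun i h => by
    have := hd i
    rw [h, mul_zero] at this
    exact zero_ne_one this
  have hinj : Function.Injective b := fun g h e => eq_of_mat (by
    ext i j
    have := congrArg (fun x : Cfsg.SU n F q => x.1.1 i j) e
    simp only [hb] at this
    exact φ.injective (mul_left_cancel₀ (hd0 i) (mul_right_cancel₀ (star_ne_zero.2 (hd0 j)) this)))
  haveI : Finite (Cfsg.SU n F q) := Subtype.finite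
  exact ⟨MulEquiv.ofBijective b ⟨hinj, Finite.injective_iff_surjective.1 hinj⟩, hb⟩

/-- The diagonal plane element of a norm one scalar. -/
theorem isDia_dia (c : F) (hc : star c * c = 1) :
    IsDia (dia (q := q) hstar c hc) := by
  show (!![c, 0; 0, star c] : Matrix (Fin 2) (Fin 2) F) 0 1 = 0
  simp

end Diag

/-! ### Nine elements -/

variable (hstar : ∀ x : F, star x = x ^ 3) (hF : Fintype.card F = 3 ^ 2)
include hstar hF

theorem three_eq_zero : (3 : F) = 0 := by
  obtain ⟨p, hp⟩ := CharP.exists F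
  haveI := hp
  haveI : Fact p.Prime := ⟨CharP.char_is_prime F p⟩
  obtain ⟨k, -, hk⟩ := FiniteField.card F p
  have : p ∣ 3 := (Fact.out : p.Prime).dvd_of_dvd_pow (n := 2) (by rw [← hF, hk]; exact dvd_pow_self p k.2.ne')
  obtain rfl := (Nat.prime_dvd_prime_iff_eq Fact.out (by norm_num)).1 this
  exact_mod_cast CharP.cast_eq_zero F 3

theorem two_ne_zero' : (2 : F) ≠ 0 := fun h => one_ne_zero (α := F) (by linear_combination three_eq_zero hstar hF - h)

theorem fixed_cases {x : F} (h : star x = x) : x = 0 ∨ x = 1 ∨ x = -1 := by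
  rw [hstar] at h
  rcases mul_eq_zero.1 (show x * ((x - 1) * (x + 1)) = 0 by linear_combination h) with h | h
  · exact Or.inl h
  rcases mul_eq_zero.1 h with h | h
  · exact Or.inr (Or.inl (sub_eq_zero.1 h))
  · exact Or.inr (Or.inr (eq_neg_of_add_eq_zero_left h))

theorem norm_cases {x : F} (h : x ≠ 0) : star x * x = 1 ∨ star x * x = -1 := by
  rcases fixed_cases hstar hF (x := star x * x) (by rw [star_mul', star_star, mul_comm]) with e | e | e
  · exact absurd e (mul_ne_zero (star_ne_zero.2 h) h)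
  · exact Or.inl e
  · exact Or.inr e

theorem zeta_sq {ζ : F} (h1 : star ζ * ζ = 1) (h2 : ζ ^ 2 ≠ 1) : ζ ^ 2 = -1 ∧ star ζ = -ζ := by
  rw [hstar] at h1 ⊢
  have hs : ζ ^ 2 = -1 := by
    rcases mul_eq_zero.1 (show (ζ ^ 2 - 1) * (ζ ^ 2 + 1) = 0 by linear_combination h1) with h | h
    · exact absurd (sub_eq_zero.1 h) h2
    · exact eq_neg_of_add_eq_zero_left h
  exact ⟨hs, by linear_combination ζ * hs⟩

theorem norm_one_cases {ζ : F} (h1 : star ζ * ζ = 1) (h2 : ζ ^ 2 ≠ 1) {c : F} (hc : star c * c = 1) :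
    c = 1 ∨ c = -1 ∨ c = ζ ∨ c = -ζ := by
  obtain ⟨hs, -⟩ := zeta_sq hstar hF h1 h2
  rw [hstar] at hc
  rcases mul_eq_zero.1 (show (c ^ 2 - 1) * (c ^ 2 + 1) = 0 by linear_combination hc) with h | h
  · rcases sq_eq_one_iff.1 (sub_eq_zero.1 h) with h | h
    · exact Or.inl h
    · exact Or.inr (Or.inl h)
  · rcases sq_eq_sq_iff_eq_or_eq_neg.1 (show c ^ 2 = ζ ^ 2 by linear_combination h - hs) with h | h
    · exact Or.inr (Or.inr (Or.inl h))
    · exact Or.inr (Or.inr (Or.inr h))

section Q8

variable (ζ : F) (h1 : star ζ * ζ = 1) (h2 : ζ ^ 2 ≠ 1)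
include h1 h2

/-- The monomial subgroup. -/
theorem mem_quat {x : Cfsg.SU 2 F 3} (h : x.1.1 0 1 = 0 ∨ x.1.1 0 0 = 0) :
    x ∈ Subgroup.closure ({dia hstar ζ h1, w2 hstar} : Set (Cfsg.SU 2 F 3)) := by
  obtain ⟨hs, hstarζ⟩ := zeta_sq hstar hF h1 h2
  set M := Subgroup.closure ({dia hstar ζ h1, w2 hstar} : Set (Cfsg.SU 2 F 3))
  set d := dia (q := 3) hstar ζ h1
  have hd : d ∈ M := Subgroup.subset_closure (Or.inl rfl)
  have hw : w2 hstar ∈ M := Subgroup.subset_closure (Or.inr rfl)
  have hdia : ∀ y : Cfsg.SU 2 F 3, y.1.1 0 1 = 0 → y ∈ M := by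
    intro y hy
    obtain ⟨y11, y10, yn⟩ := entries hstar y
    rw [hy, star_zero, mul_zero, add_zero] at yn
    rw [hy, star_zero, neg_zero] at y10
    have he : ∀ z : Cfsg.SU 2 F 3, z.1.1 0 0 = y.1.1 0 0 → z.1.1 0 1 = 0 → z = y := fun z a b => eq_of_mat (by
      obtain ⟨z11, z10, -⟩ := entries hstar z
      rw [b, star_zero, neg_zero] at z10
      ext r s; fin_cases r <;> fin_cases s <;> simp [a, b, hy, y11, y10, z11, z10])
    have hdd : (d * d).1.1 = !![-1, 0; 0, -1] := by
      show d.1.1 * d.1.1 = _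
      rw [dia_val]
      ext r s; fin_cases r <;> fin_cases s <;> simp [Matrix.mul_apply, Fin.sum_univ_two, hstarζ]
      all_goals linear_combination hs
    rcases norm_one_cases hstar hF h1 h2 yn with h | h | h | h
    · rw [← he 1 (by simp [h]) (by simp)]; exact one_mem _
    · rw [← he (d * d) (by rw [hdd, h]; simp) (by rw [hdd]; simp)]; exact mul_mem hd hd
    · rw [← he d (by rw [dia_val, h]; simp) (by rw [dia_val]; simp)]; exact hd
    · rw [← he (d * d * d) (by
        show ((d * d).1.1 * d.1.1) 0 0 = _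
        rw [hdd, dia_val, h]; simp [Matrix.mul_apply, Fin.sum_univ_two]) (by
        show ((d * d).1.1 * d.1.1) 0 1 = _
        rw [hdd, dia_val]; simp [Matrix.mul_apply, Fin.sum_univ_two])]
      exact mul_mem (mul_mem hd hd) hd
  rcases h with h | h
  · exact hdia x h
  · have := hdia (x * w2 hstar) (by
      show (x.1.1 * (w2 (q := 3) hstar).1.1) 0 1 = 0
      rw [show (w2 (q := 3) hstar).1.1 = !![0, 1; -1, 0] from rfl]
      simp [Matrix.mul_apply, Fin.sum_univ_two, h])
    simpa using mul_mem this (inv_mem hw)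

set_option maxHeartbeats 1000000 in
/-- The monomial subgroup is normal with quotient of order three. -/
theorem quat_conj {x : Cfsg.SU 2 F 3} (ha : x.1.1 0 0 ≠ 0) (hb : x.1.1 0 1 ≠ 0) :
    x * dia hstar ζ h1 * x⁻¹ ∈ Subgroup.closure ({dia hstar ζ h1, w2 hstar} : Set (Cfsg.SU 2 F 3)) ∧
    x * w2 hstar * x⁻¹ ∈ Subgroup.closure ({dia hstar ζ h1, w2 hstar} : Set (Cfsg.SU 2 F 3)) ∧
    x ^ 3 ∈ Subgroup.closure ({dia hstar ζ h1, w2 hstar} : Set (Cfsg.SU 2 F 3)) ∧
    x.1.1 0 0 + star (x.1.1 0 0) ≠ 0 := by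
  obtain ⟨hs, hstarζ⟩ := zeta_sq hstar hF h1 h2
  obtain ⟨x11, x10, xn⟩ := entries hstar x
  have h3 := three_eq_zero hstar hF
  set a := x.1.1 0 0
  set b := x.1.1 0 1
  have hna : star a * a = -1 ∧ star b * b = -1 := by
    rcases norm_cases hstar hF ha with e | e <;> rcases norm_cases hstar hF hb with e' | e'
    · exact absurd (by linear_combination xn - e - e' : (1 : F) = 0) one_ne_zero
    · exact absurd (by linear_combination -xn + e + e' : (1 : F) = 0) one_ne_zero
    · exact absurd (by linear_combination -xn + e + e' : (1 : F) = 0) one_ne_zero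
    · exact ⟨e, e'⟩
  have hinv : (x⁻¹).1.1 = !![star a, -b; star b, a] := by
    have e := congrArg (· * (x⁻¹).1.1) (conjTranspose_mul_self hstar x)
    simp only [Matrix.mul_assoc, Matrix.one_mul] at e
    rw [show x.1.1 * (x⁻¹).1.1 = (x * x⁻¹).1.1 from rfl, mul_inv_cancel,
      show (1 : Cfsg.SU 2 F 3).1.1 = 1 from rfl, Matrix.mul_one] at e
    rw [← e]
    ext r s; fin_cases r <;> fin_cases s <;> simp [Matrix.conjTranspose_apply, x11, x10, a, b]
  refine ⟨mem_quat hstar hF ζ h1 h2 (Or.inr ?_), mem_quat hstar hF ζ h1 h2 ?_, ?_, ?_⟩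
  · show (x.1.1 * (dia (q := 3) hstar ζ h1).1.1 * (x⁻¹).1.1) 0 0 = 0
    rw [hinv, dia_val]
    simp [Matrix.mul_apply, Fin.sum_univ_two, hstarζ, a, b] at hna ⊢
    linear_combination ζ * hna.1 - ζ * hna.2
  · have e4 : a ^ 4 = -1 := by have := hna.1; rw [hstar] at this; linear_combination this
    have f4 : b ^ 4 = -1 := by have := hna.2; rw [hstar] at this; linear_combination this
    have e : (a * star b - b * star a) * (a * a + b * b) = 0 := by
      rw [hstar, hstar]; linear_combination (a * b) * (f4 - e4)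
    rcases mul_eq_zero.1 e with e | e
    · refine Or.inr ?_
      show (x.1.1 * (w2 (q := 3) hstar).1.1 * (x⁻¹).1.1) 0 0 = 0
      rw [hinv, show (w2 (q := 3) hstar).1.1 = !![0, 1; -1, 0] from rfl]
      simp [Matrix.mul_apply, Fin.sum_univ_two, a, b] at e ⊢
      linear_combination e
    · refine Or.inl ?_
      show (x.1.1 * (w2 (q := 3) hstar).1.1 * (x⁻¹).1.1) 0 1 = 0
      rw [hinv, show (w2 (q := 3) hstar).1.1 = !![0, 1; -1, 0] from rfl]
      simp [Matrix.mul_apply, Fin.sum_univ_two, a, b] at e ⊢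
      linear_combination e
  · set t := a + star a with ht
    have hCH : x.1.1 * x.1.1 = t • x.1.1 - 1 := by
      ext r s
      fin_cases r <;> fin_cases s <;> simp [Matrix.mul_apply, Fin.sum_univ_two, x11, x10, ht, a, b] at xn ⊢
      · linear_combination -xn
      · ring
      · ring
      · linear_combination -xn
    refine mem_quat hstar hF ζ h1 h2 (Or.inl ?_)
    rcases fixed_cases hstar hF (x := t) (by rw [ht, star_add, star_star, add_comm]) with e | e | e
    all_goals
      show (x ^ 3).1.1 0 1 = 0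
      rw [show (x ^ 3).1.1 = (x.1.1 * x.1.1) * x.1.1 by rw [pow_succ, pow_two]; rfl, hCH, Matrix.sub_mul,
        Matrix.smul_mul, Matrix.one_mul, hCH, e]
      simp
    · exfalso
      rw [ht] at e
      have hneg : star a = -a := by linear_combination e
      rcases sq_eq_one_iff.1 (show a ^ 2 = 1 by linear_combination -hna.1 + a * hneg) with h | h <;>
      · rw [h] at hneg; simp at hneg
        exact two_ne_zero' hstar hF (by first | linear_combination hneg | linear_combination -hneg)
  · intro e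
    have hneg : star a = -a := by linear_combination e
    rcases sq_eq_one_iff.1 (show a ^ 2 = 1 by linear_combination -hna.1 + a * hneg) with h | h <;>
    · rw [h] at hneg; simp at hneg
      exact two_ne_zero' hstar hF (by first | linear_combination hneg | linear_combination -hneg)

/-- Conjugations among the monomial elements. -/
theorem exists_rotate : ∃ x : Cfsg.SU 2 F 3, x * dia hstar ζ h1 * x⁻¹ = w2 hstar ∧
    x * w2 hstar * x⁻¹ = dia hstar ζ h1 * w2 hstar := by
  obtain ⟨hs, hstarζ⟩ := zeta_sq hstar hF h1 h2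
  have h3 := three_eq_zero hstar hF
  let x : Cfsg.SU 2 F 3 := mkSU hstar !![1 + ζ, 1 + ζ; -(1 - ζ), 1 - ζ]
    (by
      ext r s
      fin_cases r <;> fin_cases s <;> simp [Matrix.mul_apply, Fin.sum_univ_two, hstarζ]
      all_goals
        first
        | ring1
        | linear_combination (-2 : F) * hs + h3)
    (by rw [Matrix.det_fin_two_of]; linear_combination (-2 : F) * hs + h3)
  refine ⟨x, ?_, ?_⟩ <;> rw [mul_inv_eq_iff_eq_mul] <;> refine eq_of_mat ?_
  · show x.1.1 * (dia (q := 3) hstar ζ h1).1.1 = (w2 (q := 3) hstar).1.1 * x.1.1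
    rw [dia_val, show (w2 (q := 3) hstar).1.1 = !![0, 1; -1, 0] from rfl]
    ext r s
    fin_cases r <;> fin_cases s <;> simp [x, mkSU, Matrix.mul_apply, Fin.sum_univ_two, hstarζ]
    all_goals
      first
      | ring1
      | linear_combination hs
      | linear_combination -hs
  · show x.1.1 * (w2 (q := 3) hstar).1.1 = ((dia (q := 3) hstar ζ h1).1.1 * (w2 (q := 3) hstar).1.1) * x.1.1
    rw [dia_val, show (w2 (q := 3) hstar).1.1 = !![0, 1; -1, 0] from rfl]
    ext r s
    fin_cases r <;> fin_cases s <;> simp [x, mkSU, Matrix.mul_apply, Fin.sum_univ_two, hstarζ]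
    all_goals
      first
      | ring1
      | linear_combination hs
      | linear_combination -hs

end Q8

/-- The plane group has no nontrivial characters of exponent four. -/
theorem char_trivial {A : Type*} [CommGroup A] (f : Cfsg.SU 2 F 3 →* A) (hf : ∀ x, f x ^ 4 = 1) : f = 1 := by
  obtain ⟨ζ, h1, h2⟩ := exists_zeta hstar hF (le_refl 3)
  obtain ⟨x₀, e1, e2⟩ := exists_rotate hstar hF ζ h1 h2
  have a1 := congrArg f e1
  have a2 := congrArg f e2
  rw [map_mul, map_mul, map_inv, mul_inv_cancel_comm] at a1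
  rw [map_mul, map_mul, map_inv, mul_inv_cancel_comm, map_mul] at a2
  have hd : f (dia hstar ζ h1) = 1 := mul_right_cancel (a2.symm.trans (one_mul _).symm)
  have hw : f (w2 hstar) = 1 := by rw [← a1, hd]
  have hM : ∀ y ∈ Subgroup.closure ({dia hstar ζ h1, w2 hstar} : Set (Cfsg.SU 2 F 3)), f y = 1 := by
    intro y hy
    have : Subgroup.closure ({dia hstar ζ h1, w2 hstar} : Set (Cfsg.SU 2 F 3)) ≤ f.ker := by
      rw [Subgroup.closure_le]
      rintro z (rfl | rfl)
      · exact hd
      · exact hw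
    exact this hy
  refine MonoidHom.ext fun x => ?_
  rw [MonoidHom.one_apply]
  by_cases hab : x.1.1 0 1 = 0 ∨ x.1.1 0 0 = 0
  · exact hM x (mem_quat hstar hF ζ h1 h2 hab)
  · push Not at hab
    have h3' := hM _ (quat_conj hstar hF ζ h1 h2 hab.2 hab.1).2.2.1
    rw [map_pow] at h3'
    have h4 := hf x
    rwa [pow_succ, h3', one_mul] at h4

set_option maxHeartbeats 1000000 in
/-- The automorphisms preserving the diagonal are monomial. -/
theorem diag_form_three (α : MulAut (Cfsg.SU 2 F 3)) (hα : ∀ x, IsDia x → IsDia (α x)) :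
    ∃ (c : F) (φ : F →+* F), star c * c = 1 ∧ (∀ a, φ (star a) = star (φ a)) ∧
      ∀ x, (α x).1.1 = !![φ (x.1.1 0 0), c * φ (x.1.1 0 1); star c * φ (x.1.1 1 0), φ (x.1.1 1 1)] := by
  classical
  obtain ⟨ζ, h1, h2⟩ := exists_zeta hstar hF (le_refl 3)
  obtain ⟨hs, hstarζ⟩ := zeta_sq hstar hF h1 h2
  have hne2 := two_ne_zero' hstar hF
  have hζ0 : ζ ≠ 0 := fun h => by rw [h, mul_zero] at h1; exact zero_ne_one h1
  set d := dia (q := 3) hstar ζ h1 with hd
  set w := w2 (q := 3) hstar with hw
  have wv : w.1.1 = !![0, 1; -1, 0] := rfl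
  have hdw : w * d * w * d = w * w := eq_of_mat (by
    show w.1.1 * d.1.1 * w.1.1 * d.1.1 = w.1.1 * w.1.1
    rw [hd, dia_val, wv]
    ext r s
    fin_cases r <;> fin_cases s <;> simp [Matrix.mul_apply, Fin.sum_univ_two, hstarζ]
    all_goals linear_combination hs)
  obtain ⟨d11, d10, dn⟩ := entries hstar (α d)
  have d01 : (α d).1.1 0 1 = 0 := hα d (isDia_dia hstar ζ h1)
  rw [d01, star_zero, mul_zero, add_zero] at dn
  rw [d01, star_zero, neg_zero] at d10
  have hdd : (d * d).1.1 = !![-1, 0; 0, -1] := by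
    show d.1.1 * d.1.1 = _
    rw [hd, dia_val]
    ext r s; fin_cases r <;> fin_cases s <;> simp [Matrix.mul_apply, Fin.sum_univ_two, hstarζ]
    all_goals linear_combination hs
  have hd2 : (α d).1.1 0 0 = ζ ∨ (α d).1.1 0 0 = -ζ := by
    rcases norm_one_cases hstar hF h1 h2 dn with h | h | h | h
    rotate_left 2
    · exact Or.inl h
    · exact Or.inr h
    all_goals
      exfalso
      have : d * d = 1 := α.injective (by
        rw [map_one, map_mul]
        refine eq_of_mat ?_
        show (α d).1.1 * (α d).1.1 = 1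
        ext r s; fin_cases r <;> fin_cases s <;> simp [Matrix.mul_apply, Fin.sum_univ_two, d01, d10, d11, h])
      have := congrArg (fun x : Cfsg.SU 2 F 3 => x.1.1 0 0) this
      simp only [hdd] at this
      simp at this
      exact hne2 (by linear_combination -this)
  obtain ⟨w11, w10, wn⟩ := entries hstar (α w)
  have w00 : (α w).1.1 0 0 = 0 := by
    have e := congrArg α hdw
    simp only [map_mul] at e
    have e' : α d * α w * α d = α w := by
      have := congrArg (fun z => (α w)⁻¹ * z) e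
      simpa [mul_assoc] using this
    have e00 := congrArg (fun x : Cfsg.SU 2 F 3 => x.1.1 0 0) e'
    change ((α d).1.1 * (α w).1.1 * (α d).1.1) 0 0 = _ at e00
    simp [Matrix.mul_apply, Fin.sum_univ_two, d01, d10] at e00
    rcases hd2 with h | h <;> rw [h] at e00 <;>
      exact (mul_eq_zero.1 (by linear_combination -e00 + (α w).1.1 0 0 * hs : (2 : F) * (α w).1.1 0 0 = 0)).resolve_left hne2
  rw [w00, mul_zero, zero_add] at wn
  rw [w00, star_zero] at w11
  obtain ⟨φ, hφ, hφζ⟩ : ∃ φ : F →+* F, (∀ a, φ (star a) = star (φ a)) ∧ φ ζ = (α d).1.1 0 0 := by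
    rcases hd2 with h | h
    · exact ⟨RingHom.id F, fun a => rfl, h.symm⟩
    · exact ⟨starRingEnd F, fun a => rfl, by rw [starRingEnd_apply, hstarζ, h]⟩
  set c := (α w).1.1 0 1 with hc
  obtain ⟨β, hβ⟩ := exists_autD (q := 3) hstar ![c, 1] (by intro i; fin_cases i <;> simp [wn]) φ hφ
  have hφn : ∀ y, φ (-y) = -φ y := map_neg φ
  let γ : MulAut (Cfsg.SU 2 F 3) := α.trans β.symm
  have hγd : γ d = d := β.injective (by
    rw [show β (γ d) = α d from β.apply_symm_apply _]
    refine eq_of_mat ?_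
    ext r s
    rw [hβ]
    have e0 : d.1.1 = !![ζ, 0; 0, star ζ] := rfl
    fin_cases r <;> fin_cases s <;> simp [e0, d01, d10, d11, hφ, hφζ]
    linear_combination -(α d).1.1 0 0 * wn)
  have hγw : γ w = w := β.injective (by
    rw [show β (γ w) = α w from β.apply_symm_apply _]
    refine eq_of_mat ?_
    ext r s
    rw [hβ]
    fin_cases r <;> fin_cases s <;> simp [wv, w00, w10, w11, ← hc])
  have hM : ∀ y ∈ Subgroup.closure ({d, w} : Set (Cfsg.SU 2 F 3)), γ y = y := by
    intro y hy
    exact MonoidHom.eqOn_closure (f := γ.toMonoidHom) (g := MonoidHom.id _)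
      (by rintro z (rfl | rfl) <;> assumption) hy
  have hγ : ∀ x, γ x = x := by
    intro x
    by_cases hab : x.1.1 0 1 = 0 ∨ x.1.1 0 0 = 0
    · exact hM x (mem_quat hstar hF ζ h1 h2 hab)
    push Not at hab
    obtain ⟨c1, c2, c3, -⟩ := quat_conj hstar hF ζ h1 h2 hab.2 hab.1
    obtain ⟨z, hz⟩ : ∃ z, z = x⁻¹ * γ x := ⟨_, rfl⟩
    have comm : ∀ y, γ y = y → γ (x * y * x⁻¹) = x * y * x⁻¹ → z * y = y * z := fun y hy h => by
      rw [map_mul, map_mul, map_inv, hy] at h
      rw [hz]
      have := congrArg (fun v => x⁻¹ * v * γ x) h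
      simpa [mul_assoc] using this
    have zd := congrArg (fun v : Cfsg.SU 2 F 3 => v.1.1 0 1) (comm d hγd (hM _ c1))
    have zw := congrArg (fun v : Cfsg.SU 2 F 3 => v.1.1 0 0) (comm w hγw (hM _ c2))
    have zw' := congrArg (fun v : Cfsg.SU 2 F 3 => v.1.1 0 1) (comm w hγw (hM _ c2))
    obtain ⟨z11, z10, zn⟩ := entries hstar z
    change (z.1.1 * d.1.1) 0 1 = (d.1.1 * z.1.1) 0 1 at zd
    change (z.1.1 * w.1.1) 0 0 = (w.1.1 * z.1.1) 0 0 at zw
    change (z.1.1 * w.1.1) 0 1 = (w.1.1 * z.1.1) 0 1 at zw'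
    rw [hd, dia_val] at zd
    simp [Matrix.mul_apply, Fin.sum_univ_two, hstarζ, wv] at zd zw zw'
    have z01 : z.1.1 0 1 = 0 :=
      (mul_eq_zero.1 (by linear_combination -zd : (2 : F) * ζ * z.1.1 0 1 = 0)).resolve_left
        (mul_ne_zero hne2 hζ0)
    rw [z01, star_zero, mul_zero, add_zero] at zn
    rw [z11] at zw'
    rw [← zw'] at zn
    have hzz : z = 1 ∨ z.1.1 = !![-1, 0; 0, -1] := by
      rcases mul_self_eq_one_iff.1 zn with h | h
      · refine Or.inl (eq_of_mat ?_)
        ext r s; fin_cases r <;> fin_cases s <;> simp [h, z01, z10, z11]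
      · refine Or.inr ?_
        ext r s; fin_cases r <;> fin_cases s <;> simp [h, z01, z10, z11]
    rcases hzz with h | h
    · rw [h] at hz; exact (inv_mul_eq_one.1 hz.symm).symm
    · exfalso
      have hzx : γ x = x * z := by rw [hz, mul_inv_cancel_left]
      have hm : (γ x).1.1 = -x.1.1 := by
        rw [hzx]
        show x.1.1 * z.1.1 = _
        rw [h]
        ext r s; fin_cases r <;> fin_cases s <;> simp [Matrix.mul_apply, Fin.sum_univ_two]
      have e := congrArg (fun v : Cfsg.SU 2 F 3 => v.1.1) (hM _ c3)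
      rw [map_pow] at e
      change (γ x).1.1 ^ 3 = x.1.1 ^ 3 at e
      rw [hm, Odd.neg_pow (by decide)] at e
      have hx3 : ((x ^ 3).1.1).det = 1 := (x ^ 3).1.2
      rw [show (x ^ 3).1.1 = x.1.1 ^ 3 from rfl, show x.1.1 ^ 3 = 0 from by
        ext r s
        have := congrFun (congrFun e r) s
        rw [Matrix.neg_apply] at this
        exact (mul_eq_zero.1 (by linear_combination -this : (2 : F) * (x.1.1 ^ 3) r s = 0)).resolve_left hne2,
        Matrix.det_zero] at hx3
      exact zero_ne_one hx3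
  refine ⟨c, φ, wn, hφ, fun x => ?_⟩
  rw [show α x = β x by rw [← β.apply_symm_apply (α x)]; exact congrArg β (hγ x)]
  have hc' : c * star c = 1 := by rw [mul_comm]; exact wn
  ext r s
  rw [hβ]
  fin_cases r <;> fin_cases s <;> simp
  · linear_combination φ (x.1.1 0 0) * hc'
  · ring

/-- The centre of the three-dimensional group is trivial. -/
theorem center_three : Subgroup.center (Cfsg.SU 3 F 3) = ⊥ := by
  obtain ⟨p, e, s, hp, hchar, hqp, he, hs⟩ := Classical.exists_usigma hF
  haveI : Finite (Cfsg.SU 3 F 3) := Subtype.finite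
  refine Subgroup.eq_bot_of_card_eq _ ?_
  rw [Classical.UCount.card_center_SU hs (by norm_num)]
  rfl

/-! ### Uniform statements -/

omit hstar hF in
/-- An automorphism preserving the diagonal is monomial. -/
theorem exists_form {q : ℕ} (hst : ∀ x : F, star x = x ^ q) (hF' : Fintype.card F = q ^ 2) (hq : 3 ≤ q)
    (α : MulAut (Cfsg.SU 2 F q)) (hα : ∀ x, IsDia x → IsDia (α x)) :
    ∃ (c : F) (φ : F →+* F), star c * c = 1 ∧ (∀ a, φ (star a) = star (φ a)) ∧
      ∀ x, (α x).1.1 = !![φ (x.1.1 0 0), c * φ (x.1.1 0 1); star c * φ (x.1.1 1 0), φ (x.1.1 1 1)] := by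
  rcases eq_or_lt_of_le hq with rfl | h
  · exact diag_form_three hst hF' α hα
  · exact exists_diag_form hst hF' h α hα

omit hstar hF in
/-- The plane group has only trivial characters with values in the roots of unity of order dividing `q + 1`. -/
theorem norm_char_trivial {q : ℕ} (hst : ∀ x : F, star x = x ^ q) (hF' : Fintype.card F = q ^ 2) (hq : 3 ≤ q)
    (f : Cfsg.SU 2 F q →* Fˣ) (hf : ∀ x, f x ^ (q + 1) = 1) : f = 1 := by
  rcases eq_or_lt_of_le hq with rfl | h
  · exact char_trivial hst hF' f hf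
  · refine MonoidHom.ext fun x => ?_
    have : x ∈ commutator (Cfsg.SU 2 F q) := by rw [perfect_two hst hF' h]; exact Subgroup.mem_top x
    exact Abelianization.commutator_subset_ker f this

end Cfsg.Agent.Small.Phan
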