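import Cfsg.Agent.Lib.Small.Phan.Three

/-!
Aligning the windows of a chain of standard pairs.
-/

set_option autoImplicit false
set_option linter.unusedSectionVars false
set_option linter.style.haveILetI false

namespace Cfsg.Agent.Small.Phan

open Matrix Cfsg.Agent.Small.Unitary Cfsg.Agent.Small.UCover Cfsg.Agent.Small.SUPres

universe u v

variable {F : Type u} [Field F] [Fintype F] [StarRing F] {q : ℕ} (hstar : ∀ x : F, star x = x ^ q)

include hstar in
theorem IsDia.mul_comm {s t : Cfsg.SU 2 F q} (hs : IsDia s) (ht : IsDia t) : s * t = t * s := by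
  refine eq_of_mat ?_
  show s.1.1 * t.1.1 = t.1.1 * s.1.1
  have a : s.1.1 0 1 = 0 := hs
  have b : t.1.1 0 1 = 0 := ht
  have a' := hs.low hstar
  have b' := ht.low hstar
  ext r c
  fin_cases r <;> fin_cases c <;> simp [Matrix.mul_apply, Fin.sum_univ_two, a, b, a', b'] <;> ring

include hstar in
theorem IsDia.of_inv {t : Cfsg.SU 2 F q} (h : (t⁻¹).1.1 1 0 = 0) : IsDia t := by
  have h01 : (t⁻¹).1.1 0 1 = 0 := by
    have := (entries hstar t⁻¹).2.1
    rw [h] at this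
    exact star_eq_zero.1 (neg_eq_zero.1 this.symm)
  have h11 : (t⁻¹).1.1 1 1 ≠ 0 := fun h0 => by
    have := (t⁻¹).1.2
    rw [Matrix.det_fin_two, h, h0] at this
    simp at this
  have e : (t.1.1 * (t⁻¹).1.1) 0 1 = (1 : Matrix (Fin 2) (Fin 2) F) 0 1 := by
    rw [show t.1.1 * (t⁻¹).1.1 = (t * t⁻¹).1.1 from rfl, mul_inv_cancel]
    rfl
  generalize (t⁻¹).1.1 = S at e h01 h11
  simp [Matrix.mul_apply, Fin.sum_univ_two, h01, h11] at e
  exact e

theorem eq_one_of_bA_central {x : Cfsg.SU 2 F q} (h : bA hstar x ∈ Subgroup.center (Cfsg.SU 3 F q)) :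
    x = 1 := by
  have e := congrArg (fun g => act g (Pi.single 2 (1 : F))) (Subgroup.mem_center_iff.1 h (bB hstar (w2 hstar)))
  simp only [act_mul] at e
  rw [act_bA_two, act_bB_two, show (Pi.single 1 (1 : F) : Fin 3 → F) = ![0, 1, 0] by
    funext j; fin_cases j <;> rfl, act_bA_vec] at e
  have e0 : x.1.1 0 1 = 0 := by simpa [act, Matrix.mulVec, dotProduct, Fin.sum_univ_two] using (congrFun e 0).symm
  have e1 : x.1.1 1 1 = 1 := by simpa [act, Matrix.mulVec, dotProduct, Fin.sum_univ_two] using (congrFun e 1).symm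
  obtain ⟨a, b, -⟩ := entries hstar x
  rw [e1] at a
  have e00 : x.1.1 0 0 = 1 := by have := congrArg star a; simpa using this.symm
  refine eq_of_mat ?_
  ext r c
  fin_cases r <;> fin_cases c <;> simp [e00, e0, e1, b]

theorem eq_one_of_bB_central {x : Cfsg.SU 2 F q} (h : bB hstar x ∈ Subgroup.center (Cfsg.SU 3 F q)) :
    x = 1 := by
  have e := congrArg (fun g => act g (Pi.single 0 (1 : F))) (Subgroup.mem_center_iff.1 h (bA hstar (w2 hstar)))
  simp only [act_mul] at e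
  rw [act_bB_zero, act_bA_zero, act_neg', show (Pi.single 1 (1 : F) : Fin 3 → F) = ![0, 1, 0] by
    funext j; fin_cases j <;> rfl, act_bB_vec, neg_inj] at e
  have e0 : x.1.1 0 0 = 1 := by simpa [act, Matrix.mulVec, dotProduct, Fin.sum_univ_two] using (congrFun e 1).symm
  have e1 : x.1.1 1 0 = 0 := by simpa [act, Matrix.mulVec, dotProduct, Fin.sum_univ_two] using (congrFun e 2).symm
  obtain ⟨a, b, -⟩ := entries hstar x
  rw [e0, star_one] at a
  rw [e1] at b
  have e01 : x.1.1 0 1 = 0 := star_eq_zero.1 (neg_eq_zero.1 b.symm)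
  refine eq_of_mat ?_
  ext r c
  fin_cases r <;> fin_cases c <;> simp [e0, e01, e1, a]

variable {G : Type v} [Group G]

theorem inj_bA (ψ : Cfsg.SU 3 F q →* G) (hk : ψ.ker ≤ Subgroup.center _) :
    Function.Injective (ψ.comp (bA hstar)) :=
  (injective_iff_map_eq_one _).2 fun _ hx => eq_one_of_bA_central hstar (hk hx)

theorem inj_bB (ψ : Cfsg.SU 3 F q →* G) (hk : ψ.ker ≤ Subgroup.center _) :
    Function.Injective (ψ.comp (bB hstar)) :=
  (injective_iff_map_eq_one _).2 fun _ hx => eq_one_of_bB_central hstar (hk hx)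

theorem bA_dia_conj_bB {t : Cfsg.SU 2 F q} (ht : IsDia t) (y : Cfsg.SU 2 F q) :
    ∃ y' : Cfsg.SU 2 F q, bA hstar t * bB hstar y * (bA hstar t)⁻¹ = bB hstar y' ∧
      y'.1.1 0 0 = y.1.1 0 0 ∧ y'.1.1 0 1 = t.1.1 1 1 * y.1.1 0 1 := by
  obtain ⟨t11, -, tn⟩ := entries hstar t
  rw [show t.1.1 0 1 = 0 from ht, star_zero, mul_zero, add_zero] at tn
  obtain ⟨y11, y10, yn⟩ := entries hstar y
  have hcc : t.1.1 1 1 * star (t.1.1 1 1) = 1 := by rw [t11, star_star]; exact tn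
  set c := t.1.1 1 1
  let y' : Cfsg.SU 2 F q := mkSU hstar !![y.1.1 0 0, c * y.1.1 0 1; star c * y.1.1 1 0, y.1.1 1 1]
    (by
      ext r s
      fin_cases r <;> fin_cases s <;> simp [Matrix.mul_apply, Fin.sum_univ_two, y11, y10]
      · linear_combination yn + star (y.1.1 0 1) * y.1.1 0 1 * hcc
      · ring
      · ring
      · linear_combination yn + star (y.1.1 0 1) * y.1.1 0 1 * hcc)
    (by
      rw [Matrix.det_fin_two_of]
      have := y.1.2
      rw [Matrix.det_fin_two] at this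
      linear_combination this - (y.1.1 0 1 * y.1.1 1 0) * hcc)
  refine ⟨y', mul_inv_eq_iff_eq_mul.2 (eq_of_vec fun a b d => ?_), rfl, rfl⟩
  rw [act_mul, act_mul, act_bB_vec, act_bA_vec, act_bA_vec, act_bB_vec]
  have ht0 := ht.low hstar
  have ht1 : t.1.1 0 1 = 0 := ht
  funext r
  fin_cases r <;> simp [act, Matrix.mulVec, dotProduct, Fin.sum_univ_two, ht0, ht1, y', mkSU]
  · ring
  · linear_combination -(y.1.1 1 0 * b) * hcc

/-- An element of one block normalising the other is diagonal. -/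
theorem dia_of_normalizes {t : Cfsg.SU 2 F q}
    (h : ∀ y, bA hstar t * bB hstar y * (bA hstar t)⁻¹ ∈ (bB hstar).range) : IsDia t := by
  refine IsDia.of_inv hstar ?_
  have hfix : act (bB hstar (w2 hstar)) (act (bA hstar t⁻¹) (Pi.single 0 (1 : F))) =
      act (bA hstar t⁻¹) (Pi.single 0 (1 : F)) := by
    obtain ⟨y', hy'⟩ := h (w2 hstar)
    have h' : bB hstar (w2 hstar) * bA hstar t⁻¹ = bA hstar t⁻¹ * bB hstar y' := by
      rw [hy', map_inv]
      group
    rw [← act_mul, h', act_mul, act_bB_zero]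
  rw [show (Pi.single 0 (1 : F) : Fin 3 → F) = ![1, 0, 0] by funext j; fin_cases j <;> rfl, act_bA_vec,
    act_bB_vec] at hfix
  have := congrFun hfix 2
  simpa [act, Matrix.mulVec, dotProduct, Fin.sum_univ_two, w2, mkSU] using this

/-- The transition automorphism of two consecutive windows preserves the torus. -/
theorem torus (hF : Fintype.card F = q ^ 2) (hq : 3 ≤ q) (ψ₀ ψ₁ : Cfsg.SU 3 F q →* G)
    (hk₁ : ψ₁.ker ≤ Subgroup.center _) (α : MulAut (Cfsg.SU 2 F q))
    (hα : ∀ x, ψ₁ (bA hstar (α x)) = ψ₀ (bB hstar x))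
    (hcomm : ∀ x y, Commute (ψ₀ (bA hstar x)) (ψ₁ (bB hstar y))) :
    ∀ x, IsDia x → IsDia (α x) := by
  classical
  obtain ⟨ζ, hζ, hζ2⟩ := exists_zeta hstar hF hq
  have hd : IsDia (dia (q := q) hstar ζ hζ) := by
    show (!![ζ, 0; 0, star ζ] : Matrix (Fin 2) (Fin 2) F) 0 1 = 0
    simp
  set δ := ψ₀ (bA hstar (dia hstar ζ hζ)) with hδ
  have key : ∀ s, IsDia (α s) → IsDia s := by
    intro s ht
    obtain ⟨s', hs', hs00, hs01⟩ := bA_dia_conj_bB hstar hd s
    have e1 : δ * ψ₁ (bA hstar (α s)) * δ⁻¹ = ψ₁ (bA hstar (α s')) := by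
      rw [hα, hα, ← hs', map_mul, map_mul, map_inv]
    have hnorm : ∀ y, ∃ y', ψ₁ (bA hstar (α s') * bB hstar y * (bA hstar (α s'))⁻¹) = ψ₁ (bB hstar y') := by
      intro y
      obtain ⟨y', hy', -, -⟩ := bA_dia_conj_bB hstar ht y
      refine ⟨y', ?_⟩
      have c1 := hcomm (dia hstar ζ hζ) y
      have c2 := hcomm (dia hstar ζ hζ) y'
      rw [← hδ] at c1 c2
      have e2 : ψ₁ (bA hstar (α s)) * ψ₁ (bB hstar y) * (ψ₁ (bA hstar (α s)))⁻¹ = ψ₁ (bB hstar y') := by
        rw [← hy', map_mul, map_mul, map_inv]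
      calc ψ₁ (bA hstar (α s') * bB hstar y * (bA hstar (α s'))⁻¹)
          = δ * ψ₁ (bA hstar (α s)) * (δ⁻¹ * ψ₁ (bB hstar y) * δ) * (ψ₁ (bA hstar (α s)))⁻¹ * δ⁻¹ := by
            rw [map_mul, map_mul, map_inv, ← e1]; group
        _ = δ * (ψ₁ (bA hstar (α s)) * ψ₁ (bB hstar y) * (ψ₁ (bA hstar (α s)))⁻¹) * δ⁻¹ := by
            rw [show δ⁻¹ * ψ₁ (bB hstar y) * δ = ψ₁ (bB hstar y) by rw [mul_assoc, ← c1.eq, inv_mul_cancel_left]]
            group
        _ = ψ₁ (bB hstar y') := by rw [e2, c2.eq, mul_inv_cancel_right]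
    have hexact : (bB hstar).range.map (MulAut.conj (bA hstar (α s'))).toMonoidHom ≤ (bB hstar).range := by
      rcases eq_or_lt_of_le hq with h3 | h4
      · subst h3
        rintro _ ⟨_, ⟨y, rfl⟩, rfl⟩
        obtain ⟨y', hy'⟩ := hnorm y
        have hk : ψ₁.ker = ⊥ := by rw [eq_bot_iff, ← center_three hstar hF]; exact hk₁
        exact ⟨y', ((MonoidHom.ker_eq_bot_iff ψ₁).1 hk hy').symm⟩
      rw [MonoidHom.range_eq_map, ← perfect_two hstar hF h4, commutator_def, Subgroup.map_commutator,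
        Subgroup.map_commutator, Subgroup.commutator_le]
      intro a ha b hb
      obtain ⟨_, ⟨y, -, rfl⟩, rfl⟩ := ha
      obtain ⟨_, ⟨z, -, rfl⟩, rfl⟩ := hb
      obtain ⟨y', hy'⟩ := hnorm y
      obtain ⟨z', hz'⟩ := hnorm z
      have cy : (bB hstar y')⁻¹ * (MulAut.conj (bA hstar (α s'))).toMonoidHom (bB hstar y) ∈
          Subgroup.center (Cfsg.SU 3 F q) :=
        hk₁ (by rw [MonoidHom.mem_ker, map_mul, map_inv]; exact inv_mul_eq_one.2 hy'.symm)
      have cz : (bB hstar z')⁻¹ * (MulAut.conj (bA hstar (α s'))).toMonoidHom (bB hstar z) ∈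
          Subgroup.center (Cfsg.SU 3 F q) :=
        hk₁ (by rw [MonoidHom.mem_ker, map_mul, map_inv]; exact inv_mul_eq_one.2 hz'.symm)
      generalize (MulAut.conj (bA hstar (α s'))).toMonoidHom (bB hstar y) = A at cy ⊢
      generalize (MulAut.conj (bA hstar (α s'))).toMonoidHom (bB hstar z) = B at cz ⊢
      have hA : A = bB hstar y' * ((bB hstar y')⁻¹ * A) := by group
      have hB : B = bB hstar z' * ((bB hstar z')⁻¹ * B) := by group
      generalize (bB hstar y')⁻¹ * A = c at hA cy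
      generalize (bB hstar z')⁻¹ * B = d at hB cz
      refine Subgroup.subset_closure ?_
      refine ⟨bB hstar y', ⟨_, Subgroup.mem_top _, rfl⟩, bB hstar z', ⟨_, Subgroup.mem_top _, rfl⟩, ?_⟩
      rw [hA, hB, commutatorElement_def, commutatorElement_def]
      have hc := Subgroup.mem_center_iff.1 cy
      have hd := Subgroup.mem_center_iff.1 cz
      symm
      calc bB hstar y' * c * (bB hstar z' * d) * (bB hstar y' * c)⁻¹ * (bB hstar z' * d)⁻¹
          = bB hstar y' * (c * bB hstar z') * (d * c⁻¹ * (bB hstar y')⁻¹) * d⁻¹ * (bB hstar z')⁻¹ := by group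
        _ = bB hstar y' * (bB hstar z' * c) * (c⁻¹ * ((bB hstar y')⁻¹ * d)) * d⁻¹ * (bB hstar z')⁻¹ := by
            rw [← hc (bB hstar z'), ← hd c⁻¹, mul_assoc c⁻¹ d, ← hd (bB hstar y')⁻¹]
        _ = bB hstar y' * bB hstar z' * (bB hstar y')⁻¹ * (bB hstar z')⁻¹ := by group
    have ht' : IsDia (α s') := dia_of_normalizes hstar fun y => hexact ⟨_, ⟨y, rfl⟩, rfl⟩
    have hss : s * s' = s' * s := α.injective (by rw [map_mul, map_mul, ht.mul_comm hstar ht'])
    have e00 := congrFun (congrFun (congrArg (fun g : Cfsg.SU 2 F q => g.1.1) hss) 0) 0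
    obtain ⟨-, s10, -⟩ := entries hstar s
    obtain ⟨-, s10', -⟩ := entries hstar s'
    change (s.1.1 * s'.1.1) 0 0 = (s'.1.1 * s.1.1) 0 0 at e00
    simp [Matrix.mul_apply, Fin.sum_univ_two, s10, s10', hs01, hs00, dia_val] at e00
    have : (ζ - star ζ) * (s.1.1 0 1 * star (s.1.1 0 1)) = 0 := by linear_combination e00
    rcases mul_eq_zero.1 this with h | h
    · exact absurd (by linear_combination ζ * h + hζ) hζ2
    · rcases mul_eq_zero.1 h with h | h
      · exact h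
      · exact star_eq_zero.1 h
  haveI : Finite (Cfsg.SU 2 F q) := Subtype.finite
  intro x hx
  let r : {x : Cfsg.SU 2 F q // IsDia x} → {x : Cfsg.SU 2 F q // IsDia x} := fun t =>
    ⟨α.symm t.1, key _ (by rw [α.apply_symm_apply]; exact t.2)⟩
  obtain ⟨t, ht⟩ := (Finite.injective_iff_surjective.1 fun a b h => Subtype.ext
    (α.symm.injective (congrArg Subtype.val h)) : Function.Surjective r) ⟨x, hx⟩
  rw [show x = α.symm t.1 from (congrArg Subtype.val ht).symm, α.apply_symm_apply]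
  exact t.2

variable (W : ℕ → Subgroup G)

/-- A window of the chain. -/
def IsWindow (i : ℕ) (ψ : Cfsg.SU 3 F q →* G) : Prop :=
  ψ.ker ≤ Subgroup.center _ ∧ (ψ.comp (bA hstar)).range = W i ∧ (ψ.comp (bB hstar)).range = W (i + 1)

theorem exists_next (hF : Fintype.card F = q ^ 2) (hq : 3 ≤ q) {i : ℕ} {ψ₀ φ : Cfsg.SU 3 F q →* G}
    (h₀ : IsWindow hstar W i ψ₀) (hφ : IsWindow hstar W (i + 1) φ)
    (hc : ∀ x ∈ W i, ∀ y ∈ W (i + 2), Commute x y) :
    ∃ ψ₁, IsWindow hstar W (i + 1) ψ₁ ∧ ∀ x, ψ₁ (bA hstar x) = ψ₀ (bB hstar x) := by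
  classical
  obtain ⟨hk₀, hA₀, hB₀⟩ := h₀
  obtain ⟨hk, hA, hB⟩ := hφ
  let α : MulAut (Cfsg.SU 2 F q) := ((MonoidHom.ofInjective (inj_bB hstar ψ₀ hk₀)).trans
    (MulEquiv.subgroupCongr (hB₀.trans hA.symm))).trans (MonoidHom.ofInjective (inj_bA hstar φ hk)).symm
  have hα : ∀ x, φ (bA hstar (α x)) = ψ₀ (bB hstar x) := fun x =>
    MonoidHom.apply_ofInjective_symm (inj_bA hstar φ hk) _
  have hcomm : ∀ x y, Commute (ψ₀ (bA hstar x)) (φ (bB hstar y)) := fun x y =>
    hc _ (hA₀ ▸ ⟨x, rfl⟩) _ (by rw [show i + 2 = i + 1 + 1 from rfl, ← hB]; exact ⟨y, rfl⟩)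
  obtain ⟨β, hβA, hβB⟩ := exists_extend hstar α (exists_form hstar hF hq α (torus hstar hF hq ψ₀ φ hk α hα hcomm))
  haveI : Finite (Cfsg.SU 2 F q) := Subtype.finite
  choose g hg using hβB
  have hgs : Function.Surjective g := Finite.injective_iff_surjective.1 fun a b h =>
    blk_injective hstar _ (β.injective (by rw [show β (blk hstar _ a) = _ from hg a, h]; exact (hg b).symm))
  refine ⟨φ.comp β.toMonoidHom, ⟨fun x hx => ?_, ?_, ?_⟩, fun x => ?_⟩
  · rw [Subgroup.mem_center_iff]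
    intro y
    exact β.injective (by rw [map_mul, map_mul]; exact Subgroup.mem_center_iff.1 (hk hx) (β y))
  · rw [← hA]
    ext z
    constructor
    · rintro ⟨x, rfl⟩
      exact ⟨α x, (congrArg φ (hβA x)).symm⟩
    · rintro ⟨x, rfl⟩
      exact ⟨α.symm x, by show φ (β (bA hstar (α.symm x))) = _; rw [hβA, α.apply_symm_apply]; rfl⟩
  · rw [← hB]
    ext z
    constructor
    · rintro ⟨x, rfl⟩
      exact ⟨g x, (congrArg φ (hg x)).symm⟩
    · rintro ⟨x, rfl⟩
      obtain ⟨y, rfl⟩ := hgs x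
      exact ⟨y, congrArg φ (hg y)⟩
  · show φ (β (bA hstar x)) = _
    rw [hβA, hα]

/-- A chain of standard pairs with commuting distant members can be aligned. -/
theorem exists_chain (hF : Fintype.card F = q ^ 2) (hq : 3 ≤ q) {n : ℕ} (hn : 3 ≤ n)
    (φ : ℕ → (Cfsg.SU 3 F q →* G)) (hφ : ∀ i, i + 3 ≤ n → IsWindow hstar W i (φ i))
    (hc : ∀ i j, i + 2 ≤ j → j + 2 ≤ n → ∀ x ∈ W i, ∀ y ∈ W j, Commute x y) :
    ∃ C : Chain G hstar n, (∀ i, i + 3 ≤ n → IsWindow hstar W i (C.ψ i)) ∧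
      ∀ i, i + 2 ≤ n → W i ≤ (C.u i).range := by
  classical
  let ψ : ℕ → (Cfsg.SU 3 F q →* G) := fun i => Nat.rec (φ 0) (fun i prev =>
    if h : IsWindow hstar W i prev ∧ i + 4 ≤ n then
      (exists_next hstar W hF hq h.1 (hφ (i + 1) (by omega)) (hc i (i + 2) le_rfl (by omega))).choose
    else φ (i + 1)) i
  have hs : ∀ i, ψ (i + 1) = if h : IsWindow hstar W i (ψ i) ∧ i + 4 ≤ n then
      (exists_next hstar W hF hq h.1 (hφ (i + 1) (by omega)) (hc i (i + 2) le_rfl (by omega))).choose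
    else φ (i + 1) := fun i => rfl
  have hw : ∀ i, i + 3 ≤ n → IsWindow hstar W i (ψ i) := by
    intro i
    induction i with
    | zero => exact fun h => hφ 0 h
    | succ i ih =>
      intro h
      have hh : IsWindow hstar W i (ψ i) ∧ i + 4 ≤ n := ⟨ih (by omega), h⟩
      rw [hs, dif_pos hh]
      exact (exists_next hstar W hF hq hh.1 (hφ (i + 1) (by omega))
        (hc i (i + 2) le_rfl (by omega))).choose_spec.1
  have hmem : ∀ i, i + 2 ≤ n → ∀ x, (if i + 3 ≤ n then ψ i (bA hstar x) else ψ (i - 1) (bB hstar x)) ∈ W i := by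
    intro i hi x
    split_ifs with h
    · rw [← (hw i h).2.1]; exact ⟨x, rfl⟩
    · obtain ⟨k, rfl⟩ : ∃ k, i = k + 1 := ⟨i - 1, by omega⟩
      rw [Nat.add_sub_cancel, ← (hw k (by omega)).2.2]
      exact ⟨x, rfl⟩
  let C : Chain G hstar n :=
    { ψ := ψ
      compat := fun i hi => by
        have hh : IsWindow hstar W i (ψ i) ∧ i + 4 ≤ n := ⟨hw i (by omega), hi⟩
        rw [hs, dif_pos hh]
        exact (exists_next hstar W hF hq hh.1 (hφ (i + 1) (by omega))
          (hc i (i + 2) le_rfl (by omega))).choose_spec.2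
      comm := fun i j hij hj x y => hc i j hij hj _ (hmem i (by omega) x) _ (hmem j hj y) }
  refine ⟨C, hw, fun i hi => ?_⟩
  by_cases h : i + 3 ≤ n
  · rw [← (hw i h).2.1]
    rintro _ ⟨x, rfl⟩
    exact ⟨x, (C.ψ_bA h x).symm⟩
  · obtain ⟨k, rfl⟩ : ∃ k, i = k + 1 := ⟨i - 1, by omega⟩
    rw [← (hw k (by omega)).2.2]
    rintro _ ⟨x, rfl⟩
    exact ⟨x, (C.ψ_bB (by omega) x).symm⟩

/-- Any chain of standard pairs with commuting distant members is a quotient of the large group. -/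
theorem exists_surjection (hF : Fintype.card F = q ^ 2) (hq : 4 ≤ q) {n : ℕ} (hn : 3 ≤ n)
    (φ : ℕ → (Cfsg.SU 3 F q →* G)) (hφ : ∀ i, i + 3 ≤ n → IsWindow hstar W i (φ i))
    (hc : ∀ i j, i + 2 ≤ j → j + 2 ≤ n → ∀ x ∈ W i, ∀ y ∈ W j, Commute x y)
    (hgen : ∀ M : Subgroup G, (∀ i, i + 2 ≤ n → W i ≤ M) → M = ⊤) :
    ∃ f : Cfsg.SU n F q →* G, Function.Surjective f := by
  obtain ⟨C, -, hCW⟩ := exists_chain hstar W hF (by omega) hn φ hφ hc
  obtain ⟨f, hf⟩ := C.exists_hom hF (by omega) hn (Or.inl hq)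
  exact ⟨f, MonoidHom.range_eq_top.1 (hgen _ fun i hi => (hCW i hi).trans (hf i hi))⟩

end Cfsg.Agent.Small.Phan
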