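import Cfsg.Agent.Lib.Small.Phan.Forms
import Cfsg.Agent.Lib.Small.Phan.Standard
import Cfsg.Agent.Lib.Small.SUPres.Two.Field

/-!
The plane group over four elements and aligned chains of standard pairs over four elements.
-/

set_option autoImplicit false
set_option linter.unusedSectionVars false
set_option linter.style.haveILetI false

namespace Cfsg.Agent.Small.Phan

open Matrix Cfsg.Agent.Small.Unitary Cfsg.Agent.Small.UCover Cfsg.Agent.Small.SUPres

universe u v

variable {F : Type u} [Field F] [Fintype F] [StarRing F] {hstar : ∀ x : F, star x = x ^ 2}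
  (hF : Fintype.card F = 2 ^ 2)

include hstar hF

theorem two_w2_val : (w2 (q := 2) hstar).1.1 = !![0, 1; 1, 0] := by
  show (!![0, 1; -1, 0] : Matrix (Fin 2) (Fin 2) F) = _
  rw [Two.neg_self hF]

theorem two_w2_sq : w2 (q := 2) hstar * w2 hstar = 1 := by
  refine eq_of_mat ?_
  show (w2 (q := 2) hstar).1.1 * (w2 (q := 2) hstar).1.1 = 1
  rw [two_w2_val hF]
  ext i j
  fin_cases i <;> fin_cases j <;> simp [Matrix.mul_apply, Fin.sum_univ_two]

/-- Over four elements the plane group is monomial. -/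
theorem two_cases (x : Cfsg.SU 2 F 2) :
    (x.1.1 0 1 = 0 ∧ star (x.1.1 0 0) * x.1.1 0 0 = 1) ∨ (x.1.1 0 0 = 0 ∧ star (x.1.1 0 1) * x.1.1 0 1 = 1) := by
  obtain ⟨-, -, hn⟩ := entries hstar x
  by_cases ha : x.1.1 0 0 = 0
  · exact Or.inr ⟨ha, by rw [ha] at hn; simpa using hn⟩
  · refine Or.inl ⟨?_, Two.norm_one hstar hF ha⟩
    by_contra hb
    rw [Two.norm_one hstar hF ha, Two.norm_one hstar hF hb] at hn
    exact one_ne_zero (α := F) (by linear_combination hn)

theorem two_dia_eq {x : Cfsg.SU 2 F 2} (h : x.1.1 0 1 = 0) (hc : star (x.1.1 0 0) * x.1.1 0 0 = 1) :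
    x = dia hstar (x.1.1 0 0) hc := by
  obtain ⟨a, b, -⟩ := entries hstar x
  refine eq_of_mat ?_
  rw [dia_val]
  ext i j
  fin_cases i <;> fin_cases j <;> simp [a, b, h]

theorem two_anti_eq {x : Cfsg.SU 2 F 2} (h : x.1.1 0 0 = 0) (hc : star (x.1.1 0 1) * x.1.1 0 1 = 1) :
    x = dia hstar (x.1.1 0 1) hc * w2 hstar := by
  obtain ⟨a, b, -⟩ := entries hstar x
  refine eq_of_mat ?_
  show x.1.1 = (dia (q := 2) hstar (x.1.1 0 1) hc).1.1 * (w2 (q := 2) hstar).1.1
  rw [two_w2_val hF, dia_val]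
  ext i j
  fin_cases i <;> fin_cases j <;> simp [a, b, h, Matrix.mul_apply, Fin.sum_univ_two, Two.neg_self hF]

theorem two_anti_sq {x : Cfsg.SU 2 F 2} (h : x.1.1 0 0 = 0) : x * x = 1 := by
  obtain ⟨a, b, n⟩ := entries hstar x
  rw [h] at n
  refine eq_of_mat ?_
  show x.1.1 * x.1.1 = 1
  ext i j
  fin_cases i <;> fin_cases j <;>
    simp [a, b, h, Matrix.mul_apply, Fin.sum_univ_two, Two.neg_self hF] <;>
    simp at n <;> linear_combination n

theorem two_dia_cube (c : F) (hc : star c * c = 1) : dia (q := 2) hstar c hc ^ 3 = 1 := by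
  have hc0 : c ≠ 0 := fun h => by rw [h, mul_zero] at hc; exact zero_ne_one hc
  refine eq_of_mat ?_
  show (dia (q := 2) hstar c hc).1.1 ^ 3 = 1
  rw [dia_val, pow_succ, pow_two]
  ext i j
  fin_cases i <;> fin_cases j <;> simp [Matrix.mul_apply, Fin.sum_univ_two]
  · rw [← pow_two, ← pow_succ]; exact Two.pow_three hF hc0
  · rw [← pow_two, ← pow_succ]; exact Two.pow_three hF (star_ne_zero.2 hc0)

theorem two_dia_of_cube {x : Cfsg.SU 2 F 2} (h : x ^ 3 = 1) : x.1.1 0 1 = 0 := by
  rcases two_cases (hstar := hstar) hF x with h1 | ⟨h1, -⟩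
  · exact h1.1
  · rw [pow_succ, pow_two, two_anti_sq (hstar := hstar) hF h1, one_mul] at h
    rw [h] at h1
    exact absurd h1 (by simp)

/-- Every automorphism of the plane group over four elements is monomial. -/
theorem exists_form_two (α : MulAut (Cfsg.SU 2 F 2)) :
    ∃ (c : F) (φ : F →+* F), star c * c = 1 ∧ (∀ a, φ (star a) = star (φ a)) ∧
      ∀ x, (α x).1.1 = !![φ (x.1.1 0 0), c * φ (x.1.1 0 1); star c * φ (x.1.1 1 0), φ (x.1.1 1 1)] := by
  classical
  obtain ⟨w, hw, hw0, hw1, hcases⟩ := Two.exists_omega hF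
  have hn := Two.norm_one hstar hF hw0
  have hws : star w = w ^ 2 := hstar w
  set d := dia (q := 2) hstar w hn with hd
  have hd3 : d ^ 3 = 1 := two_dia_cube hF w hn
  have hαd : (α d).1.1 0 1 = 0 := two_dia_of_cube (hstar := hstar) hF (by rw [← map_pow, hd3, map_one])
  have hd1 : d ≠ 1 := fun h => hw1 (by
    have := congrArg (fun x : Cfsg.SU 2 F 2 => x.1.1 0 0) h
    simpa [hd, dia_val] using this)
  obtain ⟨c, hc⟩ : ∃ c, c = (α d).1.1 0 0 := ⟨_, rfl⟩
  have hcn : star c * c = 1 := by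
    rcases two_cases (hstar := hstar) hF (α d) with h | ⟨-, h⟩
    · rw [hc]; exact h.2
    · rw [hαd] at h; simp at h
  have hαd' : α d = dia hstar c hcn := by
    subst hc; exact two_dia_eq hF hαd hcn
  have hc1 : c ≠ 1 := fun h => hd1 (α.injective (by
    rw [map_one, hαd']
    refine eq_of_mat ?_
    rw [dia_val, h, star_one]
    exact (Matrix.one_fin_two).symm))
  obtain ⟨φ, hφ, hφw⟩ : ∃ φ : F →+* F, (∀ a, φ (star a) = star (φ a)) ∧ φ w = c := by
    rcases hcases c (fun h => by rw [h, mul_zero] at hcn; exact zero_ne_one hcn) with h | h | h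
    · exact absurd h hc1
    · exact ⟨RingHom.id F, fun _ => rfl, h.symm⟩
    · exact ⟨starRingEnd F, fun _ => rfl, by rw [h, starRingEnd_apply, hws]⟩
  have hdia : ∀ (b : F) (hb : star b * b = 1), (α (dia hstar b hb)).1.1 = !![φ b, 0; 0, φ (star b)] := by
    intro b hb
    have hb0 : b ≠ 0 := fun h => by rw [h, mul_zero] at hb; exact zero_ne_one hb
    rcases hcases b hb0 with rfl | rfl | rfl
    · rw [show dia (q := 2) hstar (1 : F) hb = 1 from eq_of_mat (by
        rw [dia_val, star_one]; exact (Matrix.one_fin_two).symm), map_one, star_one, map_one]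
      exact Matrix.one_fin_two
    · rw [show dia (q := 2) hstar b hb = d from rfl, hαd', dia_val, hφw, hφ, hφw]
    · rw [show dia (q := 2) hstar (w ^ 2) hb = d * d from eq_of_mat (by
        show _ = (dia (q := 2) hstar w hn).1.1 * (dia (q := 2) hstar w hn).1.1
        rw [dia_val, dia_val]
        ext i j
        fin_cases i <;> fin_cases j <;> simp [Matrix.mul_apply, Fin.sum_univ_two, sq]), map_mul]
      show (α d).1.1 * (α d).1.1 = _
      rw [hαd', dia_val]
      ext i j
      fin_cases i <;> fin_cases j <;> simp [Matrix.mul_apply, Fin.sum_univ_two, hφw, hφ, sq]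
  have hw00 : (α (w2 hstar)).1.1 0 0 = 0 := by
    rcases two_cases (hstar := hstar) hF (α (w2 hstar)) with h | h
    · exfalso
      have e := two_dia_cube (hstar := hstar) hF _ h.2
      rw [← two_dia_eq hF h.1 h.2, ← map_pow, pow_succ, pow_two, two_w2_sq hF, one_mul] at e
      have := congrArg (fun x : Cfsg.SU 2 F 2 => x.1.1 0 0) (α.injective (e.trans (map_one α).symm))
      simp [two_w2_val hF] at this
    · exact h.1
  obtain ⟨e11, e10, en⟩ := entries hstar (α (w2 hstar))
  rw [hw00] at e11 en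
  refine ⟨(α (w2 hstar)).1.1 0 1, φ, by simpa using en, hφ, fun x => ?_⟩
  rcases two_cases (hstar := hstar) hF x with ⟨h, hb⟩ | ⟨h, hb⟩
  · obtain ⟨a, b, -⟩ := entries hstar x
    conv_lhs => rw [two_dia_eq (hstar := hstar) hF h hb]
    rw [hdia, a, b, h]
    simp
  · obtain ⟨a, b, -⟩ := entries hstar x
    conv_lhs => rw [two_anti_eq (hstar := hstar) hF h hb, map_mul]
    show (α (dia hstar _ hb)).1.1 * (α (w2 hstar)).1.1 = _
    rw [hdia, a, b, h]
    ext i j
    fin_cases i <;> fin_cases j <;>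
      simp [Matrix.mul_apply, Fin.sum_univ_two, hw00, e11, e10, Two.neg_self hF, hφ, mul_comm]

/-- The centre of the three-dimensional group. -/
theorem two_center {g : Cfsg.SU 3 F 2} (hg : g ∈ Subgroup.center (Cfsg.SU 3 F 2)) {w : F} (hw : star w * w = 1)
    (hw1 : w ≠ 1) : g = 1 ∨ g = bA hstar (dia hstar w hw) * bB hstar (dia hstar w hw * dia hstar w hw) ∨
      g * g = bA hstar (dia hstar w hw) * bB hstar (dia hstar w hw * dia hstar w hw) := by
  have hws : star w ≠ 1 := fun h => hw1 (star_injective (h.trans (star_one F).symm))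
  have hw0 : w ≠ 0 := fun h => by rw [h, mul_zero] at hw; exact zero_ne_one hw
  have hsq : star w = w * w := by rw [hstar, sq]
  have hz : (bA hstar (dia hstar w hw) * bB hstar (dia hstar w hw * dia hstar w hw)).1.1 =
      Matrix.diagonal (fun _ => w) := by
    show (bA hstar (dia hstar w hw)).1.1 * (bB hstar (dia hstar w hw * dia hstar w hw)).1.1 = _
    rw [bA_val, bB_val]
    show !![(dia (q := 2) hstar w hw).1.1 0 0, _, _; _, _, _; _, _, _] * _ = _
    rw [show (dia (q := 2) hstar w hw * dia hstar w hw).1.1 =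
      (dia (q := 2) hstar w hw).1.1 * (dia (q := 2) hstar w hw).1.1 from rfl, dia_val]
    have h3 := Two.pow_three hF hw0
    ext i j
    fin_cases i <;> fin_cases j <;>
      simp [Matrix.mul_apply, Fin.sum_univ_three, Fin.sum_univ_two, hsq] <;>
      linear_combination w * h3
  have cA := congrArg (fun x : Cfsg.SU 3 F 2 => x.1.1) (Subgroup.mem_center_iff.1 hg (bA hstar (dia hstar w hw)))
  have cB := congrArg (fun x : Cfsg.SU 3 F 2 => x.1.1) (Subgroup.mem_center_iff.1 hg (bB hstar (dia hstar w hw)))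
  have cW := congrArg (fun x : Cfsg.SU 3 F 2 => x.1.1) (Subgroup.mem_center_iff.1 hg (bA hstar (w2 hstar)))
  have cV := congrArg (fun x : Cfsg.SU 3 F 2 => x.1.1) (Subgroup.mem_center_iff.1 hg (bB hstar (w2 hstar)))
  change (bA hstar _).1.1 * g.1.1 = g.1.1 * (bA hstar _).1.1 at cA
  change (bB hstar _).1.1 * g.1.1 = g.1.1 * (bB hstar _).1.1 at cB
  change (bA hstar _).1.1 * g.1.1 = g.1.1 * (bA hstar _).1.1 at cW
  change (bB hstar _).1.1 * g.1.1 = g.1.1 * (bB hstar _).1.1 at cV
  rw [bA_val, dia_val] at cA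
  rw [bB_val, dia_val] at cB
  rw [bA_val, two_w2_val hF] at cW
  rw [bB_val, two_w2_val hF] at cV
  have a02 := congrFun (congrFun cA 0) 2
  have a20 := congrFun (congrFun cA 2) 0
  have a12 := congrFun (congrFun cA 1) 2
  have a21 := congrFun (congrFun cA 2) 1
  have b01 := congrFun (congrFun cB 0) 1
  have b10 := congrFun (congrFun cB 1) 0
  have w00 := congrFun (congrFun cW 0) 1
  have v00 := congrFun (congrFun cV 1) 2
  simp [Matrix.mul_apply, Fin.sum_univ_three] at a02 a20 a12 a21 b01 b10 w00 v00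
  have z02 : g.1.1 0 2 = 0 := by
    by_contra h; exact hw1 (mul_right_cancel₀ h (by linear_combination a02 : w * g.1.1 0 2 = 1 * g.1.1 0 2))
  have z20 : g.1.1 2 0 = 0 := by
    by_contra h; exact hw1 (mul_left_cancel₀ h (by linear_combination -a20 : g.1.1 2 0 * w = g.1.1 2 0 * 1))
  have z12 : g.1.1 1 2 = 0 := by
    by_contra h; exact hws (mul_right_cancel₀ h (by linear_combination a12 : star w * g.1.1 1 2 = 1 * g.1.1 1 2))
  have z21 : g.1.1 2 1 = 0 := by
    by_contra h; exact hws (mul_left_cancel₀ h (by linear_combination -a21 : g.1.1 2 1 * star w = g.1.1 2 1 * 1))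
  have z01 : g.1.1 0 1 = 0 := by
    by_contra h; exact hw1 (mul_left_cancel₀ h (by linear_combination -b01 : g.1.1 0 1 * w = g.1.1 0 1 * 1))
  have z10 : g.1.1 1 0 = 0 := by
    by_contra h; exact hw1 (mul_right_cancel₀ h (by linear_combination b10 : w * g.1.1 1 0 = 1 * g.1.1 1 0))
  have hgd : g.1.1 = Matrix.diagonal (fun _ => g.1.1 0 0) := by
    ext i j
    fin_cases i <;> fin_cases j <;> simp [z01, z02, z10, z12, z20, z21, ← w00, ← v00]
  have hne : g.1.1 0 0 ≠ 0 := fun h => by
    have := g.1.2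
    rw [hgd, h, Matrix.det_diagonal] at this
    simp at this
  have three : ∀ a : F, a ≠ 0 → a = 1 ∨ a = w ∨ a = w * w := by
    intro a ha
    have h3 := Two.pow_three hF hw0
    have hq : w * w + w + 1 = 0 := (mul_eq_zero.1
      (show (w - 1) * (w * w + w + 1) = 0 by linear_combination h3)).resolve_left (sub_ne_zero.2 hw1)
    rcases mul_eq_zero.1 (show (a - 1) * ((a - w) * (a - w * w)) = 0 by
      linear_combination Two.pow_three hF ha + (a - a ^ 2) * hq + (a - 1) * h3) with h | h
    · exact Or.inl (sub_eq_zero.1 h)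
    · exact Or.inr ((mul_eq_zero.1 h).imp sub_eq_zero.1 sub_eq_zero.1)
  rcases three _ hne with h | h | h
  · refine Or.inl (eq_of_mat ?_)
    rw [hgd, h]
    exact Matrix.diagonal_one
  · exact Or.inr (Or.inl (eq_of_mat (by rw [hz, hgd, h])))
  · refine Or.inr (Or.inr (eq_of_mat ?_))
    show g.1.1 * g.1.1 = _
    rw [hz, hgd, h, Matrix.diagonal_mul_diagonal]
    congr 1
    funext i
    linear_combination w * Two.pow_three hF hw0

variable {G : Type v} [Group G] (W V : ℕ → Subgroup G)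

theorem exists_window_two {V A B : Subgroup G} (h : Cfsg.IsStandardUnitaryPair V A B F 2) :
    ∃ ψ : Cfsg.SU 3 F 2 →* G, ψ.ker ≤ Subgroup.center _ ∧ (ψ.comp (bA hstar)).range = A ∧
      (ψ.comp (bB hstar)).range = B ∧ ψ.range = V := by
  have key : ∀ ψ : Cfsg.SU 3 F 2 →* G, ψ.ker ≤ Subgroup.center _ → ψ.range = V →
      (Cfsg.suBlock 3 F 2 {0, 1}).map ψ = A → (Cfsg.suBlock 3 F 2 {1, 2}).map ψ = B →
      ∃ ψ : Cfsg.SU 3 F 2 →* G, ψ.ker ≤ Subgroup.center _ ∧ (ψ.comp (bA hstar)).range = A ∧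
        (ψ.comp (bB hstar)).range = B ∧ ψ.range = V := by
    intro ψ hk hV hA hB
    rw [suBlock_left hstar] at hA
    rw [suBlock_right hstar] at hB
    exact ⟨ψ, hk, by rw [MonoidHom.range_comp, hA], by rw [MonoidHom.range_comp, hB], hV⟩
  rcases h with ⟨ψ, hA, hB⟩ | ⟨ψ, hA, hB⟩
  · refine key _ ?_ ?_ hA hB
    · intro x hx
      rw [ψ.injective (Subtype.ext (hx.trans (V.subtype.map_one).symm) |>.trans ψ.map_one.symm)]
      exact one_mem _
    · rw [MonoidHom.range_comp, MonoidHom.range_eq_top.2 ψ.surjective, ← MonoidHom.range_eq_map,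
        Subgroup.range_subtype]
  · refine key _ ?_ ?_ hA hB
    · intro x hx
      have e : ψ (QuotientGroup.mk x) = ψ 1 := by
        rw [map_one]; exact Subtype.ext hx
      exact (QuotientGroup.eq_one_iff x).1 (ψ.injective e)
    · rw [MonoidHom.range_comp, MonoidHom.range_comp, QuotientGroup.range_mk',
        ← MonoidHom.range_eq_map, MonoidHom.range_eq_top.2 ψ.surjective, ← MonoidHom.range_eq_map,
        Subgroup.range_subtype]

theorem exists_next_two {i : ℕ} {ψ₀ φ : Cfsg.SU 3 F 2 →* G}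
    (h₀ : IsWindow hstar W i ψ₀) (hφ : IsWindow hstar W (i + 1) φ ∧ φ.range = V (i + 1)) :
    ∃ ψ₁, (IsWindow hstar W (i + 1) ψ₁ ∧ ψ₁.range = V (i + 1)) ∧
      ∀ x, ψ₁ (bA hstar x) = ψ₀ (bB hstar x) := by
  classical
  obtain ⟨hk₀, hA₀, hB₀⟩ := h₀
  obtain ⟨⟨hk, hA, hB⟩, hV⟩ := hφ
  let α : MulAut (Cfsg.SU 2 F 2) := ((MonoidHom.ofInjective (inj_bB hstar ψ₀ hk₀)).trans
    (MulEquiv.subgroupCongr (hB₀.trans hA.symm))).trans (MonoidHom.ofInjective (inj_bA hstar φ hk)).symm
  have hα : ∀ x, φ (bA hstar (α x)) = ψ₀ (bB hstar x) := fun x =>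
    MonoidHom.apply_ofInjective_symm (inj_bA hstar φ hk) _
  obtain ⟨β, hβA, hβB⟩ := exists_extend hstar α (exists_form_two (hstar := hstar) hF α)
  haveI : Finite (Cfsg.SU 2 F 2) := Subtype.finite
  choose g hg using hβB
  have hgs : Function.Surjective g := Finite.injective_iff_surjective.1 fun a b h =>
    blk_injective hstar _ (β.injective (by rw [show β (blk hstar _ a) = _ from hg a, h]; exact (hg b).symm))
  refine ⟨φ.comp β.toMonoidHom, ⟨⟨fun x hx => ?_, ?_, ?_⟩, ?_⟩, fun x => ?_⟩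
  · rw [Subgroup.mem_center_iff]
    intro y
    exact β.injective (by rw [map_mul, map_mul]; exact Subgroup.mem_center_iff.1 (hk hx) (β y))
  · rw [← hA]
    ext z
    constructor
    · rintro ⟨x, rfl⟩
      exact ⟨α x, (congrArg φ (hβA x)).symm⟩
    · rintro ⟨x, rfl⟩
      exact ⟨α.symm x, by show φ (β (bA hstar (α.symm x))) = _; rw [hβA, α.apply_symm_apply]; rfl⟩
  · rw [← hB]
    ext z
    constructor
    · rintro ⟨x, rfl⟩
      exact ⟨g x, (congrArg φ (hg x)).symm⟩
    · rintro ⟨x, rfl⟩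
      obtain ⟨y, rfl⟩ := hgs x
      exact ⟨y, congrArg φ (hg y)⟩
  · rw [MonoidHom.range_comp, MonoidHom.range_eq_top.2 β.surjective, ← MonoidHom.range_eq_map, hV]
  · show φ (β (bA hstar x)) = _
    rw [hβA, hα]

set_option maxHeartbeats 1000000 in
/-- Standard pairs over four elements with commuting distant members align to injective windows. -/
theorem exists_chain_two {n : ℕ} (hn : 4 ≤ n) (φ : ℕ → (Cfsg.SU 3 F 2 →* G))
    (hφ : ∀ i, i + 3 ≤ n → IsWindow hstar W i (φ i) ∧ (φ i).range = V i)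
    (hc : ∀ i j, i + 2 ≤ j → j + 2 ≤ n → ∀ x ∈ W i, ∀ y ∈ W j, Commute x y) :
    ∃ C : Chain G hstar n, (∀ i, i + 3 ≤ n → Function.Injective (C.ψ i) ∧ (C.ψ i).range = V i) ∧
      ∀ i, i + 2 ≤ n → (C.u i).range = W i := by
  classical
  let ψ : ℕ → (Cfsg.SU 3 F 2 →* G) := fun i => Nat.rec (φ 0) (fun i prev =>
    if h : IsWindow hstar W i prev ∧ i + 4 ≤ n then
      (exists_next_two hF W V h.1 (hφ (i + 1) (by omega))).choose
    else φ (i + 1)) i
  have hs : ∀ i, ψ (i + 1) = if h : IsWindow hstar W i (ψ i) ∧ i + 4 ≤ n then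
      (exists_next_two hF W V h.1 (hφ (i + 1) (by omega))).choose
    else φ (i + 1) := fun i => rfl
  have hw : ∀ i, i + 3 ≤ n → IsWindow hstar W i (ψ i) ∧ (ψ i).range = V i := by
    intro i
    induction i with
    | zero => exact fun h => hφ 0 h
    | succ i ih =>
      intro h
      have hh : IsWindow hstar W i (ψ i) ∧ i + 4 ≤ n := ⟨(ih (by omega)).1, h⟩
      rw [hs, dif_pos hh]
      exact (exists_next_two hF W V hh.1 (hφ (i + 1) (by omega))).choose_spec.1
  have hmem : ∀ i, i + 2 ≤ n → ∀ x, (if i + 3 ≤ n then ψ i (bA hstar x) else ψ (i - 1) (bB hstar x)) ∈ W i := by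
    intro i hi x
    split_ifs with h
    · rw [← (hw i h).1.2.1]; exact ⟨x, rfl⟩
    · obtain ⟨k, rfl⟩ : ∃ k, i = k + 1 := ⟨i - 1, by omega⟩
      rw [Nat.add_sub_cancel, ← (hw k (by omega)).1.2.2]
      exact ⟨x, rfl⟩
  let C : Chain G hstar n :=
    { ψ := ψ
      compat := fun i hi => by
        have hh : IsWindow hstar W i (ψ i) ∧ i + 4 ≤ n := ⟨(hw i (by omega)).1, hi⟩
        rw [hs, dif_pos hh]
        exact (exists_next_two hF W V hh.1 (hφ (i + 1) (by omega))).choose_spec.2
      comm := fun i j hij hj x y => hc i j hij hj _ (hmem i (by omega) x) _ (hmem j hj y) }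
  refine ⟨C, fun i hi => ⟨?_, (hw i hi).2⟩, fun i hi => ?_⟩
  · obtain ⟨w, -, hw0, hw1, -⟩ := Two.exists_omega hF
    have hn1 := Two.norm_one hstar hF hw0
    set d := dia (q := 2) hstar w hn1 with hd
    have hd3 : d * (d * d) = 1 := by
      have := two_dia_cube (hstar := hstar) hF w hn1
      rwa [← hd, pow_succ, pow_two, mul_assoc] at this
    have hd1 : d ≠ 1 := fun h => hw1 (by
      have := congrArg (fun x : Cfsg.SU 2 F 2 => x.1.1 0 0) h
      simpa [hd, dia_val] using this)
    have hdne : IsDia d := isDia_dia hstar w hn1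
    refine (injective_iff_map_eq_one _).2 fun g hg => ?_
    by_contra hne
    have hz : ψ i (bA hstar d * bB hstar (d * d)) = 1 := by
      rcases two_center hF ((hw i hi).1.1 hg) hn1 hw1 with h | h | h
      · exact absurd h hne
      · rw [hd, ← h]; exact hg
      · rw [hd, ← h, map_mul, hg, one_mul]
    have heq : C.u i d = C.u (i + 1) d := by
      rw [← C.ψ_bA hi, ← C.ψ_bB hi]
      show ψ i _ = ψ i _
      rw [map_mul] at hz
      calc ψ i (bA hstar d) = ψ i (bA hstar d) * ψ i (bB hstar (d * (d * d))) := by rw [hd3, map_one, map_one, mul_one]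
        _ = ψ i (bB hstar d) := by
          rw [map_mul, map_mul, ← mul_assoc, (mul_eq_one_iff_eq_inv.1 hz : ψ i (bA hstar d) = _),
            ← map_inv, ← map_inv, ← map_mul, ← map_mul]
          congr 1
          rw [← map_mul, ← map_mul]
          congr 1
          group
    by_cases hlast : i + 4 ≤ n
    · have hc' : Commute (ψ (i + 1) (bA hstar d)) (ψ (i + 1) (bB hstar (w2 hstar))) := by
        rw [C.ψ_bA (by omega : i + 1 + 3 ≤ n), C.ψ_bB (by omega : i + 1 + 3 ≤ n), ← heq, C.u_apply, C.u_apply]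
        exact C.comm i (i + 1 + 1) le_rfl (by omega) d _
      refine hd1 (eq_one_of_bB_central hstar ((hw (i + 1) (by omega)).1.1 (x := bB hstar d) ?_))
      have e : bB hstar d = bB hstar (w2 hstar) * bA hstar d * bB hstar (w2 hstar) * bA hstar (d * d) := by
        refine eq_of_vec fun a b c => ?_
        simp only [act_mul, act_bA_vec, act_bB_vec]
        have h3 := Two.pow_three hF hw0
        funext r
        fin_cases r <;>
          simp [act, Matrix.mulVec, dotProduct, Fin.sum_univ_two, hd, two_w2_val hF, dia_val, Matrix.mul_apply,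
            hstar] <;> grind
      rw [MonoidHom.mem_ker, e, map_mul, map_mul, map_mul,
        mul_assoc (ψ (i + 1) (bB hstar _)), hc'.eq, ← mul_assoc,
        ← map_mul (ψ (i + 1)) (bB hstar _), ← map_mul (bB hstar), two_w2_sq hF,
        map_one, map_one, one_mul, ← map_mul, ← map_mul, hd3, map_one, map_one]
    · obtain ⟨k, rfl⟩ : ∃ k, i = k + 1 := ⟨i - 1, by omega⟩
      have hc' : Commute (ψ k (bA hstar (w2 hstar))) (ψ k (bB hstar d)) := by
        rw [C.ψ_bA (by omega : k + 3 ≤ n), C.ψ_bB (by omega : k + 3 ≤ n), heq, C.u_apply, C.u_apply]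
        exact C.comm k (k + 1 + 1) le_rfl (by omega) _ d
      refine hd1 (eq_one_of_bA_central hstar ((hw k (by omega)).1.1 (x := bA hstar d) ?_))
      have e : bA hstar d = bA hstar (w2 hstar) * bB hstar d * bA hstar (w2 hstar) * bB hstar (d * d) := by
        refine eq_of_vec fun a b c => ?_
        simp only [act_mul, act_bA_vec, act_bB_vec]
        have h3 := Two.pow_three hF hw0
        funext r
        fin_cases r <;>
          simp [act, Matrix.mulVec, dotProduct, Fin.sum_univ_two, hd, two_w2_val hF, dia_val, Matrix.mul_apply,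
            hstar] <;> grind
      rw [MonoidHom.mem_ker, e, map_mul, map_mul, map_mul,
        mul_assoc (ψ k (bA hstar _)), ← hc'.eq, ← mul_assoc,
        ← map_mul (ψ k) (bA hstar _), ← map_mul (bA hstar), two_w2_sq hF,
        map_one, map_one, one_mul, ← map_mul, ← map_mul, hd3, map_one, map_one]
  · by_cases h : i + 3 ≤ n
    · rw [← (hw i h).1.2.1]
      exact congrArg MonoidHom.range (MonoidHom.ext fun x => (C.ψ_bA h x).symm)
    · obtain ⟨k, rfl⟩ : ∃ k, i = k + 1 := ⟨i - 1, by omega⟩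
      rw [← (hw k (by omega)).1.2.2]
      exact congrArg MonoidHom.range (MonoidHom.ext fun x => (C.ψ_bB (by omega) x).symm)

end Cfsg.Agent.Small.Phan
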