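import Cfsg.Agent.Lib.Small.Phan.TwoPerm
import Cfsg.Agent.Lib.Small.Phan.Four

/-!
Characters of the three-dimensional unitary group over four elements.
-/

set_option autoImplicit false
set_option linter.unusedSectionVars false
set_option linter.style.haveILetI false

namespace Cfsg.Agent.Small.Phan

open Matrix Cfsg.Agent.Small.Unitary Cfsg.Agent.Small.UCover Cfsg.Agent.Small.SUPres

universe u

variable {F : Type u} [Field F] [Fintype F] [StarRing F] {hstar : ∀ x : F, star x = x ^ 2}
  (hF : Fintype.card F = 2 ^ 2) {d : Cfsg.SU 2 F 2}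

include hstar hF

theorem two_conj_A {w : F} (hn : star w * w = 1) :
    bA hstar (w2 hstar) * bA hstar (dia hstar w hn) * bA hstar (w2 hstar) =
      bA hstar (dia hstar w hn * dia hstar w hn) := by
  refine eq_of_vec fun a b c => ?_
  simp only [act_mul, act_bA_vec]
  have h3 := Two.pow_three hF (fun h => by rw [h, mul_zero] at hn; exact zero_ne_one hn : w ≠ 0)
  funext r
  fin_cases r <;>
    simp [act, Matrix.mulVec, dotProduct, Fin.sum_univ_two, two_w2_val hF, dia_val, Matrix.mul_apply, hstar] <;>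
    grind

theorem two_conj_AB {w : F} (hn : star w * w = 1) :
    bA hstar (w2 hstar) * bB hstar (dia hstar w hn) * bA hstar (w2 hstar) =
      bA hstar (dia hstar w hn) * bB hstar (dia hstar w hn) := by
  refine eq_of_vec fun a b c => ?_
  simp only [act_mul, act_bA_vec, act_bB_vec]
  have h3 := Two.pow_three hF (fun h => by rw [h, mul_zero] at hn; exact zero_ne_one hn : w ≠ 0)
  funext r
  fin_cases r <;>
    simp [act, Matrix.mulVec, dotProduct, Fin.sum_univ_two, two_w2_val hF, dia_val, hstar] <;>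
    grind

theorem two_conj_BA {w : F} (hn : star w * w = 1) :
    bB hstar (w2 hstar) * bA hstar (dia hstar w hn) * bB hstar (w2 hstar) =
      bA hstar (dia hstar w hn) * bB hstar (dia hstar w hn) := by
  refine eq_of_vec fun a b c => ?_
  simp only [act_mul, act_bA_vec, act_bB_vec]
  have h3 := Two.pow_three hF (fun h => by rw [h, mul_zero] at hn; exact zero_ne_one hn : w ≠ 0)
  funext r
  fin_cases r <;>
    simp [act, Matrix.mulVec, dotProduct, Fin.sum_univ_two, two_w2_val hF, dia_val, hstar] <;>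
    grind

theorem two_conj_B {w : F} (hn : star w * w = 1) :
    bB hstar (w2 hstar) * bB hstar (dia hstar w hn) * bB hstar (w2 hstar) =
      bB hstar (dia hstar w hn * dia hstar w hn) := by
  refine eq_of_vec fun a b c => ?_
  simp only [act_mul, act_bB_vec]
  have h3 := Two.pow_three hF (fun h => by rw [h, mul_zero] at hn; exact zero_ne_one hn : w ≠ 0)
  funext r
  fin_cases r <;>
    simp [act, Matrix.mulVec, dotProduct, Fin.sum_univ_two, two_w2_val hF, dia_val, Matrix.mul_apply, hstar] <;>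
    grind

theorem two_A_comm_B {w : F} (hn : star w * w = 1) :
    Commute (bA hstar (dia hstar w hn)) (bB hstar (dia hstar w hn)) :=
  mul_inv_eq_iff_eq_mul.1 (bA_dia_fix hstar hn (isDia_dia hstar w hn))

set_option maxHeartbeats 1000000 in
/-- A character that is trivial on the monomial generators is trivial. -/
theorem two_char_trivial (χ : Cfsg.SU 3 F 2 →* F) {w : F} (hn : star w * w = 1) (hw1 : w ≠ 1)
    (hA : χ (bA hstar (w2 hstar)) = 1) (hB : χ (bB hstar (w2 hstar)) = 1)
    (hdA : χ (bA hstar (dia hstar w hn)) = 1) (hdB : χ (bB hstar (dia hstar w hn)) = 1) :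
    ∀ x, χ x = 1 := by
  classical
  haveI : Finite (Cfsg.SU 3 F 2) := Subtype.finite
  set d := dia (q := 2) hstar w hn with hd
  set a := bA hstar d with ha
  set b := bB hstar d with hb
  set p := bA (q := 2) hstar (w2 hstar) * bB hstar (w2 hstar) with hp
  have hw0 : w ≠ 0 := fun h => by rw [h, mul_zero] at hn; exact zero_ne_one hn
  have hd3 : d ^ 3 = 1 := two_dia_cube hF w hn
  have ha3 : a ^ 3 = 1 := by rw [ha, ← map_pow, hd3, map_one]
  have hb3 : b ^ 3 = 1 := by rw [hb, ← map_pow, hd3, map_one]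
  have hAA : bA (q := 2) hstar (w2 hstar) * bA hstar (w2 hstar) = 1 := by rw [← map_mul, two_w2_sq hF, map_one]
  have hBB : bB (q := 2) hstar (w2 hstar) * bB hstar (w2 hstar) = 1 := by rw [← map_mul, two_w2_sq hF, map_one]
  have hpa : p * a * p⁻¹ = b := by rw [hp, ha, hb, conj_blocks, mul_inv_cancel_right]
  have hpb : p * b * p⁻¹ = (a * b)⁻¹ := by
    have e1 := two_conj_B (hstar := hstar) hF hn
    have e2 := two_conj_AB (hstar := hstar) hF hn
    rw [← hd, ← hb] at e1
    rw [← hd, ← ha, ← hb] at e2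
    rw [hp, _root_.mul_inv_rev, inv_eq_of_mul_eq_one_right hAA, inv_eq_of_mul_eq_one_right hBB,
      show bA hstar (w2 hstar) * bB hstar (w2 hstar) * b * (bB hstar (w2 hstar) * bA hstar (w2 hstar)) =
        bA hstar (w2 hstar) * (bB hstar (w2 hstar) * b * bB hstar (w2 hstar)) * bA hstar (w2 hstar) by
          simp only [mul_assoc], e1, show bB hstar (d * d) = b⁻¹ from ?_, ← e2,
      _root_.mul_inv_rev, _root_.mul_inv_rev, inv_eq_of_mul_eq_one_right hAA, ← mul_assoc]
    rw [hb, ← map_inv]
    congr 1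
    exact (inv_eq_of_mul_eq_one_right (by rw [← hd3, pow_succ, pow_two, mul_assoc])).symm
  have hp3 : p ^ 3 = 1 := by
    refine eq_of_vec fun x y z => ?_
    simp only [hp, pow_succ, pow_zero, one_mul, act_mul, act_bA_vec, act_bB_vec, act_one]
    funext r
    fin_cases r <;> simp [act, Matrix.mulVec, dotProduct, Fin.sum_univ_two, two_w2_val hF, Matrix.vecHead, Matrix.vecTail]
  have isp : ∀ x : Cfsg.SU 3 F 2, x ^ 3 = 1 → IsPGroup 3 (Subgroup.zpowers x) := fun x hx ⟨y, hy⟩ => by
    obtain ⟨k, rfl⟩ := Subgroup.mem_zpowers_iff.1 hy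
    refine ⟨1, Subtype.ext ?_⟩
    show (x ^ k) ^ 3 ^ 1 = 1
    rw [pow_one, ← zpow_natCast, zpow_comm, zpow_natCast, hx, _root_.one_zpow]
  haveI : Fact (Nat.Prime 3) := ⟨Nat.prime_three⟩
  set A := Subgroup.zpowers a with hA'
  set T := Subgroup.zpowers b ⊔ A with hT'
  set M := Subgroup.zpowers p ⊔ T with hM'
  have hTp : IsPGroup 3 T := IsPGroup.to_sup_of_normal_right' (isp b hb3) (isp a ha3) (by
    rw [Subgroup.zpowers_le]
    refine Subgroup.centralizer_le_normalizer _ ?_
    rw [hA', Subgroup.mem_centralizer_iff]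
    intro y hy
    obtain ⟨k, rfl⟩ := Subgroup.mem_zpowers_iff.1 hy
    exact ((two_A_comm_B (hstar := hstar) hF hn).zpow_left k).eq)
  have hTab : ∀ {K : Subgroup (Cfsg.SU 3 F 2)}, a ∈ K → b ∈ K → T ≤ K := fun ha hb =>
    sup_le (Subgroup.zpowers_le.2 hb) (Subgroup.zpowers_le.2 ha)
  have haT : a ∈ T := Subgroup.mem_sup_right (Subgroup.mem_zpowers a)
  have hbT : b ∈ T := Subgroup.mem_sup_left (Subgroup.mem_zpowers b)
  have hconj : T.map (MulAut.conj p).toMonoidHom = T := by
    refine Subgroup.eq_of_le_of_card_ge (Subgroup.map_le_iff_le_comap.2 (hTab ?_ ?_)) (le_of_eq ?_)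
    · show p * a * p⁻¹ ∈ T
      rw [hpa]; exact hbT
    · show p * b * p⁻¹ ∈ T
      rw [hpb]; exact inv_mem (mul_mem haT hbT)
    · exact (Subgroup.card_map_of_injective (MulAut.conj p).injective).symm
  have hMp : IsPGroup 3 M := IsPGroup.to_sup_of_normal_right' (isp p hp3) hTp (by
    rw [Subgroup.zpowers_le, Subgroup.mem_normalizer_iff]
    intro y
    constructor
    · intro hy
      rw [← hconj]
      exact ⟨y, hy, rfl⟩
    · intro hy
      rw [← hconj] at hy
      obtain ⟨z, hz, hze⟩ := hy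
      rwa [show y = z from (MulAut.conj p).injective hze.symm])
  have hbA : b ∉ A := by
    intro h
    have hle : A ≤ fixS 2 ({Pi.single 2 1} : Set (Fin 3 → F)) := Subgroup.zpowers_le.2 fun x hx => by
      rw [Set.mem_singleton_iff.1 hx]; exact act_bA_two hstar d
    have e := congrFun (hle h _ rfl) 2
    rw [hb, act_single_apply, bB_val, hd, dia_val] at e
    simp at e
    exact hw1 (star_injective (e.trans (star_one F).symm))
  have hpT : p ∉ T := by
    intro h
    have hle : T ≤ Subgroup.centralizer {a} := hTab (Subgroup.mem_centralizer_singleton_iff.2 rfl)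
      (Subgroup.mem_centralizer_singleton_iff.2 (two_A_comm_B (hstar := hstar) hF hn).eq.symm)
    have e := Subgroup.mem_centralizer_singleton_iff.1 (hle h)
    exact hbA (by rw [← hpa, e, mul_inv_cancel_right]; exact Subgroup.mem_zpowers a)
  obtain ⟨i, hi⟩ := IsPGroup.iff_card.1 hMp
  obtain ⟨j, hj⟩ := IsPGroup.iff_card.1 hTp
  obtain ⟨k, hk⟩ := IsPGroup.iff_card.1 (isp a ha3)
  have lt1 : Nat.card A < Nat.card T := by
    refine lt_of_le_of_ne (Nat.le_of_dvd Nat.card_pos (Subgroup.card_dvd_of_le le_sup_right)) fun e => hbA ?_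
    rw [Subgroup.eq_of_le_of_card_ge (le_sup_right : A ≤ T) e.ge]
    exact hbT
  have lt2 : Nat.card T < Nat.card M := by
    refine lt_of_le_of_ne (Nat.le_of_dvd Nat.card_pos (Subgroup.card_dvd_of_le le_sup_right)) fun e => hpT ?_
    rw [Subgroup.eq_of_le_of_card_ge (le_sup_right : T ≤ M) e.ge]
    exact Subgroup.mem_sup_left (Subgroup.mem_zpowers p)
  have ha1 : 1 < Nat.card A := by
    rw [Subgroup.one_lt_card_iff_ne_bot, hA', Ne, Subgroup.zpowers_eq_bot]
    intro h
    have := congrArg (fun x : Cfsg.SU 3 F 2 => x.1.1 0 0) h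
    simp only [ha, bA_val, hd, dia_val] at this
    exact hw1 (by simpa using this)
  rw [hk, hj] at lt1
  rw [hj, hi] at lt2
  rw [hk] at ha1
  have k1 : 1 ≤ k := Nat.one_le_iff_ne_zero.2 fun h => by rw [h] at ha1; simp at ha1
  have := (Nat.pow_lt_pow_iff_right (by norm_num : 1 < 3)).1 lt1
  have := (Nat.pow_lt_pow_iff_right (by norm_num : 1 < 3)).1 lt2
  -- the kernel is everything
  let c : Cfsg.SU 3 F 2 →* Fˣ := χ.toHomUnits
  have hMN : M ≤ c.ker := by
    have mem : ∀ x, χ x = 1 → x ∈ c.ker := fun x hx => Units.ext hx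
    exact sup_le (Subgroup.zpowers_le.2 (mem _ (by rw [hp, map_mul, hA, hB, one_mul]))) (hTab (mem _ hdA) (mem _ hdB))
  have h27 : 27 ∣ Nat.card c.ker := by
    refine dvd_trans ?_ (Subgroup.card_dvd_of_le hMN)
    rw [hi, show 27 = 3 ^ 3 by norm_num]
    exact Nat.pow_dvd_pow 3 (by omega)
  have hidx := c.ker.card_mul_index
  rw [card_SU_three (hstar := hstar) hF (k := 1) rfl, Subgroup.index_ker] at hidx
  simp only [show (2 : ℕ) ^ 3 * (1 * (1 + 2)) * ((1 + 2) * (1 ^ 2 + 1 + 1)) = 216 by norm_num] at hidx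
  have hrng : Nat.card c.range ∣ 3 := by
    have := c.range.card_subgroup_dvd_card
    rwa [Nat.card_units, Nat.card_eq_fintype_card (α := F), hF] at this
  rcases (Nat.dvd_prime Nat.prime_three).1 hrng with h | h
  · intro x
    have hx : c x ∈ (⊥ : Subgroup Fˣ) := by
      rw [← Subgroup.eq_bot_of_card_eq _ h]; exact ⟨x, rfl⟩
    exact congrArg Units.val (Subgroup.mem_bot.1 hx)
  · rw [h] at hidx
    obtain ⟨m, hm⟩ := h27
    omega

end Cfsg.Agent.Small.Phan
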