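import Cfsg.Agent.Lib.Small.Phan.TwoPerm
import Cfsg.Agent.Lib.Small.Phan.Four

/-!
Commuting elements of order three in the four-dimensional unitary group over four elements are simultaneously
diagonal in an orthonormal frame.
-/

set_option autoImplicit false
set_option linter.unusedSectionVars false
set_option linter.style.haveILetI false

namespace Cfsg.Agent.Small.Phan

open Matrix Cfsg.Agent.Small.Unitary Cfsg.Agent.Small.UCover Cfsg.Agent.Small.SUPres

universe u

variable {F : Type u} [Field F] [Fintype F] [StarRing F] {hstar : ∀ x : F, star x = x ^ 2}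
  (hF : Fintype.card F = 2 ^ 2) (T : Fin 3 → Cfsg.SU 4 F 2)

/-- A simultaneous eigenvector. -/
def IsEig (x : Fin 4 → F) : Prop := ∀ i, ∃ c : F, c ≠ 0 ∧ act (T i) x = c • x

include hstar hF

theorem herm_cases (x : Fin 4 → F) : herm x x = 0 ∨ herm x x = 1 := by
  by_cases h : herm x x = 0
  · exact Or.inl h
  · refine Or.inr ?_
    have h1 := Two.norm_one hstar hF h
    rw [star_herm] at h1
    have h3 := Two.pow_three hF h
    calc herm x x = herm x x * (herm x x * herm x x) := by rw [h1, mul_one]
      _ = 1 := by rw [← h3]; ring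

/-- The projection to an eigenspace of an element of order three. -/
theorem eig_split {t : Cfsg.SU 4 F 2} (ht : t ^ 3 = 1) (Q : (Fin 4 → F) → Prop)
    (hadd : ∀ x y, Q x → Q y → Q (x + y)) (x : Fin 4 → F)
    (h : ∀ c : F, c ≠ 0 → act t (x + c ^ 2 • act t x + c • act t (act t x)) =
      c • (x + c ^ 2 • act t x + c • act t (act t x)) → Q (x + c ^ 2 • act t x + c • act t (act t x))) : Q x := by
  obtain ⟨w, hw, hw0, hw1, -⟩ := Two.exists_omega hF
  have h3 : ∀ v, act t (act t (act t v)) = v := fun v => by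
    rw [← act_mul, ← act_mul, mul_assoc, ← pow_two, ← pow_succ', ht, act_one]
  have hP : ∀ c : F, c ≠ 0 → act t (x + c ^ 2 • act t x + c • act t (act t x)) =
      c • (x + c ^ 2 • act t x + c • act t (act t x)) := fun c hc => by
    have hc3 := Two.pow_three hF hc
    rw [act_add, act_add, act_smul, act_smul, h3, smul_add, smul_add, smul_smul, smul_smul,
      show c * c ^ 2 = 1 by rw [← hc3]; ring, show c * c = c ^ 2 by ring, one_smul]
    abel
  have h2 : (1 + 1 : F) = 0 := Two.two_eq_zero hF
  have := hadd _ _ (hadd _ _ (h 1 one_ne_zero (hP 1 one_ne_zero)) (h w hw0 (hP w hw0)))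
    (h (w ^ 2) (pow_ne_zero 2 hw0) (hP (w ^ 2) (pow_ne_zero 2 hw0)))
  convert this using 1
  funext i
  simp only [Pi.add_apply, Pi.smul_apply, smul_eq_mul]
  grind

variable (hc : ∀ i j, Commute (T i) (T j)) (h3 : ∀ i, T i ^ 3 = 1)
include hc h3

/-- A property closed under sums holds on an invariant subspace as soon as it holds on simultaneous eigenvectors. -/
theorem eig_all (S : Submodule F (Fin 4 → F)) (hS : ∀ i, ∀ x ∈ S, act (T i) x ∈ S) (Q : (Fin 4 → F) → Prop)
    (hadd : ∀ x y, Q x → Q y → Q (x + y)) (h : ∀ x ∈ S, IsEig T x → Q x) : ∀ x ∈ S, Q x := by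
  have mem : ∀ i (x : Fin 4 → F) (c : F), x ∈ S → x + c ^ 2 • act (T i) x + c • act (T i) (act (T i) x) ∈ S :=
    fun i x c hx => S.add_mem (S.add_mem hx (S.smul_mem _ (hS i x hx))) (S.smul_mem _ (hS i _ (hS i x hx)))
  have keep : ∀ i j (x : Fin 4 → F) (c e : F), act (T j) x = e • x →
      act (T j) (x + c ^ 2 • act (T i) x + c • act (T i) (act (T i) x)) =
        e • (x + c ^ 2 • act (T i) x + c • act (T i) (act (T i) x)) := fun i j x c e hx => by
    have sw : ∀ v, act (T j) (act (T i) v) = act (T i) (act (T j) v) := fun v => by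
      rw [← act_mul, ← act_mul, (hc j i).eq]
    simp only [act_add, act_smul, sw, hx, smul_add, smul_smul, mul_comm e]
  intro x hx
  refine eig_split (hstar := hstar) hF (h3 0) Q hadd x fun a ha hxa => ?_
  refine eig_split (hstar := hstar) hF (h3 1) Q hadd _ fun b hb hxb => ?_
  refine eig_split (hstar := hstar) hF (h3 2) Q hadd _ fun c hc' hxc => ?_
  refine h _ (mem 2 _ c (mem 1 _ b (mem 0 x a hx))) fun i => ?_
  fin_cases i
  · exact ⟨a, ha, keep 2 0 _ c a (keep 1 0 _ b a hxa)⟩
  · exact ⟨b, hb, keep 2 1 _ c b hxb⟩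
  · exact ⟨c, hc', hxc⟩

/-- One more eigenvector of norm one. -/
theorem exists_eig {k : ℕ} (hk : k < 4) {v : Fin k → Fin 4 → F} (hv : ON v) (hev : ∀ a, IsEig T (v a)) :
    ∃ x, herm x x = 1 ∧ (∀ a, herm (v a) x = 0) ∧ IsEig T x := by
  obtain ⟨u, hu, hu1⟩ := exists_unit hstar hF hv (perpF v) le_rfl (by have := finrank_perpF v; omega)
  have hS : ∀ i, ∀ x ∈ perpF v, act (T i) x ∈ perpF v := fun i x hx a => by
    obtain ⟨c, hc0, hcv⟩ := hev a i
    have := herm_act hstar (T i) (v a) x
    rw [hcv, hx a, herm_smul_left] at this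
    exact (mul_eq_zero.1 this).resolve_left (star_ne_zero.2 hc0)
  by_contra hno
  have iso : ∀ x ∈ perpF v, IsEig T x → herm x x = 0 := fun x hx he =>
    (herm_cases (hstar := hstar) hF x).resolve_right fun h => hno ⟨x, h, hx, he⟩
  have orth : ∀ x ∈ perpF v, IsEig T x → ∀ y ∈ perpF v, IsEig T y → herm x y = 0 := by
    intro x hx ex y hy ey
    by_contra hxy
    choose a ha0 ha using ex
    choose b hb0 hb using ey
    have hab : ∀ i, a i = b i := fun i => by
      have := herm_act hstar (T i) x y
      rw [ha, hb, herm_smul_left, herm_smul_right] at this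
      have h1 : star (a i) * b i = 1 := mul_right_cancel₀ hxy (by rw [one_mul, mul_assoc]; exact this)
      have h2 := Two.norm_one hstar hF (ha0 i)
      exact mul_left_cancel₀ (star_ne_zero.2 (ha0 i)) (h2.trans h1.symm)
    obtain ⟨c, hcc⟩ := Hermitian.exists_trace_ne hstar hF hxy
    apply hcc
    have := iso (c • x + y) ((perpF v).add_mem ((perpF v).smul_mem c hx) hy) fun i =>
      ⟨a i, ha0 i, by rw [act_add, act_smul, ha, hb, ← hab, smul_add, smul_comm]⟩
    rw [herm_add_left, herm_add_right, herm_add_right, herm_smul_left, herm_smul_left, herm_smul_right,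
      herm_smul_right, iso x hx fun i => ⟨a i, ha0 i, ha i⟩, iso y hy fun i => ⟨b i, hb0 i, hb i⟩,
      ← star_herm x y] at this
    rw [star_mul', star_star]
    linear_combination this
  have one : ∀ x ∈ perpF v, IsEig T x → herm x u = 0 := fun x hx ex =>
    eig_all (hstar := hstar) hF T hc h3 (perpF v) hS (fun z => herm x z = 0)
      (fun y z hy hz => by rw [herm_add_right, hy, hz, add_zero]) (fun y hy ey => orth x hx ex y hy ey) u hu
  have : herm u u = 0 := eig_all (hstar := hstar) hF T hc h3 (perpF v) hS (fun z => herm z u = 0)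
    (fun y z hy hz => by rw [herm_add_left, hy, hz, add_zero]) one u hu
  rw [hu1] at this
  exact one_ne_zero this

/-- A common diagonal frame. -/
theorem exists_diag : ∃ h : Cfsg.SU 4 F 2, ∀ i (a b : Fin 4), a ≠ b → (h⁻¹ * T i * h).1.1 a b = 0 := by
  have step : ∀ k, k ≤ 3 → ∃ v : Fin k → Fin 4 → F, ON v ∧ ∀ a, IsEig T (v a) := by
    intro k
    induction k with
    | zero => exact fun _ => ⟨fun a => a.elim0, fun a => a.elim0, fun a => a.elim0⟩
    | succ k ih =>
      intro hk
      obtain ⟨v, hv, hev⟩ := ih (by omega)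
      obtain ⟨x, hx1, hxv, hxe⟩ := exists_eig (hstar := hstar) hF T hc h3 (by omega) hv hev
      refine ⟨Fin.snoc v x, fun a b => ?_, fun a => ?_⟩
      · cases a using Fin.lastCases <;> cases b using Fin.lastCases
        · simpa using hx1
        · rw [Fin.snoc_last, Fin.snoc_castSucc, herm_comm_zero (hxv _),
            if_neg (Fin.castSucc_lt_last _).ne']
        · rw [Fin.snoc_last, Fin.snoc_castSucc, hxv, if_neg (Fin.castSucc_lt_last _).ne]
        · simp only [Fin.snoc_castSucc, hv _ _, Fin.castSucc_inj]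
      · cases a using Fin.lastCases
        · simpa using hxe
        · simpa using hev _
  obtain ⟨v, hv, hev⟩ := step 3 le_rfl
  obtain ⟨h, hh⟩ := exists_move hstar hF (on_single.comp _ (Fin.castSucc_injective 3)) hv (by norm_num)
  have hcol : ∀ i (a : Fin 3), ∃ c : F, c ≠ 0 ∧
      act (h⁻¹ * T i * h) (Pi.single a.castSucc 1) = c • Pi.single a.castSucc 1 := by
    intro i a
    obtain ⟨c, hc0, hcv⟩ := hev a i
    refine ⟨c, hc0, ?_⟩
    have e : act h (Pi.single a.castSucc 1) = v a := hh a
    rw [act_mul, act_mul, e, hcv, act_smul, ← e, act_inv_act]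
  refine ⟨h, fun i a b hab => ?_⟩
  have entry : ∀ p r, (h⁻¹ * T i * h).1.1 p r = act (h⁻¹ * T i * h) (Pi.single r 1) p := fun p r =>
    (act_single_apply _ p r).symm
  cases b using Fin.lastCases with
  | cast b =>
    obtain ⟨c, -, e⟩ := hcol i b
    rw [entry, e, Pi.smul_apply, Pi.single_eq_of_ne hab, smul_zero]
  | last =>
    cases a using Fin.lastCases with
    | last => exact absurd rfl hab
    | cast a =>
      obtain ⟨c, hc0, e⟩ := hcol i a
      have := herm_act hstar (h⁻¹ * T i * h) (Pi.single a.castSucc 1) (Pi.single (Fin.last 3) 1)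
      rw [e, herm_smul_left, herm_single_left, herm_single_left, star_one, one_mul, one_mul,
        Pi.single_eq_of_ne (Fin.castSucc_lt_last a).ne] at this
      rw [entry]
      exact (mul_eq_zero.1 this).resolve_left (star_ne_zero.2 hc0)

end Cfsg.Agent.Small.Phan
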