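import Mathlib

/-!
Weights of three toral elements of order three under three reflections.
-/

set_option autoImplicit false
set_option linter.style.haveILetI false

namespace Cfsg.Agent.Small.Phan.Weights

/-- Exponents of three elements of order three at an eigenvector. -/
abbrev Wt : Type := ZMod 3 × ZMod 3 × ZMod 3

/-- The first reflection. -/
def r0 (v : Wt) : Wt := (2 * v.1, v.1 + v.2.1, v.2.2)

/-- The second reflection. -/
def r1 (v : Wt) : Wt := (v.1 + v.2.1, 2 * v.2.1, v.2.1 + v.2.2)

/-- The third reflection. -/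
def r2 (v : Wt) : Wt := (v.1, v.2.1 + v.2.2, 2 * v.2.2)

/-- Reflections applied three times. -/
def orb (v : Wt) : Finset Wt :=
  let step : Finset Wt → Finset Wt := fun s => s ∪ s.image r0 ∪ s.image r1 ∪ s.image r2
  step (step (step {v}))

/-- The natural weights. -/
def pos : Fin 4 → Wt := ![(1, 0, 0), (2, 1, 0), (0, 2, 1), (0, 0, 2)]

theorem orb_small : ∀ v : Wt, v.1 ≠ 0 → (orb v).card ≤ 4 →
    (∀ a, pos a ∈ orb v) ∨ ∀ a, -pos a ∈ orb v := by
  decide +kernel

theorem pos_injective : Function.Injective pos := by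
  decide +kernel

theorem r_pos : ∀ a : Fin 4, r0 (pos a) = pos (Equiv.swap 0 1 a) ∧ r1 (pos a) = pos (Equiv.swap 1 2 a) ∧
    r2 (pos a) = pos (Equiv.swap 2 3 a) := by
  decide +kernel

/-- A four-point configuration closed under the reflections is the natural one up to sign. -/
theorem classify (f : Fin 4 → Wt) (h0 : ∃ a, (f a).1 ≠ 0) (hc0 : ∀ a, ∃ b, f b = r0 (f a))
    (hc1 : ∀ a, ∃ b, f b = r1 (f a)) (hc2 : ∀ a, ∃ b, f b = r2 (f a)) :
    ∃ (ρ : Equiv.Perm (Fin 4)) (neg : Bool), ∀ a, f (ρ a) = if neg then -pos a else pos a := by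
  classical
  set S := Finset.univ.image f with hS
  have cl : ∀ (r : Wt → Wt), (∀ a, ∃ b, f b = r (f a)) → S.image r ⊆ S := by
    intro r hr x hx
    obtain ⟨y, hy, rfl⟩ := Finset.mem_image.1 hx
    obtain ⟨a, -, rfl⟩ := Finset.mem_image.1 hy
    obtain ⟨b, hb⟩ := hr a
    exact Finset.mem_image.2 ⟨b, Finset.mem_univ b, hb⟩
  have step : ∀ s ⊆ S, s ∪ s.image r0 ∪ s.image r1 ∪ s.image r2 ⊆ S := fun s hs =>
    Finset.union_subset (Finset.union_subset (Finset.union_subset hs
      ((Finset.image_subset_image hs).trans (cl r0 hc0)))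
      ((Finset.image_subset_image hs).trans (cl r1 hc1))) ((Finset.image_subset_image hs).trans (cl r2 hc2))
  obtain ⟨a, ha⟩ := h0
  have hsub : orb (f a) ⊆ S := step _ (step _ (step _ (by simp [hS])))
  have hcard : (orb (f a)).card ≤ 4 :=
    (Finset.card_le_card hsub).trans (Finset.card_image_le.trans (by simp))
  have main : ∀ p : Fin 4 → Wt, Function.Injective p → (∀ a, p a ∈ S) → ∃ ρ : Equiv.Perm (Fin 4), ∀ a, f (ρ a) = p a := by
    intro p hp hmem
    choose g hg using fun a => Finset.mem_image.1 (hmem a)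
    have hgi : Function.Injective g := fun x y h => hp (by rw [← (hg x).2, ← (hg y).2, h])
    exact ⟨Equiv.ofBijective g (Finite.injective_iff_bijective.1 hgi), fun a => (hg a).2⟩
  rcases orb_small (f a) ha hcard with h | h
  · obtain ⟨ρ, hρ⟩ := main pos pos_injective fun b => hsub (h b)
    exact ⟨ρ, false, hρ⟩
  · obtain ⟨ρ, hρ⟩ := main (fun b => -pos b) (fun x y e => pos_injective (neg_injective e)) fun b => hsub (h b)
    exact ⟨ρ, true, hρ⟩

end Cfsg.Agent.Small.Phan.Weights
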