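import Cfsg.Agent.Lib.Small.Phan.TwoDiag
import Cfsg.Agent.Lib.Small.Phan.TwoChar
import Cfsg.Agent.Lib.Small.Phan.TwoWeights

/-!
Two adjacent windows inside an image of the four-dimensional unitary group over four elements are the standard ones.
-/

set_option autoImplicit false
set_option linter.unusedSectionVars false
set_option linter.style.haveILetI false

namespace Cfsg.Agent.Small.Phan

open Matrix Equiv Cfsg.Agent.Small.Unitary Cfsg.Agent.Small.UCover Cfsg.Agent.Small.SUPres

universe u v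

variable {F : Type u} [Field F] [Fintype F] [StarRing F] {hstar : ∀ x : F, star x = x ^ 2}
  (hF : Fintype.card F = 2 ^ 2)

/-- Three elements of order three and three reflections acting on them. -/
structure Refl (T W : Fin 3 → Cfsg.SU 4 F 2) : Prop where
  cube : ∀ i, T i ^ 3 = 1
  comm : ∀ i j, Commute (T i) (T j)
  invol : ∀ j, W j * W j = 1
  ne : T 0 ≠ 1
  r00 : W 0 * T 0 * W 0 = T 0 * T 0
  r01 : W 0 * T 1 * W 0 = T 0 * T 1
  r02 : W 0 * T 2 * W 0 = T 2
  r10 : W 1 * T 0 * W 1 = T 0 * T 1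
  r11 : W 1 * T 1 * W 1 = T 1 * T 1
  r12 : W 1 * T 2 * W 1 = T 1 * T 2
  r20 : W 2 * T 0 * W 2 = T 0
  r21 : W 2 * T 1 * W 2 = T 1 * T 2
  r22 : W 2 * T 2 * W 2 = T 2 * T 2

theorem Refl.map {T W : Fin 3 → Cfsg.SU 4 F 2} (R : Refl T W) (γ : MulAut (Cfsg.SU 4 F 2)) :
    Refl (fun i => γ (T i)) (fun i => γ (W i)) where
  cube i := by rw [← map_pow, R.cube, map_one]
  comm i j := (R.comm i j).map γ
  invol j := by rw [← map_mul, R.invol, map_one]
  ne h := R.ne (γ.injective (h.trans (map_one γ).symm))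
  r00 := by simp only [← map_mul, R.r00]
  r01 := by simp only [← map_mul, R.r01]
  r02 := by simp only [← map_mul, R.r02]
  r10 := by simp only [← map_mul, R.r10]
  r11 := by simp only [← map_mul, R.r11]
  r12 := by simp only [← map_mul, R.r12]
  r20 := by simp only [← map_mul, R.r20]
  r21 := by simp only [← map_mul, R.r21]
  r22 := by simp only [← map_mul, R.r22]

/-- The exponents as a function of the element. -/
def coord (v : Weights.Wt) : Fin 3 → ZMod 3 := ![v.1, v.2.1, v.2.2]

include hstar hF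

theorem entry_cases (g : Cfsg.SU 4 F 2) (a : Fin 4) : ∃ b, g.1.1 b a ≠ 0 := by
  by_contra! h
  have := g.1.2
  rw [Matrix.det_eq_zero_of_column_eq_zero a h] at this
  exact zero_ne_one this

theorem eq_of_col {g g' : Cfsg.SU 4 F 2} (h : ∀ a b, g.1.1 b a = g'.1.1 b a) : g = g' :=
  eq_of_mat (Matrix.ext fun b a => h a b)

set_option maxHeartbeats 1000000 in
/-- The centre of the four-dimensional group is trivial. -/
theorem center_four {g : Cfsg.SU 4 F 2} (hg : g ∈ Subgroup.center (Cfsg.SU 4 F 2)) : g = 1 := by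
  obtain ⟨w, -, hw0, hw1, -⟩ := Two.exists_omega hF
  have hn := Two.norm_one hstar hF hw0
  -- diagonal elements move every coordinate pair
  have off : ∀ a b : Fin 4, a ≠ b → g.1.1 b a = 0 := by
    intro a b hab
    have key : ∀ x : Cfsg.SU 4 F 2, x.1.1 = Matrix.diagonal (fun i => x.1.1 i i) → x.1.1 a a ≠ x.1.1 b b →
        g.1.1 b a = 0 := fun x hx hne => by
      have e := congrFun (congrFun (congrArg (fun y : Cfsg.SU 4 F 2 => y.1.1) (Subgroup.mem_center_iff.1 hg x)) b) a
      change (x.1.1 * g.1.1) b a = (g.1.1 * x.1.1) b a at e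
      rw [hx, Matrix.diagonal_mul, Matrix.mul_diagonal] at e
      exact (mul_eq_zero.1 (show (x.1.1 b b - x.1.1 a a) * g.1.1 b a = 0 by linear_combination e)).resolve_left
        (sub_ne_zero.2 hne.symm)
    have dd : ∀ u v : Fin 4 → F, ∀ x : Cfsg.SU 4 F 2, x.1.1 = Matrix.diagonal u → u a ≠ u b → g.1.1 b a = 0 :=
      fun u _ x hx hne => key x (by rw [hx]; congr 1; funext i; simp) (by rw [hx]; simpa using hne)
    have hA : (blk hstar (seg 3 0 (by norm_num : 0 + 3 ≤ 4)) (bA hstar (dia hstar w hn))).1.1 =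
        Matrix.diagonal ![w, star w, 1, 1] := by
      rw [blkA4_val, bA_val, dia_val]
      ext i j; fin_cases i <;> fin_cases j <;> simp
    have hB : (blk hstar (seg 3 1 (by norm_num : 1 + 3 ≤ 4)) (bA hstar (dia hstar w hn))).1.1 =
        Matrix.diagonal ![1, w, star w, 1] := by
      rw [blkB4_val, bA_val, dia_val]
      ext i j; fin_cases i <;> fin_cases j <;> simp
    have hC : (blk hstar (seg 3 1 (by norm_num : 1 + 3 ≤ 4)) (bB hstar (dia hstar w hn))).1.1 =
        Matrix.diagonal ![1, 1, w, star w] := by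
      rw [blkB4_val, bB_val, dia_val]
      ext i j; fin_cases i <;> fin_cases j <;> simp
    have hs : star w ≠ 1 := fun h => hw1 (star_injective (h.trans (star_one F).symm))
    have hws : w ≠ star w := fun h => hs (by rw [← h] at hn; rw [← h]; exact (sq_eq_one_iff.1 (by rw [sq]; exact hn)).resolve_right (fun e => hw1 (by rw [e, Two.neg_self hF])))
    by_cases h1 : (![w, star w, 1, 1] : Fin 4 → F) a ≠ ![w, star w, 1, 1] b
    · exact dd _ 0 _ hA h1
    by_cases h2 : (![1, w, star w, 1] : Fin 4 → F) a ≠ ![1, w, star w, 1] b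
    · exact dd _ 0 _ hB h2
    exfalso
    push Not at h1 h2
    fin_cases a <;> fin_cases b <;> simp [hws, hws.symm, hw1, hs, Ne.symm hw1, Ne.symm hs] at hab h1 h2
  have eq : ∀ σ : Perm (Fin 4), ∀ a, g.1.1 (σ a) (σ a) = g.1.1 a a := fun σ a => by
    have e := congrFun (congrArg (fun y => act y (Pi.single a (1 : F)))
      (Subgroup.mem_center_iff.1 hg (ppHom (hstar := hstar) hF σ))) (σ a)
    simp only [act_mul] at e
    rw [act_ppHom, act_single_apply, act_pp_apply, act_single_apply, show σ⁻¹ (σ a) = a from σ.symm_apply_apply a] at e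
    exact e.symm
  have hd : g.1.1 = Matrix.diagonal fun _ => g.1.1 0 0 := by
    ext b a
    by_cases hab : a = b
    · subst hab
      rw [Matrix.diagonal_apply_eq, ← eq (Equiv.swap 0 a) a, Equiv.swap_apply_right]
    · rw [off a b hab, Matrix.diagonal_apply_ne _ (Ne.symm hab)]
  refine eq_of_mat (hd.trans ?_)
  have hdet := g.1.2
  rw [hd, Matrix.det_diagonal] at hdet
  simp at hdet
  have h0 : g.1.1 0 0 ≠ 0 := fun h => by simp [h] at hdet
  have : g.1.1 0 0 = 1 := by linear_combination hdet - g.1.1 0 0 * Two.pow_three hF h0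
  rw [this]
  exact Matrix.diagonal_one

/-- A nontrivial image of the four-dimensional group is a copy. -/
theorem four_injective {G : Type v} [Group G] (g : Cfsg.SU 4 F 2 →* G) (hg : g ≠ 1) : Function.Injective g := by
  haveI := psu_simple hstar hF (n := 4) (by norm_num) (by norm_num)
  rcases (inferInstance : (g.ker.map (QuotientGroup.mk' (Subgroup.center (Cfsg.SU 4 F 2)))).Normal).eq_bot_or_eq_top
    with h | h
  · rw [Subgroup.map_eq_bot_iff, QuotientGroup.ker_mk'] at h
    exact (injective_iff_map_eq_one g).2 fun x hx => center_four (hstar := hstar) hF (h hx)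
  · refine absurd (MonoidHom.ext fun x => ?_) hg
    obtain ⟨y, hy, he⟩ : QuotientGroup.mk' (Subgroup.center (Cfsg.SU 4 F 2)) x ∈
        g.ker.map (QuotientGroup.mk' _) := h ▸ Subgroup.mem_top _
    have hc := center_four (hstar := hstar) hF (QuotientGroup.eq.1 he)
    rw [inv_mul_eq_one] at hc
    rw [← hc]
    exact hy

variable (w : F)

/-- Powers of a cube root of unity. -/
def pw (z : ZMod 3) : F := w ^ z.val

variable {w} (hn : star w * w = 1) (hw1 : w ≠ 1)
include hn hw1

theorem pw_add (a b : ZMod 3) : pw w (a + b) = pw w a * pw w b := by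
  have h3 : w ^ 3 = 1 := Two.pow_three hF (fun h => by rw [h, mul_zero] at hn; exact zero_ne_one hn)
  have aux : ∀ m, w ^ m = w ^ (m % 3) := fun m => by
    conv_lhs => rw [← Nat.mod_add_div m 3, pow_add, pow_mul, h3, one_pow, mul_one]
  rw [pw, pw, pw, ZMod.val_add, ← aux, pow_add]

theorem pw_inj : Function.Injective (pw w) := by
  have hw0 : w ≠ 0 := fun h => by rw [h, mul_zero] at hn; exact zero_ne_one hn
  have h2 : w ^ 2 ≠ 1 := fun h => hw1 (by
    have := Two.pow_three hF hw0
    rw [pow_succ, h, one_mul] at this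
    exact this)
  have h21 : w ^ 2 ≠ w := fun h => hw1 (mul_right_cancel₀ hw0 (by rw [← sq, h, one_mul]))
  intro a b h
  have ha := ZMod.val_lt a
  have hb := ZMod.val_lt b
  apply ZMod.val_injective
  simp only [pw] at h
  rcases (by omega : a.val = 0 ∨ a.val = 1 ∨ a.val = 2) with i | i | i <;>
    rcases (by omega : b.val = 0 ∨ b.val = 1 ∨ b.val = 2) with j | j | j <;>
    rw [i, j] at h ⊢ <;>
    simp [hw1, h2, h21, Ne.symm hw1, Ne.symm h2, Ne.symm h21] at h ⊢

theorem pw_surj {x : F} (hx : x ≠ 0) : ∃ z, pw w z = x := by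
  have hw0 : w ≠ 0 := fun h => by rw [h, mul_zero] at hn; exact zero_ne_one hn
  have h3 := Two.pow_three hF hw0
  have hq : w * w + w + 1 = 0 := (mul_eq_zero.1
    (show (w - 1) * (w * w + w + 1) = 0 by linear_combination h3)).resolve_left (sub_ne_zero.2 hw1)
  rcases mul_eq_zero.1 (show (x - 1) * ((x - w) * (x - w * w)) = 0 by
    linear_combination Two.pow_three hF hx + (x - x ^ 2) * hq + (x - 1) * h3) with h | h
  · exact ⟨0, by simp [pw, sub_eq_zero.1 h]⟩
  rcases mul_eq_zero.1 h with h | h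
  · exact ⟨1, by simp [pw, sub_eq_zero.1 h, ZMod.val_one]⟩
  · exact ⟨2, by rw [sub_eq_zero.1 h, ← sq]; rfl⟩

theorem star_pw (z : ZMod 3) : star (pw w z) = pw w (-z) := by
  have e : z + z = -z := by revert z; decide
  rw [hstar, ← e, pw_add (hstar := hstar) hF hn hw1, sq]

omit hn hw1 in
theorem col_mul_diag {X Y : Cfsg.SU 4 F 2} {x y : Fin 4 → F}
    (hX : ∀ a, act X (Pi.single a 1) = x a • Pi.single a 1) (hY : ∀ a, act Y (Pi.single a 1) = y a • Pi.single a 1)
    (a : Fin 4) : act (X * Y) (Pi.single a 1) = (x a * y a) • Pi.single a 1 := by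
  rw [act_mul, hY, act_smul, hX, smul_smul, mul_comm]

omit hn hw1 in
theorem apply_diag {X : Cfsg.SU 4 F 2} {x : Fin 4 → F}
    (hX : ∀ a, act X (Pi.single a 1) = x a • Pi.single a 1) (v : Fin 4 → F) (b : Fin 4) :
    act X v b = x b * v b := by
  show (X.1.1 *ᵥ v) b = _
  rw [Matrix.mulVec, dotProduct, Finset.sum_eq_single b (fun c _ hc => by
    rw [← act_single_apply, hX, Pi.smul_apply, Pi.single_eq_of_ne hc.symm, smul_zero, zero_mul]) (by simp),
    ← act_single_apply, hX, Pi.smul_apply, Pi.single_eq_same, smul_eq_mul, mul_one]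

/-- A reflection carries weights to reflected weights. -/
theorem Refl.shift {T W : Fin 3 → Cfsg.SU 4 F 2} (R : Refl T W) (f : Fin 4 → Weights.Wt)
    (hcol : ∀ k a, act (T k) (Pi.single a 1) = pw w (coord (f a) k) • Pi.single a 1) (j : Fin 3) (a b : Fin 4)
    (hb : (W j).1.1 b a ≠ 0) :
    f b = (![Weights.r0, Weights.r1, Weights.r2] : Fin 3 → Weights.Wt → Weights.Wt) j (f a) := by
  have key : ∀ (k : Fin 3) (Y : Cfsg.SU 4 F 2) (z : ZMod 3), W j * T k * W j = Y →
      act Y (Pi.single a 1) = pw w z • Pi.single a 1 → coord (f b) k = z := by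
    intro k Y z hY hz
    have e1 : T k * W j = W j * Y := by rw [← hY, ← mul_assoc, ← mul_assoc, R.invol, one_mul]
    have e2 := congrFun (congrArg (fun y => act y (Pi.single a (1 : F))) e1) b
    simp only [act_mul] at e2
    rw [hz, act_smul, apply_diag (hstar := hstar) hF (hcol k), Pi.smul_apply, smul_eq_mul, act_single_apply] at e2
    exact pw_inj (hstar := hstar) hF hn hw1 (mul_right_cancel₀ hb e2)
  have hm : ∀ k l, act (T k * T l) (Pi.single a 1) = pw w (coord (f a) k + coord (f a) l) • Pi.single a 1 :=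
    fun k l => by rw [pw_add (hstar := hstar) hF hn hw1]; exact col_mul_diag (hstar := hstar) hF (hcol k) (hcol l) a
  fin_cases j
  · exact Prod.ext ((key 0 _ _ R.r00 (hm 0 0)).trans (two_mul _).symm)
      (Prod.ext (key 1 _ _ R.r01 (hm 0 1)) (key 2 _ _ R.r02 (hcol 2 a)))
  · exact Prod.ext (key 0 _ _ R.r10 (hm 0 1))
      (Prod.ext ((key 1 _ _ R.r11 (hm 1 1)).trans (two_mul _).symm) (key 2 _ _ R.r12 (hm 1 2)))
  · exact Prod.ext (key 0 _ _ R.r20 (hcol 0 a))
      (Prod.ext (key 1 _ _ R.r21 (hm 1 2)) ((key 2 _ _ R.r22 (hm 2 2)).trans (two_mul _).symm))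

set_option maxHeartbeats 1000000 in
/-- An automorphism gives the three elements their natural weights. -/
theorem Refl.exists_weights {T W : Fin 3 → Cfsg.SU 4 F 2} (R : Refl T W) :
    ∃ γ : MulAut (Cfsg.SU 4 F 2), ∀ k a,
      act (γ (T k)) (Pi.single a 1) = pw w (coord (Weights.pos a) k) • Pi.single a 1 := by
  classical
  obtain ⟨h, hh⟩ := exists_diag (hstar := hstar) hF T R.comm R.cube
  let γ₀ : MulAut (Cfsg.SU 4 F 2) := MulAut.conj h⁻¹
  have hγ₀ : ∀ k, γ₀ (T k) = h⁻¹ * T k * h := fun k => by simp [γ₀]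
  have hne : ∀ k a, (γ₀ (T k)).1.1 a a ≠ 0 := fun k a h0 => by
    obtain ⟨b, hb⟩ := entry_cases (hstar := hstar) hF (γ₀ (T k)) a
    rcases eq_or_ne b a with rfl | hba
    · exact hb h0
    · exact hb (by rw [hγ₀]; exact hh k b a hba)
  choose e he using fun k a => pw_surj (hstar := hstar) hF hn hw1 (hne k a)
  set f : Fin 4 → Weights.Wt := fun a => (e 0 a, e 1 a, e 2 a) with hf
  have hcf : ∀ k a, coord (f a) k = e k a := fun k a => by fin_cases k <;> rfl
  have hcol : ∀ k a, act (γ₀ (T k)) (Pi.single a 1) = pw w (coord (f a) k) • Pi.single a 1 := fun k a => by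
    funext b
    rw [act_single_apply, Pi.smul_apply, smul_eq_mul, hcf]
    by_cases hba : b = a
    · subst hba; simp [he]
    · rw [Pi.single_eq_of_ne hba, mul_zero, hγ₀]
      exact hh k b a hba
  have hR : ∀ j a, ∃ b, f b = (![Weights.r0, Weights.r1, Weights.r2] : Fin 3 → Weights.Wt → Weights.Wt) j (f a) :=
    fun j a => by
      obtain ⟨b, hb⟩ := entry_cases (hstar := hstar) hF (γ₀ (W j)) a
      exact ⟨b, (R.map γ₀).shift (hstar := hstar) hF hn hw1 f hcol j a b hb⟩
  obtain ⟨ρ, neg, hρ⟩ := Weights.classify f (by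
    by_contra! h0
    refine (R.map γ₀).ne (eq_of_single fun a => ?_)
    rw [hcol, show coord (f a) 0 = 0 from h0 a, act_one, pw, ZMod.val_zero, pow_zero, one_smul])
    (hR 0) (hR 1) (hR 2)
  obtain ⟨φ, hφ, hφp⟩ : ∃ φ : F →+* F, (∀ x, φ (star x) = star (φ x)) ∧
      ∀ z : ZMod 3, φ (pw w z) = pw w (if neg then -z else z) := by
    cases neg
    · exact ⟨RingHom.id F, fun _ => rfl, fun _ => rfl⟩
    · exact ⟨starRingEnd F, fun _ => rfl, fun z => by rw [starRingEnd_apply, star_pw (hstar := hstar) hF hn hw1 z]; rfl⟩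
  obtain ⟨β, hβ⟩ := exists_autD hstar (fun _ : Fin 4 => (1 : F)) (fun _ => by simp) φ hφ
  set P := ppHom (hstar := hstar) hF ρ with hP
  refine ⟨β * (MulAut.conj P⁻¹ * γ₀), fun k a => ?_⟩
  have e1 : act (MulAut.conj P⁻¹ (γ₀ (T k))) (Pi.single a 1) = pw w (coord (f (ρ a)) k) • Pi.single a 1 := by
    rw [MulAut.conj_apply, inv_inv, act_mul, act_mul, hP, act_ppHom, hcol, act_smul,
      show (Pi.single (ρ a) (1 : F)) = act (ppHom (hstar := hstar) hF ρ) (Pi.single a 1) from
        (act_ppHom hF ρ a).symm, act_inv_act]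
  funext b
  rw [act_single_apply]
  show (β (MulAut.conj P⁻¹ (γ₀ (T k)))).1.1 b a = _
  rw [hβ, one_mul, star_one, mul_one, ← act_single_apply, e1, Pi.smul_apply, Pi.smul_apply, smul_eq_mul,
    smul_eq_mul, map_mul, hφp, hρ a]
  congr 1
  · congr 1
    cases neg <;> fin_cases k <;> simp [coord]
  · by_cases hba : b = a <;> simp [hba, Pi.single_apply]

/-- The three adjacent transpositions. -/
def swp : Fin 3 → Perm (Fin 4) := ![Equiv.swap 0 1, Equiv.swap 1 2, Equiv.swap 2 3]

set_option maxHeartbeats 1000000 in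
/-- With natural weights the reflections become transpositions. -/
theorem Refl.exists_phases {T W : Fin 3 → Cfsg.SU 4 F 2} (R : Refl T W)
    (hcol : ∀ k a, act (T k) (Pi.single a 1) = pw w (coord (Weights.pos a) k) • Pi.single a 1) :
    ∃ γ : MulAut (Cfsg.SU 4 F 2), (∀ j, γ (W j) = ppHom (hstar := hstar) hF (swp j)) ∧
      ∀ k a, act (γ (T k)) (Pi.single a 1) = pw w (coord (Weights.pos a) k) • Pi.single a 1 := by
  classical
  have hmono : ∀ (j : Fin 3) (a b : Fin 4), b ≠ swp j a → (W j).1.1 b a = 0 := by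
    intro j a b hb
    by_contra hne
    refine hb (Weights.pos_injective ((R.shift (hstar := hstar) hF hn hw1 Weights.pos hcol j a b hne).trans ?_))
    obtain ⟨p0, p1, p2⟩ := Weights.r_pos a
    fin_cases j
    · exact p0
    · exact p1
    · exact p2
  set x : Fin 3 → Fin 4 → F := fun j a => (W j).1.1 (swp j a) a with hx
  have hx0 : ∀ j a, x j a ≠ 0 := fun j a => by
    obtain ⟨b, hb⟩ := entry_cases (hstar := hstar) hF (W j) a
    rwa [show b = swp j a from not_not.1 fun h' => hb (hmono j a b h')] at hb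
  have hswinv : ∀ (j : Fin 3) (a : Fin 4), swp j (swp j a) = a := by
    intro j a
    fin_cases j <;> simp [swp]
  have hxx : ∀ j a, x j (swp j a) * x j a = 1 := fun j a => by
    have e : (W j * W j).1.1 a a = 1 := by rw [R.invol]; exact Matrix.one_apply_eq a
    rw [← e]
    show _ = ((W j).1.1 * (W j).1.1) a a
    rw [Matrix.mul_apply, Finset.sum_eq_single (swp j a) (fun c _ hc => by rw [hmono j a c hc, mul_zero]) (by simp)]
    simp [hx, hswinv]
  set dv : Fin 4 → F := ![1, (x 0 0)⁻¹, (x 0 0)⁻¹ * (x 1 1)⁻¹, (x 0 0)⁻¹ * (x 1 1)⁻¹ * (x 2 2)⁻¹] with hdv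
  have hdn : ∀ a, star (dv a) * dv a = 1 := fun a => Two.norm_one hstar hF (by
    fin_cases a <;> simp [hdv, hx0])
  obtain ⟨β, hβ⟩ := exists_autD hstar dv hdn (RingHom.id F) fun _ => rfl
  refine ⟨β, fun j => ?_, fun k a => ?_⟩
  · refine eq_of_col (hstar := hstar) hF fun a b => ?_
    rw [hβ, ← act_single_apply (ppHom (hstar := hstar) hF (swp j)), act_ppHom]
    show dv b * _ * star (dv a) = _
    by_cases hb : b = swp j a
    · subst hb
      rw [Pi.single_eq_same]
      show dv (swp j a) * x j a * star (dv a) = 1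
      have fixed : ∀ c, swp j c = c → dv (swp j c) * x j c * star (dv c) = 1 := fun c hc => by
        have h1 := hxx j c
        rw [hc] at h1 ⊢
        have h3 := Two.pow_three hF (hx0 j c)
        have : x j c = 1 := by linear_combination h3 - x j c * h1
        rw [this, mul_one, mul_comm]; exact hdn c
      have up : ∀ c c', swp j c = c' → dv c' = dv c * (x j c)⁻¹ →
          dv (swp j c) * x j c * star (dv c) = 1 ∧ dv (swp j c') * x j c' * star (dv c') = 1 := fun c c' hc e => by
        have h1 := hxx j c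
        rw [hc] at h1
        have key : dv c' * x j c * star (dv c) = 1 := by
          rw [e, mul_assoc (dv c), inv_mul_cancel₀ (hx0 j c), mul_one, mul_comm]; exact hdn c
        refine ⟨by rw [hc]; exact key, ?_⟩
        rw [show swp j c' = c by rw [← hc, hswinv]]
        calc dv c * x j c' * star (dv c')
            = dv c * x j c' * star (dv c') * (dv c' * x j c * star (dv c)) := by rw [key, mul_one]
          _ = (star (dv c') * dv c') * (star (dv c) * dv c) * (x j c' * x j c) := by ring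
          _ = 1 := by rw [hdn, hdn, h1, one_mul, one_mul]
      fin_cases j <;> fin_cases a
      · exact (up 0 1 (by decide) (by simp [hdv])).1
      · exact (up 0 1 (by decide) (by simp [hdv])).2
      · exact fixed 2 (by decide)
      · exact fixed 3 (by decide)
      · exact fixed 0 (by decide)
      · exact (up 1 2 (by decide) (by simp [hdv])).1
      · exact (up 1 2 (by decide) (by simp [hdv])).2
      · exact fixed 3 (by decide)
      · exact fixed 0 (by decide)
      · exact fixed 1 (by decide)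
      · exact (up 2 3 (by decide) (by simp [hdv])).1
      · exact (up 2 3 (by decide) (by simp [hdv])).2
    · rw [hmono j a b hb, Pi.single_eq_of_ne hb, map_zero, mul_zero, zero_mul]
  · funext b
    rw [act_single_apply, hβ, ← act_single_apply, hcol]
    by_cases hba : b = a
    · subst hba
      simp
      linear_combination pw w (coord (Weights.pos b) k) * hdn b
    · simp [hba]

set_option maxHeartbeats 1000000 in
/-- A copy of the three-dimensional group with standard torus and reflections fixes its outer vector. -/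
theorem fixes_outer (θ : Cfsg.SU 3 F 2 →* Cfsg.SU 4 F 2) (m : Fin 4) (z : Fin 4 → F)
    (hz : ∀ a, a ≠ m → z a ≠ z m)
    (hZ : ∀ a, act (θ (bA hstar (dia hstar w hn) * bB hstar (dia hstar w hn * dia hstar w hn))) (Pi.single a 1) =
      z a • Pi.single a 1)
    (e1 : act (θ (bA hstar (w2 hstar))) (Pi.single m 1) = Pi.single m 1)
    (e2 : act (θ (bB hstar (w2 hstar))) (Pi.single m 1) = Pi.single m 1)
    (e3 : act (θ (bA hstar (dia hstar w hn))) (Pi.single m 1) = Pi.single m 1)
    (e4 : act (θ (bB hstar (dia hstar w hn))) (Pi.single m 1) = Pi.single m 1) :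
    ∀ y, act (θ y) (Pi.single m 1) = Pi.single m 1 := by
  set Z := bA hstar (dia hstar w hn) * bB hstar (dia hstar w hn * dia hstar w hn) with hZdef
  have hzm : Z.1.1 = Matrix.diagonal (fun _ : Fin 3 => w) := by
    show (bA hstar (dia hstar w hn)).1.1 * (bB hstar (dia hstar w hn * dia hstar w hn)).1.1 = _
    rw [bA_val, bB_val]
    show _ * !![1, 0, 0; 0, ((dia (q := 2) hstar w hn).1.1 * (dia (q := 2) hstar w hn).1.1) 0 0,
      ((dia (q := 2) hstar w hn).1.1 * (dia (q := 2) hstar w hn).1.1) 0 1;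
      0, ((dia (q := 2) hstar w hn).1.1 * (dia (q := 2) hstar w hn).1.1) 1 0,
      ((dia (q := 2) hstar w hn).1.1 * (dia (q := 2) hstar w hn).1.1) 1 1] = _
    rw [dia_val]
    have h3 := Two.pow_three hF (fun h => by rw [h, mul_zero] at hn; exact zero_ne_one hn : w ≠ 0)
    ext i j
    fin_cases i <;> fin_cases j <;>
      simp [Matrix.mul_apply, Fin.sum_univ_three, Fin.sum_univ_two, hstar] <;> grind
  have hZc : ∀ y, Z * y = y * Z := by
    intro y
    refine eq_of_mat ?_
    show Z.1.1 * y.1.1 = y.1.1 * Z.1.1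
    rw [hzm]
    ext i j
    rw [Matrix.diagonal_mul, Matrix.mul_diagonal, mul_comm]
  have col : ∀ y, act (θ y) (Pi.single m 1) = (θ y).1.1 m m • Pi.single m 1 := fun y => by
    have hcy := congrArg (fun g => act g (Pi.single m (1 : F))) (congrArg θ (hZc y))
    simp only [map_mul θ Z y, map_mul θ y Z, act_mul] at hcy
    rw [hZ, act_smul] at hcy
    funext b
    rw [Pi.smul_apply, smul_eq_mul, act_single_apply]
    by_cases hb : b = m
    · subst hb; simp
    rw [Pi.single_eq_of_ne hb, mul_zero]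
    have hb' := congrFun hcy b
    rw [apply_diag (hstar := hstar) hF hZ, Pi.smul_apply, smul_eq_mul, act_single_apply] at hb'
    exact (mul_eq_zero.1 (show (z b - z m) * (θ y).1.1 b m = 0 by linear_combination hb')).resolve_left
      (sub_ne_zero.2 (hz b hb))
  let χ : Cfsg.SU 3 F 2 →* F :=
    { toFun := fun y => (θ y).1.1 m m
      map_one' := by rw [map_one]; exact Matrix.one_apply_eq m
      map_mul' := fun y y' => by
        rw [map_mul, ← act_single_apply, act_mul, col y', act_smul, col y, smul_smul, Pi.smul_apply,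
          Pi.single_eq_same, smul_eq_mul, mul_one, mul_comm] }
  have one : ∀ y, act (θ y) (Pi.single m 1) = Pi.single m 1 → χ y = 1 := fun y hy => by
    show (θ y).1.1 m m = 1
    rw [← act_single_apply, hy, Pi.single_eq_same]
  intro y
  rw [col, show (θ y).1.1 m m = 1 from two_char_trivial (hstar := hstar) hF χ hn hw1 (one _ e1) (one _ e2)
    (one _ e3) (one _ e4) y, one_smul]

omit hn hw1 in
theorem swp_eq : ∀ j : Fin 3, swp j = sw 4 j := by
  intro j
  fin_cases j <;> simp [swp, sw]

set_option maxHeartbeats 1000000 in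
/-- The relations of two adjacent windows. -/
theorem refl_of_windows (θA θB : Cfsg.SU 3 F 2 →* Cfsg.SU 4 F 2) (hA : Function.Injective θA)
    (hcompat : ∀ x, θB (bA hstar x) = θA (bB hstar x))
    (hcomm : ∀ x y, Commute (θA (bA hstar x)) (θB (bB hstar y))) :
    Refl ![θA (bA hstar (dia hstar w hn)), θA (bB hstar (dia hstar w hn)), θB (bB hstar (dia hstar w hn))]
      ![θA (bA hstar (w2 hstar)), θA (bB hstar (w2 hstar)), θB (bB hstar (w2 hstar))] := by
  obtain ⟨d, hd⟩ : ∃ d, d = dia (q := 2) hstar w hn := ⟨_, rfl⟩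
  have hd3 : d ^ 3 = 1 := hd ▸ two_dia_cube hF w hn
  have hab := two_A_comm_B (hstar := hstar) hF hn
  have conjA := two_conj_A (hstar := hstar) hF hn
  have conjAB := two_conj_AB (hstar := hstar) hF hn
  have conjBA := two_conj_BA (hstar := hstar) hF hn
  have conjB := two_conj_B (hstar := hstar) hF hn
  rw [← hd] at conjA conjAB conjBA conjB hab ⊢
  obtain ⟨v, hv⟩ : ∃ v, v = w2 (q := 2) hstar := ⟨_, rfl⟩
  rw [← hv] at conjA conjAB conjBA conjB ⊢
  have hvv : v * v = 1 := hv ▸ two_w2_sq hF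
  have cube3 : ∀ (θ : Cfsg.SU 3 F 2 →* Cfsg.SU 4 F 2) (f : Cfsg.SU 2 F 2 →* Cfsg.SU 3 F 2),
      θ (f d) ^ 3 = 1 := fun θ f => by rw [← map_pow, ← map_pow, hd3, map_one, map_one]
  have sq2 : ∀ (θ : Cfsg.SU 3 F 2 →* Cfsg.SU 4 F 2) (f : Cfsg.SU 2 F 2 →* Cfsg.SU 3 F 2),
      θ (f v) * θ (f v) = 1 := fun θ f => by rw [← map_mul, ← map_mul, hvv, map_one, map_one]
  have conj3 : ∀ (θ : Cfsg.SU 3 F 2 →* Cfsg.SU 4 F 2) {x y z : Cfsg.SU 3 F 2}, x * y * x = z →
      θ x * θ y * θ x = θ z := fun θ {x y z} h => by rw [← map_mul, ← map_mul, h]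
  have hBd : ∀ x, θA (bB hstar x) = θB (bA hstar x) := fun x => (hcompat x).symm
  have c01 : Commute (θA (bA hstar d)) (θA (bB hstar d)) := hab.map θA
  have c12 : Commute (θA (bB hstar d)) (θB (bB hstar d)) := by rw [hBd]; exact hab.map θB
  have c02 : Commute (θA (bA hstar d)) (θB (bB hstar d)) := hcomm d d
  have e00 := (conj3 θA conjA).trans (by rw [map_mul, map_mul] :
    θA (bA hstar (d * d)) = θA (bA hstar d) * θA (bA hstar d))
  have e01 := (conj3 θA conjAB).trans (map_mul θA _ _)
  have e02 : θA (bA hstar v) * θB (bB hstar d) * θA (bA hstar v) = θB (bB hstar d) := by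
    rw [(hcomm v d).eq, mul_assoc, sq2, mul_one]
  have e10 := (conj3 θA conjBA).trans (map_mul θA _ _)
  have e11 := (conj3 θA conjB).trans (by rw [map_mul, map_mul] :
    θA (bB hstar (d * d)) = θA (bB hstar d) * θA (bB hstar d))
  have e12 : θA (bB hstar v) * θB (bB hstar d) * θA (bB hstar v) = θA (bB hstar d) * θB (bB hstar d) := by
    rw [hBd, hBd]; exact (conj3 θB conjAB).trans (map_mul θB _ _)
  have e20 : θB (bB hstar v) * θA (bA hstar d) * θB (bB hstar v) = θA (bA hstar d) := by
    rw [← (hcomm d v).eq, mul_assoc, sq2, mul_one]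
  have e21 : θB (bB hstar v) * θA (bB hstar d) * θB (bB hstar v) = θA (bB hstar d) * θB (bB hstar d) := by
    rw [hBd]; exact (conj3 θB conjBA).trans (map_mul θB _ _)
  have e22 := (conj3 θB conjB).trans (by rw [map_mul, map_mul] :
    θB (bB hstar (d * d)) = θB (bB hstar d) * θB (bB hstar d))
  have hne : θA (bA hstar d) ≠ 1 := fun h => by
    have := blk_injective hstar _ ((hA (h.trans (map_one θA).symm)).trans (map_one (bA hstar)).symm)
    exact hw1 (by simpa [hd, dia_val] using congrArg (fun x : Cfsg.SU 2 F 2 => x.1.1 0 0) this)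
  refine ⟨?_, ?_, ?_, hne, e00, e01, e02, e10, e11, e12, e20, e21, e22⟩
  · intro i
    fin_cases i
    · exact cube3 θA _
    · exact cube3 θA _
    · exact cube3 θB _
  · intro i j
    fin_cases i <;> fin_cases j
    · exact Commute.refl _
    · exact c01
    · exact c02
    · exact c01.symm
    · exact Commute.refl _
    · exact c12
    · exact c02.symm
    · exact c12.symm
    · exact Commute.refl _
  · intro j
    fin_cases j
    · exact sq2 θA _
    · exact sq2 θA _
    · exact sq2 θB _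

set_option maxHeartbeats 1000000 in
/-- Two adjacent windows inside the four-dimensional group are standard up to an automorphism. -/
theorem normalize_four (θA θB : Cfsg.SU 3 F 2 →* Cfsg.SU 4 F 2) (hA : Function.Injective θA)
    (hB : Function.Injective θB) (hcompat : ∀ x, θB (bA hstar x) = θA (bB hstar x))
    (hcomm : ∀ x y, Commute (θA (bA hstar x)) (θB (bB hstar y))) :
    ∃ γ : MulAut (Cfsg.SU 4 F 2),
      (γ.toMonoidHom.comp θA).range = (blk hstar (seg 3 0 (by norm_num : 0 + 3 ≤ 4))).range ∧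
      (γ.toMonoidHom.comp θB).range = (blk hstar (seg 3 1 (by norm_num : 1 + 3 ≤ 4))).range ∧
      γ (θA (bA hstar (w2 hstar))) = ppHom (hstar := hstar) hF (sw 4 0) ∧
      γ (θA (bB hstar (w2 hstar))) = ppHom (hstar := hstar) hF (sw 4 1) ∧
      γ (θB (bB hstar (w2 hstar))) = ppHom (hstar := hstar) hF (sw 4 2) := by
  classical
  haveI : Finite (Cfsg.SU 3 F 2) := Subtype.finite
  haveI : Finite (Cfsg.SU 4 F 2) := Subtype.finite
  set d := dia (q := 2) hstar w hn with hd
  set T : Fin 3 → Cfsg.SU 4 F 2 := ![θA (bA hstar d), θA (bB hstar d), θB (bB hstar d)] with hT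
  set W : Fin 3 → Cfsg.SU 4 F 2 := ![θA (bA hstar (w2 hstar)), θA (bB hstar (w2 hstar)),
    θB (bB hstar (w2 hstar))] with hW
  have R : Refl T W := refl_of_windows (hstar := hstar) hF hn hw1 θA θB hA hcompat hcomm
  obtain ⟨γ₁, hγ₁⟩ := R.exists_weights (hstar := hstar) hF hn hw1
  obtain ⟨γ₂, hγW, hγT⟩ := (R.map γ₁).exists_phases (hstar := hstar) hF hn hw1 hγ₁
  have e0 : γ₂ (γ₁ (θA (bA hstar (w2 hstar)))) = ppHom (hstar := hstar) hF (sw 4 0) :=
    (hγW 0).trans (by rw [swp_eq (hstar := hstar) hF]; rfl)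
  have e1 : γ₂ (γ₁ (θA (bB hstar (w2 hstar)))) = ppHom (hstar := hstar) hF (sw 4 1) :=
    (hγW 1).trans (by rw [swp_eq (hstar := hstar) hF]; rfl)
  have e2 : γ₂ (γ₁ (θB (bB hstar (w2 hstar)))) = ppHom (hstar := hstar) hF (sw 4 2) :=
    (hγW 2).trans (by rw [swp_eq (hstar := hstar) hF]; rfl)
  set γ := γ₂ * γ₁ with hγ
  have hz3 : ∀ (p q : ZMod 3), pw w p * (pw w q * pw w q) = pw w (p + (q + q)) := fun p q => by
    rw [pw_add (hstar := hstar) hF hn hw1, pw_add (hstar := hstar) hF hn hw1]
  refine ⟨γ, ?_, ?_, e0, e1, e2⟩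
  · refine Subgroup.eq_of_le_of_card_ge ?_ (le_of_eq ?_)
    · rintro _ ⟨y, rfl⟩
      rw [← fixS_four_last hstar, mem_fixS]
      simp only [Set.mem_singleton_iff, forall_eq]
      refine fixes_outer (hstar := hstar) hF hn hw1 (γ.toMonoidHom.comp θA) 3
        (fun a => pw w (coord (Weights.pos a) 0 + (coord (Weights.pos a) 1 + coord (Weights.pos a) 1)))
        (fun a ha h' => ?_) (fun a => ?_) ?_ ?_ ?_ ?_ y
      · have := pw_inj (hstar := hstar) hF hn hw1 h'
        clear h'; revert ha this; revert a; decide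
      · show act (γ₂ (γ₁ (θA (bA hstar d * bB hstar (d * d))))) _ = _
        simp only [map_mul]
        rw [← hz3]
        exact col_mul_diag (hstar := hstar) hF (hγT 0) (fun a => col_mul_diag (hstar := hstar) hF (hγT 1) (hγT 1) a) a
      · show act (γ₂ (γ₁ (θA (bA hstar (w2 hstar))))) _ = _
        rw [e0, act_ppHom, sw_fix] <;> decide
      · show act (γ₂ (γ₁ (θA (bB hstar (w2 hstar))))) _ = _
        rw [e1, act_ppHom, sw_fix] <;> decide
      · exact (hγT 0 3).trans (by simp [Weights.pos, coord, pw])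
      · exact (hγT 1 3).trans (by simp [Weights.pos, coord, pw])
    · rw [← Nat.card_congr (MonoidHom.ofInjective (blk_injective (q := 2) hstar (seg 3 0 (by norm_num : 0 + 3 ≤ 4)))).toEquiv,
        ← Nat.card_congr (MonoidHom.ofInjective (f := γ.toMonoidHom.comp θA) (γ.injective.comp hA)).toEquiv]
  · refine Subgroup.eq_of_le_of_card_ge ?_ (le_of_eq ?_)
    · rintro _ ⟨y, rfl⟩
      rw [← fixS_four_first hstar hF, mem_fixS]
      simp only [Set.mem_singleton_iff, forall_eq]
      refine fixes_outer (hstar := hstar) hF hn hw1 (γ.toMonoidHom.comp θB) 0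
        (fun a => pw w (coord (Weights.pos a) 1 + (coord (Weights.pos a) 2 + coord (Weights.pos a) 2)))
        (fun a ha h' => ?_) (fun a => ?_) ?_ ?_ ?_ ?_ y
      · have := pw_inj (hstar := hstar) hF hn hw1 h'
        clear h'; revert ha this; revert a; decide
      · show act (γ₂ (γ₁ (θB (bA hstar d * bB hstar (d * d))))) _ = _
        rw [map_mul θB, hcompat]
        simp only [map_mul]
        rw [← hz3]
        exact col_mul_diag (hstar := hstar) hF (hγT 1) (fun a => col_mul_diag (hstar := hstar) hF (hγT 2) (hγT 2) a) a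
      · show act (γ₂ (γ₁ (θB (bA hstar (w2 hstar))))) _ = _
        rw [hcompat, e1, act_ppHom, sw_fix] <;> decide
      · show act (γ₂ (γ₁ (θB (bB hstar (w2 hstar))))) _ = _
        rw [e2, act_ppHom, sw_fix] <;> decide
      · show act (γ₂ (γ₁ (θB (bA hstar d)))) _ = _
        rw [hcompat]
        exact (hγT 1 0).trans (by simp [Weights.pos, coord, pw])
      · exact (hγT 2 0).trans (by simp [Weights.pos, coord, pw])
    · rw [← Nat.card_congr (MonoidHom.ofInjective (blk_injective (q := 2) hstar (seg 3 1 (by norm_num : 1 + 3 ≤ 4)))).toEquiv,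
        ← Nat.card_congr (MonoidHom.ofInjective (f := γ.toMonoidHom.comp θB) (γ.injective.comp hB)).toEquiv]

omit hn hw1 in
/-- The four-dimensional window. -/
theorem exists_four {G : Type v} [Group G] (ψ₀ ψ₁ : Cfsg.SU 3 F 2 →* G) (h₀ : Function.Injective ψ₀)
    (h₁ : Function.Injective ψ₁) (hcompat : ∀ x, ψ₁ (bA hstar x) = ψ₀ (bB hstar x))
    (hcomm : ∀ x y, Commute (ψ₀ (bA hstar x)) (ψ₁ (bB hstar y))) (g : Cfsg.SU 4 F 2 →* G)
    (hle₀ : ψ₀.range ≤ g.range) (hle₁ : ψ₁.range ≤ g.range) :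
    ∃ Φ : Cfsg.SU 4 F 2 →* G, Φ.range = g.range ∧
      (Φ.comp (blk hstar (seg 3 0 (by norm_num : 0 + 3 ≤ 4)))).range = ψ₀.range ∧
      (Φ.comp (blk hstar (seg 3 1 (by norm_num : 1 + 3 ≤ 4)))).range = ψ₁.range ∧
      Φ (ppHom (hstar := hstar) hF (sw 4 0)) = ψ₀ (bA hstar (w2 hstar)) ∧
      Φ (ppHom (hstar := hstar) hF (sw 4 1)) = ψ₀ (bB hstar (w2 hstar)) ∧
      Φ (ppHom (hstar := hstar) hF (sw 4 2)) = ψ₁ (bB hstar (w2 hstar)) := by
  classical
  obtain ⟨u, -, hu0, hu1, -⟩ := Two.exists_omega hF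
  have hun := Two.norm_one hstar hF hu0
  have hg : Function.Injective g := four_injective (hstar := hstar) hF g fun h => by
    obtain ⟨y, hy⟩ := hle₀ ⟨bA hstar (dia hstar u hun), rfl⟩
    rw [h, MonoidHom.one_apply] at hy
    have := blk_injective hstar _ ((h₀ (hy.symm.trans (map_one ψ₀).symm)).trans (map_one (bA hstar)).symm)
    exact hu1 (by simpa [dia_val] using congrArg (fun x : Cfsg.SU 2 F 2 => x.1.1 0 0) this)
  let r : (ψ : Cfsg.SU 3 F 2 →* G) → ψ.range ≤ g.range → (Cfsg.SU 3 F 2 →* Cfsg.SU 4 F 2) := fun ψ hψ =>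
    (MonoidHom.ofInjective hg).symm.toMonoidHom.comp (ψ.codRestrict g.range fun x => hψ ⟨x, rfl⟩)
  have hr : ∀ ψ hψ x, g (r ψ hψ x) = ψ x := fun ψ hψ x => MonoidHom.apply_ofInjective_symm hg _
  obtain ⟨γ, hA, hB, e0, e1, e2⟩ := normalize_four (hstar := hstar) hF hun hu1 (r ψ₀ hle₀) (r ψ₁ hle₁)
    (fun a b hab => h₀ (by rw [← hr ψ₀ hle₀, hab, hr])) (fun a b hab => h₁ (by rw [← hr ψ₁ hle₁, hab, hr]))
    (fun x => hg (by rw [hr, hr, hcompat]))
    (fun x y => hg (by rw [map_mul, map_mul, hr, hr, (hcomm x y).eq]))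
  refine ⟨g.comp γ.symm.toMonoidHom, ?_, ?_, ?_, ?_, ?_, ?_⟩
  · rw [MonoidHom.range_comp, MonoidHom.range_eq_top.2 γ.symm.surjective, ← MonoidHom.range_eq_map]
  · rw [MonoidHom.range_comp, ← hA, ← MonoidHom.range_comp]
    congr 1
    ext x
    simp [hr]
  · rw [MonoidHom.range_comp, ← hB, ← MonoidHom.range_comp]
    congr 1
    ext x
    simp [hr]
  · simp [← e0, hr]
  · simp [← e1, hr]
  · simp [← e2, hr]

end Cfsg.Agent.Small.Phan
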