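import Cfsg.Agent.Lib.Small.Phan.TwoFour
import Cfsg.Agent.Lib.Small.Phan.Induct
import Cfsg.Agent.Lib.Small.SUPres.Induct

/-!
Aligned windows over four elements with commuting distant members generate a quotient of the large special unitary
group: the four-dimensional window and the symmetric group of the monomial elements are glued.
-/

set_option autoImplicit false
set_option linter.unusedSectionVars false
set_option linter.style.haveILetI false

namespace Cfsg.Agent.Small.Phan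

open Matrix Equiv Cfsg.Agent.Small.Unitary Cfsg.Agent.Small.UCover Cfsg.Agent.Small.SUPres

universe u v

/-- The shift of four consecutive points. -/
def shiftP (N i : ℕ) : Perm (Fin N) := sw N i * sw N (i + 1) * sw N (i + 2)

theorem shiftP_val {N i : ℕ} (h : i + 4 ≤ N) (x : Fin N) (h1 : i ≤ (x : ℕ)) (h2 : (x : ℕ) < i + 3) :
    ((shiftP N i x : Fin N) : ℕ) = x + 1 := by
  rw [shiftP, Perm.mul_apply, Perm.mul_apply, sw_val (by omega), sw_val (by omega), sw_val (by omega)]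
  rcases (by omega : (x : ℕ) = i ∨ (x : ℕ) = i + 1 ∨ (x : ℕ) = i + 2) with e | e | e <;>
    simp (disch := omega) only [if_pos, if_neg, ↓reduceIte] <;> omega

theorem sign_sw {N i : ℕ} (h : i + 1 < N) : Perm.sign (sw N i) = -1 := by
  rw [sw_eq h, Perm.sign_swap]
  simp [Fin.ext_iff]

theorem sign_shiftP {N i : ℕ} (h : i + 4 ≤ N) : Perm.sign (shiftP N i) = -1 := by
  rw [shiftP, map_mul, map_mul, sign_sw (by omega), sign_sw (by omega), sign_sw (by omega)]
  decide

theorem shiftP_fix {N i : ℕ} (x : Fin N) (h : i + 4 ≤ (x : ℕ)) : shiftP N i x = x := by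
  rw [shiftP, Perm.mul_apply, Perm.mul_apply, sw_fix x (by omega) (by omega), sw_fix x (by omega) (by omega),
    sw_fix x (by omega) (by omega)]

variable {F : Type u} [Field F] [Fintype F] [StarRing F] {hstar : ∀ x : F, star x = x ^ 2}
  (hF : Fintype.card F = 2 ^ 2) {G : Type v} [Group G] {N : ℕ}

include hF

set_option maxHeartbeats 4000000 in
/-- The windows generate a quotient of the large group. -/
theorem exists_glue (hN : 5 ≤ N) (C : Chain G hstar N) (V : ℕ → Subgroup G)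
    (hψ : ∀ i, i + 3 ≤ N → Function.Injective (C.ψ i) ∧ (C.ψ i).range = V i)
    (h4 : ∀ i, i + 4 ≤ N → ∃ g : Cfsg.SU 4 F 2 →* G, g.range = V i ⊔ V (i + 1))
    (h5 : ∀ i j, i + 2 ≤ N → j + 3 ≤ N → (i + 2 ≤ j ∨ j + 3 ≤ i) → ∀ x, ∀ y ∈ V j, Commute (C.u i x) y)
    (h6 : ∀ i k, i + 3 ≤ k → k + 3 ≤ N → ∀ x ∈ V i, ∀ y ∈ V k, Commute x y) :
    ∃ f : Cfsg.SU N F 2 →* G, ∀ i, i + 3 ≤ N → V i ≤ f.range := by
  classical
  -- the symmetric group
  set v := w2 (q := 2) hstar with hv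
  let w : ℕ → G := fun i => C.u i v
  have hw : Cfsg.Agent.Lie.SymRels w (N - 1) :=
    ⟨fun i _ => by
        show C.u i v * C.u i v = 1
        rw [← map_mul, hv, two_w2_sq hF, map_one],
      fun i hi => by
        show C.u i v * C.u (i + 1) v * C.u i v = C.u (i + 1) v * C.u i v * C.u (i + 1) v
        rw [← C.ψ_bA (show i + 3 ≤ N by omega), ← C.ψ_bB (show i + 3 ≤ N by omega), ← map_mul, ← map_mul, ← map_mul,
          ← map_mul]
        congr 1
        refine eq_of_vec fun a b c => ?_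
        simp only [act_mul, act_bA_vec, act_bB_vec, hv]
        funext r
        fin_cases r <;> simp [act, Matrix.mulVec, dotProduct, Fin.sum_univ_two, two_w2_val hF],
      fun i j hij hj => by
        show C.u i v * C.u j v = C.u j v * C.u i v
        rw [C.u_apply, C.u_apply]
        exact (C.comm i j (by omega) (by omega) v v).eq⟩
  obtain ⟨ν, hν⟩ := exists_sym (N := N) (by omega) w hw
  -- the four-dimensional windows
  have hΦ : ∀ i, i + 4 ≤ N → ∃ Φ : Cfsg.SU 4 F 2 →* G, Φ.range = V i ⊔ V (i + 1) ∧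
      (Φ.comp (blk hstar (seg 3 0 (by norm_num : 0 + 3 ≤ 4)))).range = V i ∧
      (Φ.comp (blk hstar (seg 3 1 (by norm_num : 1 + 3 ≤ 4)))).range = V (i + 1) ∧
      ∀ j, j < 3 → Φ (ppHom (hstar := hstar) hF (sw 4 j)) = w (i + j) := by
    intro i hi
    obtain ⟨g, hg⟩ := h4 i hi
    obtain ⟨Φ, r0, r1, r2, e0, e1, e2⟩ := exists_four (hstar := hstar) hF (C.ψ i) (C.ψ (i + 1))
      (hψ i (by omega)).1 (hψ (i + 1) (by omega)).1 (C.compat i hi)
      (fun x y => by
        rw [C.ψ_bA (by omega : i + 3 ≤ N), C.ψ_bB (by omega : i + 1 + 3 ≤ N), C.u_apply, C.u_apply]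
        exact C.comm i (i + 1 + 1) le_rfl (by omega) x y)
      g (by rw [(hψ i (by omega)).2, hg]; exact le_sup_left) (by rw [(hψ (i + 1) (by omega)).2, hg]; exact le_sup_right)
    refine ⟨Φ, r0.trans hg, r1.trans (hψ i (by omega)).2, r2.trans (hψ (i + 1) (by omega)).2, fun j hj => ?_⟩
    rcases (by omega : j = 0 ∨ j = 1 ∨ j = 2) with rfl | rfl | rfl
    · rw [e0, C.ψ_bA (by omega : i + 3 ≤ N)]; rfl
    · rw [e1, C.ψ_bB (by omega : i + 3 ≤ N)]
    · rw [e2, C.ψ_bB (by omega : i + 1 + 3 ≤ N)]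
  -- the shift carries a window onto the next
  have hshift : ∀ i, i + 4 ≤ N → (∀ x ∈ V i, ν (shiftP N i) * x * (ν (shiftP N i))⁻¹ ∈ V (i + 1)) ∧
      ∀ z ∈ V (i + 1), ∃ x ∈ V i, z = ν (shiftP N i) * x * (ν (shiftP N i))⁻¹ := by
    intro i hi
    obtain ⟨Φ, -, rA, rB, hs⟩ := hΦ i hi
    have ep : ν (shiftP N i) = Φ (ppHom (hstar := hstar) hF (shiftP 4 0)) := by
      rw [shiftP, shiftP, map_mul, map_mul, map_mul (ppHom (hstar := hstar) hF), map_mul (ppHom (hstar := hstar) hF),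
        map_mul Φ, map_mul Φ, hs 0 (by norm_num), hs 1 (by norm_num), hs 2 (by norm_num),
        hν i (by omega), hν (i + 1) (by omega), hν (i + 2) (by omega)]
      rfl
    have key : ∀ y, ν (shiftP N i) * Φ (blk hstar (seg 3 0 (by norm_num : 0 + 3 ≤ 4)) y) * (ν (shiftP N i))⁻¹ =
        Φ (blk hstar (seg 3 1 (by norm_num : 1 + 3 ≤ 4)) y) := fun y => by
      rw [ep, ← map_inv, ← map_mul, ← map_mul, pp_blk]
      congr 1
    constructor
    · intro x hx
      rw [← rA] at hx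
      obtain ⟨y, rfl⟩ := hx
      rw [← rB]
      exact ⟨y, (key y).symm⟩
    · intro z hz
      rw [← rB] at hz
      obtain ⟨y, rfl⟩ := hz
      exact ⟨_, rA ▸ ⟨y, rfl⟩, (key y).symm⟩
  -- permutations fixing a prefix centralise the first windows
  have cG : ∀ (a j : ℕ), j + 3 ≤ a → j + 3 ≤ N → ∀ ρ : Perm (Fin N), (∀ x : Fin N, (x : ℕ) < a → ρ x = x) →
      ∀ y ∈ V j, Commute (ν ρ) y := by
    intro a j ha hj ρ hρ y hy
    have : ρ ∈ (Subgroup.centralizer {y}).comap ν := interval_gen (a := a) (b := N) le_rfl _ (fun i hi hi' => by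
      rw [Subgroup.mem_comap]
      rw [hν i hi', Subgroup.mem_centralizer_singleton_iff]
      exact (h5 i j (by omega) hj (Or.inr (by omega)) v y hy).eq)
      fun x hx => hρ x (hx.resolve_right (by have := x.isLt; omega))
    exact Subgroup.mem_centralizer_singleton_iff.1 this
  obtain ⟨Φ₀, rΦ, rA, -, hΦw⟩ := hΦ 0 (by omega)
  set e4 := seg 4 0 (by omega : 0 + 4 ≤ N) with he4
  set bk := blk (q := 2) hstar (seg 3 0 (by norm_num : 0 + 3 ≤ 4)) with hbk
  set e3 := seg 3 0 (by omega : 0 + 3 ≤ N) with he3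
  -- the two levels
  let ν' : Perm (Fin N) →* G × Cfsg.SU N F 2 := ν.prod (ppHom (hstar := hstar) hF)
  let Ψ₀ : Cfsg.SU 4 F 2 →* G × Cfsg.SU N F 2 := Φ₀.prod (blk hstar e4)
  have hin : ∀ ρ : Perm (Fin N), (∀ x : Fin N, 4 ≤ (x : ℕ) → ρ x = x) → ν' ρ ∈ Ψ₀.range := by
    intro ρ hρ
    exact interval_gen (a := 0) (b := 4) (by omega) (Ψ₀.range.comap ν') (fun i _ hi => by
      refine ⟨ppHom (hstar := hstar) hF (sw 4 i), Prod.ext ?_ ?_⟩
      · show Φ₀ _ = ν (sw N i)
        rw [hΦw i (by omega), hν i (by omega), Nat.zero_add]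
      · show blk hstar e4 _ = ppHom (hstar := hstar) hF (sw N i)
        rw [pp_sw hF (show i + 2 ≤ 4 by omega), pp_sw hF (show i + 2 ≤ N by omega), he4,
          blk_seg_seg hstar _ _ (Nat.zero_add i) (by omega)])
      fun x hx => hρ x (hx.resolve_left (Nat.not_lt_zero _))
  have hfixblk : ∀ (ρ : Perm (Fin N)) {k : ℕ} (e : Fin k ↪ Fin N), (∀ a, ρ (e a) = e a) → ∀ y,
      Commute (ppHom (hstar := hstar) hF ρ) (blk hstar e y) := fun ρ k e h y =>
    mul_inv_eq_iff_eq_mul.1 ((pp_blk hF ρ e y).trans (blk_congr (fun a => congrArg Fin.val (h a)) y))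
  have c4 : ∀ ρ : Perm (Fin N), (∀ x : Fin N, (x : ℕ) < 4 → ρ x = x) → ∀ y, Commute (ν' ρ) (Ψ₀ y) := by
    intro ρ hρ y
    refine Prod.ext ?_ (hfixblk ρ e4 (fun a => hρ _ (by rw [he4, seg_val]; omega)) y).eq
    have : V 0 ⊔ V 1 ≤ Subgroup.centralizer {ν ρ} := sup_le
      (fun z hz => Subgroup.mem_centralizer_singleton_iff.2 (cG 4 0 (by norm_num) (by omega) ρ hρ z hz).eq.symm)
      (fun z hz => Subgroup.mem_centralizer_singleton_iff.2 (cG 4 1 (by norm_num) (by omega) ρ hρ z hz).eq.symm)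
    exact (Subgroup.mem_centralizer_singleton_iff.1 (this (by rw [← rΦ]; exact ⟨y, rfl⟩ : Φ₀ y ∈ _))).symm
  have hΨA : ∀ z, (Ψ₀ (bk z)).1 ∈ V 0 ∧ (Ψ₀ (bk z)).2 = blk hstar e3 z := fun z =>
    ⟨rA ▸ ⟨z, rfl⟩, by
      show blk hstar e4 (bk z) = _
      rw [hbk, he4, blk_seg_seg hstar _ _ (Nat.zero_add 0) (by omega)]⟩
  have c3 : ∀ ρ : Perm (Fin N), (∀ x : Fin N, (x : ℕ) < 3 → ρ x = x) → ∀ z, Commute (ν' ρ) (Ψ₀ (bk z)) := by
    intro ρ hρ z
    refine Prod.ext (cG 3 0 le_rfl (by omega) ρ hρ _ (hΨA z).1).eq ?_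
    show ppHom (hstar := hstar) hF ρ * (Ψ₀ (bk z)).2 = (Ψ₀ (bk z)).2 * ppHom (hstar := hstar) hF ρ
    rw [(hΨA z).2]
    exact (hfixblk ρ e3 (fun a => hρ _ (by rw [he3, seg_val]; omega)) z).eq
  let μ₀ : alternatingGroup (Fin N) →* G × Cfsg.SU N F 2 := ν'.comp (alternatingGroup (Fin N)).subtype
  let Hs : Subgroup (G × Cfsg.SU N F 2) := Ψ₀.range ⊔ μ₀.range
  let μ : alternatingGroup (Fin N) →* ↥Hs := μ₀.codRestrict Hs fun σ => Subgroup.mem_sup_right ⟨σ, rfl⟩
  have hconj0 : ∀ z, ν' (sw N 0) * Ψ₀ z * (ν' (sw N 0))⁻¹ ∈ Ψ₀.range := fun z =>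
    have h0 : ν' (sw N 0) ∈ Ψ₀.range := hin _ fun x hx => sw_fix x (by omega) (by omega)
    mul_mem (mul_mem h0 ⟨z, rfl⟩) (inv_mem h0)
  let D : Glue F N ↥Hs hstar 4 :=
    { π := (MonoidHom.snd G _).comp Hs.subtype
      μ := μ
      B := Ψ₀.range.subgroupOf Hs
      four := le_rfl
      le := by omega
      inj := fun x hx h1 => by
        obtain ⟨y, hy⟩ := Subgroup.mem_subgroupOf.1 hx
        have : blk hstar e4 y = 1 := (congrArg Prod.snd hy).trans h1
        rw [← map_one (blk (q := 2) hstar e4)] at this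
        refine Subtype.ext ?_
        rw [← hy, blk_injective hstar _ this, map_one]
        rfl
      map_B := by
        rw [← Subgroup.map_map, Subgroup.subgroupOf_map_subtype, inf_of_le_left le_sup_left, ← MonoidHom.range_comp,
          MonoidHom.snd_comp_prod, he4, seg_zero, blk_castLE, range_inclHom (q := 2) hstar]
      perm := fun σ => (permHom_eq hF σ).symm
      outer := fun σ hσ x hx => by
        obtain ⟨y, hy⟩ := Subgroup.mem_subgroupOf.1 hx
        refine Subtype.ext ?_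
        show ν' σ.1 * x.1 = x.1 * ν' σ.1
        rw [← hy]
        exact (c4 σ.1 hσ y).eq
      inner := fun σ hσ => Subgroup.mem_subgroupOf.2 (hin σ.1 hσ)
      shift := fun a b c d hab hcd ha hb hc hd x hx hfix => by
        obtain ⟨y, hy⟩ := Subgroup.mem_subgroupOf.1 hx
        refine Subgroup.mem_subgroupOf.2 ?_
        show ν' (dswap a b c d hab hcd).1 * x.1 * (ν' (dswap a b c d hab hcd).1)⁻¹ ∈ _
        have e : (dswap a b c d hab hcd).1 = sw N 0 * sw N 3 := by
          show Equiv.swap a b * Equiv.swap c d = _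
          rw [sw_eq (by omega), sw_eq (by omega)]
          congr 2 <;> exact Fin.ext (by simp only; omega)
        have hy3 : act y (Pi.single 3 (1 : F)) = Pi.single 3 1 := by
          have hc' : e4 3 = c := Fin.ext (by rw [he4, seg_val]; simp; omega)
          change act x.1.2 _ = _ at hfix
          rw [← hy, ← hc'] at hfix
          change act (blk hstar e4 y) _ = _ at hfix
          rw [act_blk_single] at hfix
          funext b'
          have := congrFun hfix (e4 b')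
          rw [eMat_mulVec_apply] at this
          rw [this]
          simp [Pi.single_apply, e4.injective.eq_iff]
        have : y ∈ (blk (q := 2) hstar (seg 3 0 (by norm_num : 0 + 3 ≤ 4))).range := by
          rw [← fixS_four_last hstar, mem_fixS]
          simpa using hy3
        obtain ⟨z, rfl⟩ := this
        rw [← hy, ← hbk, e, map_mul, _root_.mul_inv_rev,
          show ν' (sw N 0) * ν' (sw N 3) * Ψ₀ (bk z) * ((ν' (sw N 3))⁻¹ * (ν' (sw N 0))⁻¹) =
            ν' (sw N 0) * (ν' (sw N 3) * Ψ₀ (bk z) * (ν' (sw N 3))⁻¹) * (ν' (sw N 0))⁻¹ by group,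
          (c3 (sw N 3) (fun u hu => sw_fix u (by omega) (by omega)) z).eq, mul_inv_cancel_right]
        exact hconj0 _
      odd := fun a b c d hab hcd ha hb hc hd x hx => by
        obtain ⟨y, hy⟩ := Subgroup.mem_subgroupOf.1 hx
        refine Subgroup.mem_subgroupOf.2 ?_
        show ν' (dswap a b c d hab hcd).1 * x.1 * (ν' (dswap a b c d hab hcd).1)⁻¹ ∈ _
        have e : (dswap a b c d hab hcd).1 = sw N 0 * sw N 4 := by
          show Equiv.swap a b * Equiv.swap c d = _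
          have := d.isLt
          rw [sw_eq (by omega), sw_eq (by omega)]
          congr 2 <;> exact Fin.ext (by simp only; omega)
        rw [← hy, e, map_mul, _root_.mul_inv_rev,
          show ν' (sw N 0) * ν' (sw N 4) * Ψ₀ y * ((ν' (sw N 4))⁻¹ * (ν' (sw N 0))⁻¹) =
            ν' (sw N 0) * (ν' (sw N 4) * Ψ₀ y * (ν' (sw N 4))⁻¹) * (ν' (sw N 0))⁻¹ by group,
          (c4 (sw N 4) (fun u hu => sw_fix u (by omega) (by omega)) y).eq, mul_inv_cancel_right]
        exact hconj0 _ }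
  have hsq : 6 ≤ N → D.SqRel := by
    intro h6N a b c d hab hcd ha hb hc hd l hl
    let e : Fin N := ⟨2, by omega⟩
    have hec : e ≠ c := fun h => by rw [Fin.ext_iff] at h; simp [e] at h; omega
    set τ := dswap a b c d hab hcd with hτ
    set c5 := dswap a b e c hab hec with hc5
    have hτinv : τ * τ = 1 := dswap_mul_self hab hcd (by simp [Fin.ext_iff]; omega) (by simp [Fin.ext_iff]; omega)
      (by simp [Fin.ext_iff]; omega) (by simp [Fin.ext_iff]; omega)
    have c5l : c5 ∈ lowPerm N 5 := dswap_low hab hec (by omega) (by omega) (by simp [e]) (by omega)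
    let s : alternatingGroup (Fin N) := ⟨shiftP N 1 * shiftP N 0, by
      rw [Perm.mem_alternatingGroup, map_mul, sign_shiftP (by omega), sign_shiftP (by omega)]; decide⟩
    have sl : s ∈ lowPerm N 5 := fun i hi => by
      show shiftP N 1 (shiftP N 0 i) = i
      rw [shiftP_fix i (by omega), shiftP_fix i (by omega)]
    obtain ⟨y, hy⟩ := exists_move hstar hF (on_one (show herm (Pi.single 2 (1 : F)) (Pi.single (2 : Fin 3) 1) = 1 by
      simp [herm_single_left])) (on_one (show herm (![1, 1, 1] : Fin 3 → F) ![1, 1, 1] = 1 by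
      simp [herm, dotProduct, Fin.sum_univ_three, Two.two_eq_zero hF])) (by norm_num : 1 < 3)
    obtain ⟨y', hy'⟩ := exists_move hstar hF (on_one (show herm (Pi.single 2 (1 : F)) (Pi.single (2 : Fin 3) 1) = 1 by
      simp [herm_single_left])) (on_one (show herm (![1, l, 1] : Fin 3 → F) ![1, l, 1] = 1 by
      simp [herm, dotProduct, Fin.sum_univ_three, hl, Two.two_eq_zero hF])) (by norm_num : 1 < 3)
    have hB : ∀ z, (⟨Ψ₀ (bk z), Subgroup.mem_sup_left ⟨_, rfl⟩⟩ : ↥Hs) ∈ D.Hk 5 := fun z =>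
      Subgroup.mem_sup_left (Subgroup.mem_subgroupOf.2 ⟨_, rfl⟩)
    let bb : Cfsg.SU 3 F 2 → ↥Hs := fun z => ⟨Ψ₀ (bk z), Subgroup.mem_sup_left ⟨_, rfl⟩⟩
    let x : ↥Hs := D.μ c5 * bb y * (D.μ c5)⁻¹
    let g : ↥Hs := D.μ s * bb y' * (D.μ s)⁻¹
    have hx : x ∈ D.Hk 5 := mul_mem (mul_mem (D.μ_mem c5l) (hB y)) (inv_mem (D.μ_mem c5l))
    have hg : g ∈ D.Hk 5 := mul_mem (mul_mem (D.μ_mem sl) (hB y')) (inv_mem (D.μ_mem sl))
    set σ := τ.1 * c5.1 with hσ
    have hh : (D.μ τ * x * D.μ τ).1 = ν' σ * Ψ₀ (bk y) * (ν' σ)⁻¹ := by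
      show ν' τ.1 * (ν' c5.1 * Ψ₀ (bk y) * (ν' c5.1)⁻¹) * ν' τ.1 = _
      rw [hσ, map_mul, _root_.mul_inv_rev, ← map_inv ν' τ.1,
        show τ.1⁻¹ = τ.1 from inv_eq_of_mul_eq_one_right (congrArg Subtype.val hτinv)]
      group
    -- values of the permutations
    have hτv : ∀ u : Fin N, ((τ.1 u : Fin N) : ℕ) = if (u : ℕ) = 0 then (1 : ℕ) else if (u : ℕ) = 1 then 0 else
        if (u : ℕ) = 4 then 5 else if (u : ℕ) = 5 then (4 : ℕ) else (u : ℕ) := fun u => by
      show ((Equiv.swap a b (Equiv.swap c d u) : Fin N) : ℕ) = _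
      simp only [Equiv.swap_apply_def, Fin.ext_iff]
      split_ifs <;> omega
    have hcv : ∀ u : Fin N, ((c5.1 u : Fin N) : ℕ) = if (u : ℕ) = 0 then (1 : ℕ) else if (u : ℕ) = 1 then 0 else
        if (u : ℕ) = 2 then (4 : ℕ) else if (u : ℕ) = 4 then (2 : ℕ) else (u : ℕ) := fun u => by
      show ((Equiv.swap a b (Equiv.swap e c u) : Fin N) : ℕ) = _
      simp only [Equiv.swap_apply_def, Fin.ext_iff, show (e : ℕ) = 2 from rfl]
      have he : (e : ℕ) = 2 := rfl
      split_ifs <;> omega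
    have hσv : ∀ u : Fin N, ((σ u : Fin N) : ℕ) = if (u : ℕ) = 2 then (5 : ℕ) else if (u : ℕ) = 4 then 2 else
        if (u : ℕ) = 5 then (4 : ℕ) else (u : ℕ) := fun u => by
      rw [hσ, Perm.mul_apply, hτv, hcv]
      rcases (by omega : (u : ℕ) = 0 ∨ (u : ℕ) = 1 ∨ (u : ℕ) = 2 ∨ (u : ℕ) = 4 ∨ (u : ℕ) = 5 ∨
        ((u : ℕ) ≠ 0 ∧ (u : ℕ) ≠ 1 ∧ (u : ℕ) ≠ 2 ∧ (u : ℕ) ≠ 4 ∧ (u : ℕ) ≠ 5)) with h | h | h | h | h |
          ⟨h0, h1, h2, h4, h5⟩ <;> simp [*]
    have hsv : ∀ u : Fin N, (u : ℕ) < 3 → ((s.1 u : Fin N) : ℕ) = u + 2 := fun u hu => by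
      show ((shiftP N 1 (shiftP N 0 u) : Fin N) : ℕ) = _
      rw [shiftP_val (by omega) _ (by rw [shiftP_val (by omega) u (by omega) (by omega)]; omega)
        (by rw [shiftP_val (by omega) u (by omega) (by omega)]; omega),
        shiftP_val (by omega) u (by omega) (by omega)]
    have e3v : ∀ k : Fin 3, (e3 k : ℕ) = k := fun k => by rw [he3, seg_val, Nat.zero_add]
    have hπσ : ∀ z (ρ : Perm (Fin N)), (ν' ρ * Ψ₀ (bk z) * (ν' ρ)⁻¹).2 = blk hstar (e3.trans ρ.toEmbedding) z :=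
      fun z ρ => by
      show ppHom (hstar := hstar) hF ρ * (Ψ₀ (bk z)).2 * (ppHom (hstar := hstar) hF ρ)⁻¹ = _
      rw [(hΨA z).2, pp_blk]
    have hcomm : Commute g.1 (D.μ τ * x * D.μ τ).1 := by
      rw [hh]
      refine Prod.ext ?_ ?_
      · show Commute (ν s.1 * (Ψ₀ (bk y')).1 * (ν s.1)⁻¹) (ν σ * (Ψ₀ (bk y)).1 * (ν σ)⁻¹)
        set q := shiftP N 2 * shiftP N 1 * shiftP N 0 with hq
        set r := sw N 0 * (q⁻¹ * σ⁻¹ * s.1) with hr
        have hr3 : ∀ u : Fin N, (u : ℕ) < 3 → r u = u := by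
          intro u hu
          have hsu := hsv u hu
          set k : Fin N := sw N 0 u with hk
          have hkv : (k : ℕ) = if (u : ℕ) = 0 then (1 : ℕ) else if (u : ℕ) = 1 then 0 else u := by
            rw [hk, sw_val (by omega)]
          have hk3 : (k : ℕ) < 3 := by rw [hkv]; split_ifs <;> omega
          have hqk : ((q k : Fin N) : ℕ) = k + 3 := by
            rw [hq, Perm.mul_apply, Perm.mul_apply]
            have a0 := shiftP_val (show 0 + 4 ≤ N by omega) k (by omega) (by omega)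
            have a1 := shiftP_val (show 1 + 4 ≤ N by omega) (shiftP N 0 k) (by omega) (by omega)
            have a2 := shiftP_val (show 2 + 4 ≤ N by omega) (shiftP N 1 (shiftP N 0 k)) (by omega) (by omega)
            omega
          have hsq' : s.1 u = σ (q k) := Fin.ext (by
            rw [hsu, hσv, hqk, hkv]
            rcases (by omega : (u : ℕ) = 0 ∨ (u : ℕ) = 1 ∨ (u : ℕ) = 2) with h | h | h <;> simp [h])
          rw [hr, Perm.mul_apply, Perm.mul_apply, Perm.mul_apply, hsq',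
            show σ⁻¹ (σ (q k)) = q k from σ.symm_apply_apply _, show q⁻¹ (q k) = k from q.symm_apply_apply _, hk]
          exact (congrArg (· u) (sw_sq N 0) : (sw N 0 * sw N 0) u = _)
        have hw0 : ν (sw N 0) ∈ V 0 := by
          rw [hν 0 (by omega), ← (hψ 0 (by omega)).2]
          exact ⟨bA hstar v, C.ψ_bA (by omega) v⟩
        set z' := ν (sw N 0) * (Ψ₀ (bk y')).1 * (ν (sw N 0))⁻¹ with hz'
        have hz'V : z' ∈ V 0 := mul_mem (mul_mem hw0 (hΨA y').1) (inv_mem hw0)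
        have eqs : ν s.1 * (Ψ₀ (bk y')).1 * (ν s.1)⁻¹ = ν σ * (ν q * z' * (ν q)⁻¹) * (ν σ)⁻¹ := by
          rw [show s.1 = σ * (q * (sw N 0 * r)) by
            rw [hr, ← mul_assoc (sw N 0) (sw N 0), sw_sq]; group, map_mul ν σ, map_mul ν q, map_mul ν (sw N 0), hz',
            show ν σ * (ν q * (ν (sw N 0) * ν r)) * (Ψ₀ (bk y')).1 * (ν σ * (ν q * (ν (sw N 0) * ν r)))⁻¹ =
              ν σ * (ν q * (ν (sw N 0) * (ν r * (Ψ₀ (bk y')).1 * (ν r)⁻¹) * (ν (sw N 0))⁻¹) * (ν q)⁻¹) * (ν σ)⁻¹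
              by group, (cG 3 0 le_rfl (by omega) r hr3 _ (hΨA y').1).eq, mul_inv_cancel_right]
        rw [eqs]
        have hq3 : ν q * z' * (ν q)⁻¹ ∈ V 3 := by
          have := (hshift 2 (by omega)).1 _ ((hshift 1 (by omega)).1 _ ((hshift 0 (by omega)).1 z' hz'V))
          rw [hq, map_mul, map_mul]
          convert this using 1
          group
        exact ((h6 0 3 le_rfl (by omega) _ (hΨA y).1 _ hq3).symm).map (MulAut.conj (ν σ))
      · show Commute (ν' s.1 * Ψ₀ (bk y') * (ν' s.1)⁻¹).2 (ν' σ * Ψ₀ (bk y) * (ν' σ)⁻¹).2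
        rw [hπσ, hπσ]
        refine blk_commute hstar _ _ (fun k k' h => ?_) _ _
        have h' : ((s.1 (e3 k) : Fin N) : ℕ) = ((σ (e3 k') : Fin N) : ℕ) := congrArg Fin.val h
        rw [hsv _ (by rw [e3v]; omega), hσv, e3v, e3v] at h'
        split_ifs at h' <;> omega
    refine ⟨x, g, x, g, hx, hg, hx, hg, ?_, ?_, ?_⟩
    · have : g * (D.μ τ * x * D.μ τ) = D.μ τ * x * D.μ τ * g := Subtype.ext hcomm.eq
      rw [← this]
      simp only [mul_assoc]
    · show act (D.μ τ * x * D.μ τ).1.2 _ = _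
      rw [hh, hπσ, show d = (e3.trans σ.toEmbedding) 2 from Fin.ext (by
        show (d : ℕ) = ((σ (e3 2) : Fin N) : ℕ)
        rw [hσv, e3v]; simp [hd]), act_blk_single, show act y (Pi.single 2 1) = ![1, 1, 1] from hy 0]
      funext i
      by_cases hi : ∃ k, (e3.trans σ.toEmbedding) k = i
      · obtain ⟨k, rfl⟩ := hi
        rw [eMat_mulVec_apply]
        show _ = repB ((σ (e3 k) : Fin N) : ℕ)
        rw [hσv, e3v]
        fin_cases k <;> simp [repB]
      · push Not at hi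
        rw [eMat_mulVec_out _ _ hi, repB, if_neg]
        rintro (h | h | h)
        · exact hi 2 (Fin.ext (by show ((σ (e3 2) : Fin N) : ℕ) = _; rw [hσv, e3v]; simp [h]))
        · exact hi 0 (Fin.ext (by show ((σ (e3 0) : Fin N) : ℕ) = _; rw [hσv, e3v]; simp [h]))
        · exact hi 1 (Fin.ext (by show ((σ (e3 1) : Fin N) : ℕ) = _; rw [hσv, e3v]; simp [h]))
    · show act ((ν' s.1 * Ψ₀ (bk y') * (ν' s.1)⁻¹).2 * ppHom (hstar := hstar) hF τ.1) _ = _
      rw [act_mul, act_ppHom, hπσ, show τ.1 d = (e3.trans s.1.toEmbedding) 2 from Fin.ext (by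
        show ((τ.1 d : Fin N) : ℕ) = ((s.1 (e3 2) : Fin N) : ℕ)
        rw [hτv, hsv _ (by rw [e3v]; decide), e3v]; simp [hd]), act_blk_single,
        show act y' (Pi.single 2 1) = ![1, l, 1] from hy' 0]
      funext i
      by_cases hi : ∃ k, (e3.trans s.1.toEmbedding) k = i
      · obtain ⟨k, rfl⟩ := hi
        rw [eMat_mulVec_apply]
        show _ = repV l ((s.1 (e3 k) : Fin N) : ℕ)
        rw [hsv _ (by rw [e3v]; omega), e3v]
        fin_cases k <;> simp [repV]
      · push Not at hi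
        have ne : ∀ k : Fin 3, (i : ℕ) ≠ (k : ℕ) + 2 := fun k h => hi k (Fin.ext (by
          show ((s.1 (e3 k) : Fin N) : ℕ) = _
          rw [hsv _ (by rw [e3v]; omega), e3v, h]))
        have n0 := ne 0
        have n1 := ne 1
        have n2 := ne 2
        rw [eMat_mulVec_out _ _ hi, repV, if_neg (by simp at n0 n2; omega), if_neg (by simp at n1; omega)]
  have hgen : Subgroup.closure ((D.B : Set ↥Hs) ∪ Set.range D.μ) = ⊤ := by
    rw [← Subgroup.map_injective Hs.subtype_injective |>.eq_iff, ← MonoidHom.range_eq_map, Subgroup.range_subtype]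
    refine le_antisymm (Subgroup.map_subtype_le _) (sup_le ?_ ?_)
    · rintro z ⟨y, rfl⟩
      exact ⟨⟨Ψ₀ y, Subgroup.mem_sup_left ⟨y, rfl⟩⟩,
        Subgroup.subset_closure (Or.inl (Subgroup.mem_subgroupOf.2 ⟨y, rfl⟩)), rfl⟩
    · rintro z ⟨σ, rfl⟩
      exact ⟨μ σ, Subgroup.subset_closure (Or.inr ⟨σ, rfl⟩), rfl⟩
  let E := MulEquiv.ofBijective D.π (D.bijective hF (Or.inr ⟨rfl, hsq⟩) hgen)
  let f : Cfsg.SU N F 2 →* G := ((MonoidHom.fst G _).comp Hs.subtype).comp E.symm.toMonoidHom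
  have hf : ∀ z ∈ Hs, z.1 ∈ f.range := fun z hz => ⟨E ⟨z, hz⟩, by
    show (E.symm (E ⟨z, hz⟩)).1.1 = _
    rw [MulEquiv.symm_apply_apply]⟩
  have hΦ₀f : Φ₀.range ≤ f.range := by
    rintro _ ⟨y, rfl⟩
    exact hf _ (Subgroup.mem_sup_left ⟨y, rfl⟩)
  have hνf : ∀ ρ, ν ρ ∈ f.range := by
    have heven : ∀ ρ, Perm.sign ρ = 1 → ν ρ ∈ f.range := fun ρ h =>
      hf _ (Subgroup.mem_sup_right ⟨⟨ρ, Perm.mem_alternatingGroup.2 h⟩, rfl⟩)
    intro ρ
    rcases Int.units_eq_one_or (Perm.sign ρ) with h | h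
    · exact heven ρ h
    · rw [show ρ = ρ * sw N 0 * sw N 0 by rw [mul_assoc, sw_sq, mul_one], map_mul]
      refine mul_mem (heven _ (by rw [map_mul, h, sign_sw (by omega)]; decide)) (hΦ₀f ?_)
      rw [hν 0 (by omega)]
      exact ⟨_, hΦw 0 (by norm_num)⟩
  refine ⟨f, fun i => ?_⟩
  induction i with
  | zero => intro _; exact le_trans (le_sup_left.trans rΦ.ge) hΦ₀f
  | succ i ih =>
    intro hi z hz
    obtain ⟨x, hx, rfl⟩ := (hshift i (by omega)).2 z hz
    exact mul_mem (mul_mem (hνf _) (ih (by omega) hx)) (inv_mem (hνf _))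

end Cfsg.Agent.Small.Phan
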