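import Cfsg.Agent.Lib.Small.Phan.TwoBasic
import Cfsg.Agent.Lib.Lie.SymCoxeter
import Cfsg.Agent.Lib.Small.SUPres.GlueGen

/-!
Adjacent transpositions, permutation matrices in characteristic two and symmetric groups from Moore's relations.
-/

set_option autoImplicit false
set_option linter.unusedSectionVars false
set_option linter.style.haveILetI false

namespace Cfsg.Agent.Small.Phan

open Matrix Equiv Cfsg.Agent.Small.Unitary Cfsg.Agent.Small.UCover Cfsg.Agent.Small.SUPres

universe u v

/-- The transposition of `i` and `i + 1`. -/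
def sw (N i : ℕ) : Perm (Fin N) :=
  if h : i + 1 < N then swap ⟨i, by omega⟩ ⟨i + 1, h⟩ else 1

theorem sw_eq {N i : ℕ} (h : i + 1 < N) : sw N i = swap ⟨i, by omega⟩ ⟨i + 1, h⟩ := dif_pos h

theorem sw_sq (N i : ℕ) : sw N i * sw N i = 1 := by
  unfold sw
  split_ifs
  · exact Equiv.swap_mul_self _ _
  · rw [mul_one]

theorem sw_val {N i : ℕ} (h : i + 1 < N) (x : Fin N) :
    ((sw N i x : Fin N) : ℕ) = if (x : ℕ) = i then i + 1 else if (x : ℕ) = i + 1 then i else x := by
  rw [sw_eq h, Equiv.swap_apply_def]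
  simp only [Fin.ext_iff]
  split_ifs <;> simp_all

theorem sw_fix {N i : ℕ} (x : Fin N) (h1 : (x : ℕ) ≠ i) (h2 : (x : ℕ) ≠ i + 1) : sw N i x = x := by
  by_cases h : i + 1 < N
  · exact Fin.ext (by rw [sw_val h, if_neg h1, if_neg h2])
  · rw [sw, dif_neg h]; rfl

/-- The permutations moving only points of an interval are generated by its adjacent transpositions. -/
theorem interval_gen {N a b : ℕ} (hb : b ≤ N) (M : Subgroup (Perm (Fin N)))
    (hM : ∀ i, a ≤ i → i + 1 < b → sw N i ∈ M) {σ : Perm (Fin N)}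
    (hσ : ∀ x : Fin N, (x : ℕ) < a ∨ b ≤ (x : ℕ) → σ x = x) : σ ∈ M := by
  induction hd : b - a generalizing a σ with
  | zero =>
    rw [show σ = 1 from Equiv.ext fun x => hσ x (by omega)]
    exact one_mem M
  | succ d ih =>
    have ha : a < N := by omega
    set k : Fin N := ⟨a, ha⟩ with hk
    set j := σ k with hj
    have hja : a ≤ (j : ℕ) ∧ (j : ℕ) < b := by
      by_contra h
      have hout : (j : ℕ) < a ∨ b ≤ (j : ℕ) := by omega
      have : j = k := σ.injective (hσ j hout)
      rw [this] at hout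
      simp [k] at hout
      omega
    have hc : ∀ m, a + m < b → ∃ c ∈ M, ((c k : Fin N) : ℕ) = a + m ∧
        ∀ x : Fin N, (x : ℕ) < a ∨ b ≤ (x : ℕ) → c x = x := by
      intro m
      induction m with
      | zero => exact fun _ => ⟨1, one_mem M, rfl, fun _ _ => rfl⟩
      | succ m ihm =>
        intro hm
        obtain ⟨c, hc, hck, hcx⟩ := ihm (by omega)
        refine ⟨sw N (a + m) * c, mul_mem (hM _ (by omega) (by omega)) hc, ?_, fun x hx => ?_⟩
        · rw [Perm.mul_apply, sw_val (by omega), if_pos hck]; omega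
        · rw [Perm.mul_apply, hcx x hx, sw_fix] <;> omega
    obtain ⟨c, hcM, hck, hcx⟩ := hc ((j : ℕ) - a) (by omega)
    have hmem : c⁻¹ * σ ∈ M := by
      refine ih (a := a + 1) (fun i hi hi' => hM i (by omega) hi') (fun x hx => ?_) (by omega)
      rw [Perm.mul_apply, Perm.inv_eq_iff_eq]
      rcases (by omega : (x : ℕ) = a ∨ ((x : ℕ) < a ∨ b ≤ (x : ℕ))) with e | e
      · rw [show x = k from Fin.ext e]
        exact Fin.ext (by rw [hck]; omega)
      · rw [hcx x e, hσ x e]
    rw [show σ = c * (c⁻¹ * σ) by rw [mul_inv_cancel_left]]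
    exact mul_mem hcM hmem

/-- Moore's relations give a homomorphism from the symmetric group. -/
theorem exists_sym {G : Type v} [Group G] {N : ℕ} (hN : 1 ≤ N) (w : ℕ → G)
    (h : Cfsg.Agent.Lie.SymRels w (N - 1)) :
    ∃ ν : Perm (Fin N) →* G, ∀ i, i + 1 < N → ν (sw N i) = w i := by
  classical
  let s : ℕ → G × Perm (Fin N) := fun i => (w i, sw N i)
  have hs : Cfsg.Agent.Lie.SymRels s (N - 1) := by
    refine ⟨fun i hi => Prod.ext (h.sq i hi) (sw_sq N i), fun i hi => Prod.ext (h.braid i hi) ?_,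
      fun i j hij hj => Prod.ext (h.comm i j hij hj) ?_⟩
    · refine Equiv.ext fun x => Fin.ext ?_
      simp only [s, Prod.snd_mul, Perm.mul_apply, sw_val (show i + 1 < N by omega),
        sw_val (show i + 1 + 1 < N by omega)]
      rcases (by omega : (x : ℕ) = i ∨ (x : ℕ) = i + 1 ∨ (x : ℕ) = i + 2 ∨
        ((x : ℕ) ≠ i ∧ (x : ℕ) ≠ i + 1 ∧ (x : ℕ) ≠ i + 2)) with e | e | e | e <;>
        simp (disch := omega) only [if_pos, if_neg, if_true, ↓reduceIte] <;> omega
    · refine Equiv.ext fun x => Fin.ext ?_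
      simp only [s, Prod.snd_mul, Perm.mul_apply, sw_val (show i + 1 < N by omega),
        sw_val (show j + 1 < N by omega)]
      rcases (by omega : (x : ℕ) = i ∨ (x : ℕ) = i + 1 ∨ (x : ℕ) = j ∨ (x : ℕ) = j + 1 ∨
        ((x : ℕ) ≠ i ∧ (x : ℕ) ≠ i + 1 ∧ (x : ℕ) ≠ j ∧ (x : ℕ) ≠ j + 1)) with e | e | e | e | e <;>
        simp (disch := omega) only [if_pos, if_neg, if_true, ↓reduceIte] <;> omega
  obtain ⟨hfin, hle⟩ := hs.bound
  rw [show N - 1 + 1 = N by omega] at hle
  set K := Subgroup.closure (s '' {i | i < N - 1}) with hK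
  let r : ↥K →* Perm (Fin N) := (MonoidHom.snd G _).comp K.subtype
  have hgens : ∀ i, i + 1 < N → s i ∈ K := fun i hi => Subgroup.subset_closure ⟨i, show i < N - 1 by omega, rfl⟩
  have hrs : Function.Surjective r := by
    rw [← MonoidHom.range_eq_top, eq_top_iff]
    intro σ _
    exact interval_gen (a := 0) (b := N) le_rfl r.range (fun i _ hi => ⟨⟨s i, hgens i hi⟩, rfl⟩)
      fun x hx => absurd hx (by have := x.isLt; omega)
  haveI := hfin
  have hcard : Nat.card ↥K = Nat.card (Perm (Fin N)) := by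
    refine le_antisymm ?_ (Nat.card_le_card_of_surjective r hrs)
    rw [Nat.card_perm, Nat.card_fin]
    exact hle
  let e := MulEquiv.ofBijective r ((Nat.bijective_iff_surjective_and_card r).2 ⟨hrs, hcard⟩)
  refine ⟨((MonoidHom.fst G _).comp K.subtype).comp e.symm.toMonoidHom, fun i hi => ?_⟩
  show (e.symm (sw N i)).1.1 = w i
  rw [show sw N i = e ⟨s i, hgens i hi⟩ from rfl, MulEquiv.symm_apply_apply]

/-! ### Permutation matrices -/

section PermMat

variable {F : Type u} [Field F] [Fintype F] [StarRing F] {hstar : ∀ x : F, star x = x ^ 2}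
  (hF : Fintype.card F = 2 ^ 2) {n k : ℕ}

include hstar hF

theorem ok_perm (σ : Perm (Fin n)) :
    ((σ.permMatrix F))ᴴ * σ.permMatrix F = 1 ∧ (σ.permMatrix F).det = 1 := by
  classical
  refine ⟨?_, ?_⟩
  · rw [Matrix.conjTranspose_permMatrix, ← Matrix.permMatrix_mul, mul_inv_cancel, Matrix.permMatrix_one]
  · rw [Matrix.det_permutation]
    rcases Int.units_eq_one_or (Perm.sign σ) with h | h <;> rw [h]
    · simp
    · simp [Two.neg_self hF]

/-- The permutation matrices as elements of the special unitary group. -/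
noncomputable def pp (σ : Perm (Fin n)) : Cfsg.SU n F 2 :=
  mkSU hstar ((σ⁻¹ : Perm (Fin n)).permMatrix F) (ok_perm (hstar := hstar) hF σ⁻¹).1 (ok_perm (hstar := hstar) hF σ⁻¹).2

theorem act_pp (σ : Perm (Fin n)) (i : Fin n) :
    act (pp (hstar := hstar) hF σ) (Pi.single i (1 : F)) = Pi.single (σ i) 1 := by
  show (σ⁻¹ : Perm (Fin n)).permMatrix F *ᵥ Pi.single i 1 = _
  funext j
  rw [Matrix.mulVec_single_one]
  simp [Equiv.Perm.permMatrix, Pi.single_apply, Equiv.Perm.inv_def, Equiv.symm_apply_eq]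

/-- The homomorphism to permutation matrices. -/
noncomputable def ppHom : Perm (Fin n) →* Cfsg.SU n F 2 where
  toFun := pp (hstar := hstar) hF
  map_one' := eq_of_single fun i => by rw [act_pp, act_one]; rfl
  map_mul' σ τ := eq_of_single fun i => by rw [act_mul, act_pp, act_pp, act_pp]; rfl

theorem act_pp_apply (σ : Perm (Fin n)) (x : Fin n → F) (i : Fin n) :
    act (ppHom (hstar := hstar) hF σ) x i = x (σ⁻¹ i) := by
  show ((σ⁻¹ : Perm (Fin n)).permMatrix F *ᵥ x) i = _
  exact congrFun (PEquiv.toMatrix_toPEquiv_mulVec (σ⁻¹ : Perm (Fin n)) x) i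

theorem act_ppHom (σ : Perm (Fin n)) (i : Fin n) :
    act (ppHom (hstar := hstar) hF σ) (Pi.single i (1 : F)) = Pi.single (σ i) 1 := act_pp (hstar := hstar) hF σ i

theorem permHom_eq (σ : alternatingGroup (Fin n)) : permHom hstar σ = ppHom (hstar := hstar) hF σ.1 :=
  eq_of_single fun i => by rw [act_permHom, act_ppHom]

theorem pp_eMat (σ : Perm (Fin n)) (e : Fin k ↪ Fin n) (v : Fin k → F) :
    act (ppHom (hstar := hstar) hF σ) (eMat e *ᵥ v) = eMat (e.trans σ.toEmbedding) *ᵥ v := by
  funext j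
  rw [act_pp_apply]
  by_cases hj : ∃ a, e a = σ⁻¹ j
  · obtain ⟨a, ha⟩ := hj
    rw [← ha, eMat_mulVec_apply, show j = (e.trans σ.toEmbedding) a by
      rw [Function.Embedding.trans_apply, ha]; exact (σ.apply_symm_apply j).symm, eMat_mulVec_apply]
  · push Not at hj
    rw [eMat_mulVec_out e v hj, eMat_mulVec_out _ v fun a h => hj a (by
      rw [← h, Function.Embedding.trans_apply]; exact (σ.symm_apply_apply (e a)).symm)]

/-- Permutation matrices move blocks. -/
theorem pp_blk (σ : Perm (Fin n)) (e : Fin k ↪ Fin n) (y : Cfsg.SU k F 2) :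
    ppHom (hstar := hstar) hF σ * blk hstar e y * (ppHom (hstar := hstar) hF σ)⁻¹ =
      blk hstar (e.trans σ.toEmbedding) y := by
  rw [mul_inv_eq_iff_eq_mul]
  refine eq_of_single fun i => ?_
  rw [act_mul, act_mul, act_ppHom]
  by_cases hi : ∃ a, e a = i
  · obtain ⟨a, rfl⟩ := hi
    rw [act_blk_single, pp_eMat]
    exact (act_blk_single hstar (e.trans σ.toEmbedding) y a).symm
  · push Not at hi
    rw [act_blk_out hstar e y hi, act_ppHom, act_blk_out hstar (e.trans σ.toEmbedding) y fun a h => hi a (σ.injective h)]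

omit hF in
theorem blk_congr {e e' : Fin k ↪ Fin n} (h : ∀ a, (e a : ℕ) = e' a) (y : Cfsg.SU k F 2) :
    blk hstar e y = blk hstar e' y := by
  rw [show e = e' from DFunLike.ext _ _ fun a => Fin.ext (h a)]

theorem pp_sw {i : ℕ} (h : i + 2 ≤ n) :
    ppHom (hstar := hstar) hF (sw n i) = blk hstar (seg 2 i h) (w2 hstar) := by
  refine eq_of_single fun x => ?_
  rw [act_ppHom]
  by_cases hx : ∃ a, seg 2 i h a = x
  · obtain ⟨a, rfl⟩ := hx
    rw [act_blk_single]
    fin_cases a
    · show _ = eMat _ *ᵥ act (w2 hstar) (Pi.single 0 1)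
      rw [act_w2_zero, Matrix.mulVec_neg, eMat_single]
      funext j
      rw [Pi.neg_apply, Two.neg_self hF]
      congr 1
      exact Fin.ext (by rw [sw_val (by omega)]; simp [seg_val])
    · show _ = eMat _ *ᵥ act (w2 hstar) (Pi.single 1 1)
      rw [act_w2_one, eMat_single]
      congr 1
      exact Fin.ext (by rw [sw_val (by omega)]; simp [seg_val])
  · push Not at hx
    rw [act_blk_out hstar _ _ hx, sw_fix]
    · exact fun e => hx 0 (Fin.ext (by simp [seg_val, e]))
    · exact fun e => hx 1 (Fin.ext (by simp [seg_val, e]))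

end PermMat

end Cfsg.Agent.Small.Phan
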